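import Cfsg.Agent.BenderWorld.NoKill.QuadPair
import Cfsg.Agent.PLocal.PSolvable
import Cfsg.Agent.PLocal.Cores
import Cfsg.Agent.Small.BaerSuzuki
import Cfsg.Prelude.Def_CaseTheorems

/-!
# Bender: a quadratic element killed by no involution lies in the odd core

`H` acts on an abelian group of odd prime exponent `q`, all involutions trivially, with solvable
kernel `C`; `x` is a quadratic `q`-element with `[C, x]` of odd order.  Then `x ∈ O(H)`.
-/

set_option autoImplicit false
set_option linter.style.haveILetI false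

namespace CfsgLib.BenderWorld.NoKill

open Subgroup

/-- In a group with trivial odd core, a solvable normal subgroup `N` contains the centraliser in
itself of `O₂(X) ⊓ N`. -/
theorem mem_pCore_two_of_centralizes {X : Type*} [Group X] [Finite X]
    (hX : Cfsg.pPrimeCore 2 X = ⊥) {N : Subgroup X} [N.Normal] (hsol : Group.IsSolvable N)
    {y : X} (hy : y ∈ N) (hc : ∀ v ∈ Cfsg.pCore 2 X, v ∈ N → Commute y v) :
    y ∈ Cfsg.pCore 2 X := by
  haveI : Fact (Nat.Prime 2) := ⟨Nat.prime_two⟩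
  have hN : Cfsg.pPrimeCore 2 N = ⊥ := by
    rw [← Subgroup.map_eq_bot_iff_of_injective _ N.subtype_injective, eq_bot_iff, ← hX]
    exact PLocal.pPrimeCore_map_subtype_le N
  have h : (⟨y, hy⟩ : N) ∈ Cfsg.pCore 2 N := by
    refine PLocal.centralizer_pCore_le PLocal.isPSolvable_of_isSolvable hN ?_
    rw [mem_centralizer_iff]
    exact fun v hv => Subtype.ext (hc v (PLocal.pCore_map_subtype_le N ⟨v, hv, rfl⟩) v.2).eq.symm
  exact PLocal.pCore_map_subtype_le N ⟨_, h, rfl⟩

theorem eq_one_of_pow {G : Type*} [Group G] {g : G} {m n : ℕ} (hm : g ^ m = 1) (hn : g ^ n = 1)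
    (hco : Nat.Coprime m n) : g = 1 := by
  rw [← pow_one g, ← hco.gcd_eq_one]
  exact pow_gcd_eq_one.2 ⟨hm, hn⟩

/-- A noncentral element all whose commutators are central, in a finite nonabelian `2`-group. -/
theorem exists_second_central {U : Type*} [Group U] [Finite U] (hU : IsPGroup 2 U)
    (hna : ∃ a b : U, ¬ Commute a b) :
    ∃ u v : U, ¬ Commute u v ∧ ∀ w, u * w * u⁻¹ * w⁻¹ ∈ center U := by
  haveI : Fact (Nat.Prime 2) := ⟨Nat.prime_two⟩
  obtain ⟨a, b, hab⟩ := hna
  haveI : Nontrivial (U ⧸ center U) := by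
    rw [QuotientGroup.nontrivial_iff]
    intro h
    exact hab ((mem_center_iff.1 (h ▸ mem_top a : a ∈ center U) b).symm)
  haveI := (hU.to_quotient (center U)).center_nontrivial
  obtain ⟨⟨z, hz⟩, hz1⟩ := exists_ne (1 : center (U ⧸ center U))
  obtain ⟨u, rfl⟩ := QuotientGroup.mk'_surjective (center U) z
  have hu : u ∉ center U := fun h => hz1 (Subtype.ext ((QuotientGroup.eq_one_iff u).2 h))
  obtain ⟨v, hv⟩ : ∃ v, ¬ Commute u v := by
    by_contra! h
    exact hu (mem_center_iff.2 fun g => (h g).symm.eq)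
  refine ⟨u, v, hv, fun w => (QuotientGroup.eq_one_iff _).1 ?_⟩
  have h := mem_center_iff.1 hz (QuotientGroup.mk' (center U) w)
  simp only [QuotientGroup.mk'_apply] at h
  rw [QuotientGroup.mk_mul, QuotientGroup.mk_mul, QuotientGroup.mk_mul, QuotientGroup.mk_inv,
    QuotientGroup.mk_inv, ← h]
  group

theorem mem_oddCore_of_unmoved {H : Type*} [Group H] [Finite H] {A : Type*} [AddCommGroup A]
    [Finite A] {q : ℕ} [Fact q.Prime] (hq2 : q ≠ 2) (hA : ∀ v : A, q • v = 0)
    (ρ : H →* AddMonoid.End A) (hinv : ∀ s : H, orderOf s = 2 → ρ s = 1)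
    (hsol : Group.IsSolvable ρ.ker) {x : H} (hxq : ∃ k : ℕ, x ^ q ^ k = 1)
    (hxC : ∀ c : H, ρ c = 1 → Odd (orderOf (c * x * c⁻¹ * x⁻¹)))
    (hx : (ρ x - 1) * (ρ x - 1) = 0) : x ∈ Cfsg.oddCore H := by
  classical
  haveI : Fact (Nat.Prime 2) := ⟨Nat.prime_two⟩
  have hco : ∀ a b : ℕ, Nat.Coprime (q ^ a) (2 ^ b) := fun a b =>
    Nat.Coprime.pow a b ((Nat.coprime_primes Fact.out Nat.prime_two).2 hq2)
  set π := QuotientGroup.mk' (Cfsg.oddCore H) with hπdef
  have hπs : Function.Surjective π := QuotientGroup.mk'_surjective _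
  have hX : Cfsg.pPrimeCore 2 (H ⧸ Cfsg.oddCore H) = ⊥ :=
    PLocal.pPrimeCore_quotient_pPrimeCore_eq_bot 2 H
  have hO : Odd (Nat.card (Cfsg.oddCore H)) :=
    Nat.coprime_two_right.mp (PLocal.coprime_card_pPrimeCore 2 H)
  haveI hCn : (ρ.ker.map π).Normal := Subgroup.Normal.map inferInstance π hπs
  haveI := hsol
  have hCs : Group.IsSolvable (ρ.ker.map π) :=
    Group.isSolvable_of_surjective (π.subgroupMap_surjective ρ.ker)
  -- involutions of the quotient come from the kernel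
  have hlift : ∀ y : H, π y * π y = 1 → π y ∈ ρ.ker.map π := by
    intro y hy
    obtain ⟨m, hm⟩ := hO
    have hy2 : y * y ∈ Cfsg.oddCore H := (QuotientGroup.eq_one_iff _).1 hy
    have hyk : (y * y) ^ Nat.card (Cfsg.oddCore H) = 1 := congrArg Subtype.val (pow_card_eq_one' (x := (⟨_, hy2⟩ : Cfsg.oddCore H)))
    set k := 2 * m + 1
    rw [hm] at hyk
    have hπk : π (y ^ k) = π y := by
      rw [map_pow, show k = 2 * m + 1 from rfl, pow_succ, pow_mul, pow_two, hy, one_pow, one_mul]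
    refine ⟨y ^ k, ?_, hπk⟩
    show ρ (y ^ k) = 1
    by_cases h1 : y ^ k = 1
    · rw [h1, map_one]
    · refine hinv _ (orderOf_eq_prime (p := 2) ?_ h1)
      rw [← pow_mul, mul_comm, pow_mul, pow_two, hyk]
  -- `x` centralises `O₂(X) ⊓ C̄`
  have hcent : ∀ v ∈ Cfsg.pCore 2 (H ⧸ Cfsg.oddCore H), v ∈ ρ.ker.map π → Commute (π x) v := by
    rintro v hv ⟨c, hc, rfl⟩
    have hw : π (c * x * c⁻¹ * x⁻¹) ∈ Cfsg.pCore 2 (H ⧸ Cfsg.oddCore H) := by
      have h := mul_mem hv (Subgroup.Normal.conj_mem inferInstance _ (inv_mem hv) (π x))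
      simpa only [map_mul, map_inv, mul_assoc] using h
    obtain ⟨n, hn⟩ := PLocal.isPGroup_pCore 2 _ ⟨_, hw⟩
    have h1 : π (c * x * c⁻¹ * x⁻¹) ^ orderOf (c * x * c⁻¹ * x⁻¹) = 1 := by
      rw [← map_pow, pow_orderOf_eq_one, map_one]
    have h := eq_one_of_pow h1 (congrArg Subtype.val hn)
      ((Nat.coprime_two_right.2 (hxC c hc)).pow_right n)
    rw [map_mul, map_mul, map_mul, map_inv, map_inv, mul_inv_eq_one, mul_inv_eq_iff_eq_mul] at h
    exact h.symm
  obtain ⟨kx, hkx⟩ := hxq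
  by_contra hxO
  have hπx : π x ≠ 1 := fun h => hxO ((QuotientGroup.eq_one_iff x).1 h)
  set mC := QuotientGroup.mk' ρ.ker with hmC
  by_cases hY : mC x ∈ Cfsg.pCore q (H ⧸ ρ.ker)
  · -- the case of a normal `q`-section
    set Y := (Cfsg.pCore q (H ⧸ ρ.ker)).comap mC with hYdef
    haveI : Y.Normal := Subgroup.Normal.comap inferInstance mC
    haveI : (Y.map π).Normal := Subgroup.Normal.map inferInstance π hπs
    haveI hYs : Group.IsSolvable Y := by
      haveI : Group.IsNilpotent (Cfsg.pCore q (H ⧸ ρ.ker)) :=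
        (PLocal.isPGroup_pCore q _).isNilpotent
      haveI : Group.IsSolvable ((mC.comp Y.subtype).codRestrict (Cfsg.pCore q (H ⧸ ρ.ker))
          (fun y => y.2)).range := inferInstance
      refine Group.isSolvable_of_ker_le_range (Subgroup.inclusion (K := Y) (fun c hc => ?_ : ρ.ker ≤ Y))
        ((mC.comp Y.subtype).codRestrict (Cfsg.pCore q (H ⧸ ρ.ker)) (fun y => y.2)) ?_
      · show mC c ∈ Cfsg.pCore q (H ⧸ ρ.ker)
        rw [show mC c = 1 from (QuotientGroup.eq_one_iff c).2 hc]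
        exact one_mem _
      · intro y hy
        exact ⟨⟨y, (QuotientGroup.eq_one_iff (y : H)).1 (congrArg Subtype.val hy)⟩, rfl⟩
    have hYπ : Group.IsSolvable (Y.map π) :=
      Group.isSolvable_of_surjective (π.subgroupMap_surjective Y)
    have h2 : π x ∈ Cfsg.pCore 2 (H ⧸ Cfsg.oddCore H) := by
      refine mem_pCore_two_of_centralizes hX hYπ ⟨x, hY, rfl⟩ ?_
      rintro v hv ⟨y, hy, rfl⟩
      refine hcent _ hv ?_
      obtain ⟨m, hm⟩ := PLocal.isPGroup_pCore q _ ⟨_, hy⟩
      obtain ⟨n, hn⟩ := PLocal.isPGroup_pCore 2 _ ⟨_, hv⟩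
      have hm' : mC (y ^ q ^ m) = 1 := by
        rw [map_pow]; exact congrArg Subtype.val hm
      have hyC : π y ^ q ^ m ∈ ρ.ker.map π :=
        ⟨y ^ q ^ m, (QuotientGroup.eq_one_iff _).1 hm', map_pow π y _⟩
      refine (QuotientGroup.eq_one_iff (N := ρ.ker.map π) _).1 (eq_one_of_pow
        ((QuotientGroup.mk_pow _ _ _).symm.trans ((QuotientGroup.eq_one_iff _).2 hyC))
        ((QuotientGroup.mk_pow _ _ _).symm.trans ?_) (hco m n))
      rw [show π y ^ 2 ^ n = 1 from congrArg Subtype.val hn]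
      rfl
    obtain ⟨n, hn⟩ := PLocal.isPGroup_pCore 2 _ ⟨_, h2⟩
    exact hπx (eq_one_of_pow (by rw [← map_pow, hkx, map_one]) (congrArg Subtype.val hn) (hco kx n))
  · -- two conjugates of `x` with image no `q`-group
    obtain ⟨g, l, hl, hlq⟩ : ∃ g : H, ∃ l ∈ closure ({x, g * x * g⁻¹} : Set H),
        ∀ k : ℕ, ρ (l ^ q ^ k) ≠ 1 := by
      by_contra! h
      refine hY ?_
      obtain ⟨N, hNn, hNp, hxN⟩ := Small.baerSuzuki_elem (p := q) (mC x) fun z => by
        obtain ⟨g, rfl⟩ := QuotientGroup.mk'_surjective ρ.ker z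
        rw [← map_inv, ← map_mul, ← map_mul, ← Set.image_pair, ← MonoidHom.map_closure]
        rintro ⟨_, l, hl, rfl⟩
        obtain ⟨k, hk⟩ := h g l hl
        exact ⟨k, Subtype.ext (by
          show mC l ^ q ^ k = 1
          rw [← map_pow]; exact (QuotientGroup.eq_one_iff _).2 hk)⟩
      haveI := hNn
      exact PLocal.le_pCore hNp hxN
    set x' := g * x * g⁻¹ with hx'def
    set L := closure ({x, x'} : Set H) with hLdef
    have hxL : x ∈ L := subset_closure (by simp)
    have hx'L : x' ∈ L := subset_closure (by simp)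
    have hx' : (ρ x' - 1) * (ρ x' - 1) = 0 := by
      have e : ρ x' - 1 = ρ g * (ρ x - 1) * ρ g⁻¹ := by
        rw [mul_sub, sub_mul, mul_one, ← map_mul, ← map_mul, ← map_mul, mul_inv_cancel, map_one]
      rw [e, show ρ g * (ρ x - 1) * ρ g⁻¹ * (ρ g * (ρ x - 1) * ρ g⁻¹)
        = ρ g * ((ρ x - 1) * (ρ g⁻¹ * ρ g) * (ρ x - 1)) * ρ g⁻¹ by simp only [mul_assoc],
        ← map_mul, inv_mul_cancel, map_one, mul_one, hx, mul_zero, zero_mul]
    -- `L` centralises `O₂(X) ⊓ C̄`
    have hcent' : ∀ y ∈ L, ∀ v ∈ Cfsg.pCore 2 (H ⧸ Cfsg.oddCore H), v ∈ ρ.ker.map π →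
        Commute (π y) v := by
      intro y hy v hv hvC
      induction hy using Subgroup.closure_induction with
      | mem z hz =>
        rcases hz with rfl | rfl
        · exact hcent v hv hvC
        · have h := hcent _ (Subgroup.Normal.conj_mem inferInstance v hv (π g)⁻¹)
            (hCn.conj_mem v hvC (π g)⁻¹)
          rw [hx'def, map_mul, map_mul, map_inv]
          have h' := (Commute.map h (MulAut.conj (π g)).toMonoidHom)
          simpa [MulAut.conj_apply, mul_assoc] using h'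
      | one => rw [map_one]; exact Commute.one_left _
      | mul a b _ _ ha hb => rw [map_mul]; exact ha.mul_left hb
      | inv a _ ha => rw [map_inv]; exact ha.inv_left
    -- `ρ`-central 2-elements of `L` are central in the image of `L`
    have hkey : ∀ e ∈ L, (∃ n, e ^ 2 ^ n = 1) → (∀ s ∈ L, Commute (ρ e) (ρ s)) →
        ∀ s ∈ L, Commute (π e) (π s) := by
      intro e he _ hec s hs
      have hgenr : ∀ z ∈ L, (∃ k, z ^ q ^ k = 1) → Commute (π e) (π z) := by
        rintro z hz ⟨k, hk⟩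
        have hC : e * z * e⁻¹ * z⁻¹ ∈ ρ.ker := by
          show ρ (e * z * e⁻¹ * z⁻¹) = 1
          rw [map_mul, map_mul, map_mul, (hec z hz).eq, mul_assoc (ρ z), ← map_mul ρ e,
            mul_inv_cancel, map_one, mul_one, ← map_mul, mul_inv_cancel, map_one]
        set c := π (e * z * e⁻¹ * z⁻¹) with hcdef
        have hcL : e * z * e⁻¹ * z⁻¹ ∈ L :=
          mul_mem (mul_mem (mul_mem he hz) (inv_mem he)) (inv_mem hz)
        have hcC : c ∈ ρ.ker.map π := ⟨_, hC, rfl⟩
        have hc2 : c ∈ Cfsg.pCore 2 (H ⧸ Cfsg.oddCore H) :=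
          mem_pCore_two_of_centralizes hX hCs hcC (hcent' _ hcL)
        have hcz : Commute c (π z) := (hcent' z hz c hc2 hcC).symm
        obtain ⟨n, hn⟩ := PLocal.isPGroup_pCore 2 _ ⟨_, hc2⟩
        have hzk : π z ^ q ^ k = 1 := by rw [← map_pow, hk, map_one]
        have e1 : c * π z = π e * π z * (π e)⁻¹ := by
          rw [hcdef, map_mul, map_mul, map_mul, map_inv, map_inv, inv_mul_cancel_right]
        have hck : c ^ q ^ k = 1 := by
          have h := hcz.mul_pow (q ^ k)
          rwa [e1, conj_pow, hzk, mul_one, mul_one, mul_inv_cancel, eq_comm] at h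
        have hc1 : c = 1 := eq_one_of_pow hck (congrArg Subtype.val hn) (hco k n)
        rw [hc1, one_mul, eq_mul_inv_iff_mul_eq] at e1
        exact e1.symm
      induction hs using Subgroup.closure_induction with
      | mem z hz =>
        rcases hz with rfl | rfl
        · exact hgenr _ hxL ⟨kx, hkx⟩
        · exact hgenr _ hx'L ⟨kx, by rw [hx'def, conj_pow, hkx, mul_one, mul_inv_cancel]⟩
      | one => rw [map_one]; exact Commute.one_right _
      | mul a b _ _ ha hb => rw [map_mul]; exact ha.mul_right hb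
      | inv a _ ha => rw [map_inv]; exact ha.inv_right
    -- the two elements
    let ρL : L →* AddMonoid.End A := ρ.comp L.subtype
    let a : L := ⟨x, hxL⟩
    let b : L := ⟨x', hx'L⟩
    have hgen : closure ({a, b} : Set L) = ⊤ := by
      rw [← Subgroup.closure_closure_coe_preimage (k := ({x, x'} : Set H))]
      congr 1
      ext y
      simp [a, b, Subtype.ext_iff]
    obtain ⟨T⟩ : Nonempty (Sylow 2 L) := Sylow.nonempty
    obtain ⟨i₀, hi₀, j₀, hj₀, hij₀⟩ := QuadPair.exists_noncommute (ρ := ρL) (a := a) (b := b) hq2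
      hA hgen hx hx' T ⟨⟨l, hl⟩, hlq⟩
    set σ : (T : Subgroup L) →* (AddMonoid.End A)ˣ := ρL.toHomUnits.comp (T : Subgroup L).subtype
    haveI : Finite σ.range := Finite.of_surjective σ.rangeRestrict σ.rangeRestrict_surjective
    obtain ⟨u, v, huv, hcen⟩ := exists_second_central
      (T.isPGroup'.of_surjective σ.rangeRestrict σ.rangeRestrict_surjective)
      ⟨σ.rangeRestrict ⟨i₀, hi₀⟩, σ.rangeRestrict ⟨j₀, hj₀⟩, fun h => hij₀
        (congrArg (fun w : σ.range => ((w : (AddMonoid.End A)ˣ) : AddMonoid.End A)) h.eq)⟩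
    obtain ⟨⟨i, hi⟩, rfl⟩ := σ.rangeRestrict_surjective u
    obtain ⟨⟨j, hj⟩, rfl⟩ := σ.rangeRestrict_surjective v
    have hcomm : ∀ s ∈ (T : Subgroup L), ∀ t ∈ (T : Subgroup L),
        Commute (ρL (i * s * i⁻¹ * s⁻¹)) (ρL t) := by
      intro s hs t ht
      have h := mem_center_iff.1 (hcen (σ.rangeRestrict ⟨s, hs⟩)) (σ.rangeRestrict ⟨t, ht⟩)
      simp only [← map_inv, ← map_mul] at h
      have h' := congrArg (fun w : σ.range => ((w : (AddMonoid.End A)ˣ) : AddMonoid.End A)) h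
      show ρL (i * s * i⁻¹ * s⁻¹) * ρL t = ρL t * ρL (i * s * i⁻¹ * s⁻¹)
      rw [← map_mul, ← map_mul]
      exact h'.symm
    have hsq : ∀ e ∈ (T : Subgroup L), (∀ t ∈ (T : Subgroup L), Commute (ρL e) (ρL t)) →
        ρL e * ρL e = 1 := fun e he h =>
      QuadPair.sq_eq_one_of_commute_sylow hq2 hgen T _ A rfl hA ρL hx hx' e he h
    have hmem : ∀ s ∈ (T : Subgroup L), i * s * i⁻¹ * s⁻¹ ∈ (T : Subgroup L) := fun s hs =>
      mul_mem (mul_mem (mul_mem hi hs) (inv_mem hi)) (inv_mem hs)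
    have hii : ∀ s ∈ (T : Subgroup L), Commute (ρL (i * i)) (ρL s) := by
      intro s hs
      set c := i * s * i⁻¹ * s⁻¹ with hc
      have e1 : ρL i * ρL s = ρL c * ρL s * ρL i := by
        rw [← map_mul, ← map_mul, ← map_mul, hc]; congr 1; group
      have hci : ρL i * ρL c = ρL c * ρL i := ((hcomm s hs i hi)).eq.symm
      have hcc : ρL c * ρL c = 1 := hsq c (hmem s hs) (hcomm s hs)
      show ρL (i * i) * ρL s = ρL s * ρL (i * i)
      calc ρL (i * i) * ρL s = ρL i * (ρL i * ρL s) := by rw [map_mul, mul_assoc]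
        _ = ρL i * (ρL c * ρL s * ρL i) := by rw [e1]
        _ = ρL i * ρL c * (ρL s * ρL i) := by simp only [mul_assoc]
        _ = ρL c * (ρL i * ρL s) * ρL i := by rw [hci]; simp only [mul_assoc]
        _ = ρL c * (ρL c * ρL s * ρL i) * ρL i := by rw [e1]
        _ = ρL c * ρL c * (ρL s * (ρL i * ρL i)) := by simp only [mul_assoc]
        _ = _ := by rw [hcc, one_mul, map_mul]
    have h2el : ∀ e ∈ (T : Subgroup L), ∃ n, (e : H) ^ 2 ^ n = 1 := fun e he => by
      obtain ⟨n, hn⟩ := T.isPGroup' ⟨e, he⟩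
      exact ⟨n, congrArg Subtype.val (congrArg Subtype.val hn)⟩
    have hbig : ∀ e ∈ (T : Subgroup L), (∀ t ∈ (T : Subgroup L), Commute (ρL e) (ρL t)) →
        ∀ s : L, Commute (π e) (π s) := fun e he h s =>
      hkey e e.2 (h2el e he) (fun t ht => QuadPair.invol_commute hq2 hA hgen hx hx'
        (hsq e he h) ⟨t, ht⟩) s s.2
    set g₀ : L := i * j * i⁻¹ * j⁻¹ with hg₀
    have hgne : ρL g₀ ≠ 1 := by
      intro h
      refine huv (Subtype.ext (Units.ext ?_))
      show ρL i * ρL j = ρL j * ρL i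
      calc ρL i * ρL j = ρL (g₀ * (j * i)) := by rw [← map_mul, hg₀]; congr 1; group
        _ = _ := by rw [map_mul, h, one_mul, map_mul]
    have hgg : π g₀ * π g₀ = 1 := by
      have c1 := (hbig g₀ (hmem j hj) (hcomm j hj) i).eq
      have c2 := (hbig (i * i) (mul_mem hi hi) hii j).eq
      have e1 : π i * π j = π g₀ * π j * π i := by
        rw [← map_mul, ← map_mul, ← map_mul]; congr 1
        rw [hg₀]; simp only [Subgroup.coe_mul, InvMemClass.coe_inv]; group
      rw [Subgroup.coe_mul, map_mul] at c2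
      have e2 : π i * π i * π j = π g₀ * π g₀ * (π j * (π i * π i)) := by
        calc π i * π i * π j = π i * (π g₀ * π j * π i) := by rw [mul_assoc, e1]
          _ = π g₀ * π i * (π j * π i) := by rw [c1]; simp only [mul_assoc]
          _ = π g₀ * (π g₀ * π j * π i) * π i := by rw [← e1]; simp only [mul_assoc]
          _ = _ := by simp only [mul_assoc]
      rw [c2] at e2
      exact mul_eq_right.1 e2.symm
    obtain ⟨c₀, hc₀, hc₀'⟩ := hlift g₀ hgg
    obtain ⟨w, hw, hwe⟩ : ∃ w ∈ Cfsg.oddCore H, (g₀ : H) = c₀ * w :=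
      ⟨c₀⁻¹ * g₀, QuotientGroup.eq.1 hc₀', by group⟩
    have hρw : ρL g₀ = ρ w := by
      show ρ (g₀ : H) = ρ w
      rw [hwe, map_mul, show ρ c₀ = 1 from hc₀, one_mul]
    have hgsq := hsq g₀ (hmem j hj) (hcomm j hj)
    obtain ⟨m, hm⟩ := hO
    have hwk : ρ w ^ (2 * m + 1) = 1 := by
      rw [← map_pow, ← hm]
      have : w ^ Nat.card (Cfsg.oddCore H) = 1 :=
        congrArg Subtype.val (pow_card_eq_one' (x := (⟨w, hw⟩ : Cfsg.oddCore H)))
      rw [this, map_one]
    rw [← hρw, pow_succ, pow_mul, pow_two, hgsq, one_pow, one_mul] at hwk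
    exact hgne hwk

end CfsgLib.BenderWorld.NoKill
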