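import Cfsg.Agent.BenderWorld.NoKill.Moved
import Cfsg.Agent.BenderWorld.NoKill.Unmoved

/-!
# The quadratic lemmas on sections of a normal `q`-subgroup

`mem_oddCore_of_moved_pGroup`: NQ on a moved chief factor inside a normal `q`-subgroup `P`.
`mem_oddCore_of_unmoved_abelian`: NQ0 on an elementary abelian normal subgroup.
-/

set_option autoImplicit false
set_option linter.style.haveILetI false

namespace CfsgLib.BenderWorld.NoKill

open Cfsg Subgroup
open scoped commutatorElement IsMulCommutative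

variable {H : Type*} [Group H]

/-- Conjugation on an abelian normal subgroup, as endomorphisms. -/
noncomputable def conjEnd (V : Subgroup H) [V.Normal] [IsMulCommutative V] :
    H →* AddMonoid.End (Additive V) where
  toFun g := (MulAut.conjNormal g).toMonoidHom.toAdditive
  map_one' := by rw [map_one]; rfl
  map_mul' g h := by rw [map_mul]; rfl

theorem conjEnd_apply (V : Subgroup H) [V.Normal] [IsMulCommutative V] (g : H) (v : Additive V) :
    ((conjEnd V g v).toMul : H) = g * (v.toMul : H) * g⁻¹ :=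
  MulAut.conjNormal_apply g v.toMul

theorem conjEnd_eq_one_iff (V : Subgroup H) [V.Normal] [IsMulCommutative V] {g : H} :
    conjEnd V g = 1 ↔ ∀ v ∈ V, Commute v g := by
  constructor
  · intro h v hv
    have h1 := congrArg (fun z : Additive V => (z.toMul : H))
      (DFunLike.congr_fun h (Additive.ofMul (⟨v, hv⟩ : V)))
    rw [conjEnd_apply] at h1
    exact (mul_inv_eq_iff_eq_mul.1 h1).symm
  · intro h
    refine DFunLike.ext _ _ fun v => Additive.toMul.injective (Subtype.ext ?_)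
    rw [conjEnd_apply, (h _ v.toMul.2).symm.eq, mul_inv_cancel_right]
    rfl

theorem conjEnd_sub_one_sq (V : Subgroup H) [V.Normal] [IsMulCommutative V] {x : H}
    (hx : ∀ w ∈ V, Commute ⁅w, x⁆ x) : (conjEnd V x - 1) * (conjEnd V x - 1) = 0 := by
  refine DFunLike.ext _ _ fun v => ?_
  show conjEnd V x (conjEnd V x v - v) - (conjEnd V x v - v) = 0
  rw [sub_eq_zero]
  refine Additive.toMul.injective (Subtype.ext ?_)
  rw [conjEnd_apply]
  have e : ((conjEnd V x v - v).toMul : H) = ⁅(v.toMul : H), x⁆⁻¹ := by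
    rw [commutatorElement_inv, commutatorElement_def, sub_eq_add_neg, toMul_add, toMul_neg,
      Subgroup.coe_mul, Subgroup.coe_inv, conjEnd_apply]
  rw [e, (hx _ v.toMul.2).inv_left.symm.eq, mul_inv_cancel_right]

theorem nsmul_additive_eq_zero (V : Subgroup H) [IsMulCommutative V] {q : ℕ}
    (hexp : ∀ v ∈ V, v ^ q = 1) (v : Additive V) : q • v = 0 :=
  Additive.toMul.injective (Subtype.ext (by
    rw [toMul_nsmul, Subgroup.coe_pow, hexp _ v.toMul.2]; rfl))

variable [Finite H] {q : ℕ} [Fact q.Prime]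

/-- A normal subgroup is abelian of exponent `q` if it is a minimal normal `q`-subgroup. -/
theorem elementary_of_minimal {V : Subgroup H} (hVn : V.Normal) (hV : IsPGroup q V)
    (hne : V ≠ ⊥) (hmin : ∀ R : Subgroup H, R.Normal → R ≤ V → R = ⊥ ∨ R = V) :
    IsMulCommutative V ∧ ∀ v ∈ V, v ^ q = 1 := by
  haveI : Nontrivial V := (nontrivial_iff_ne_bot V).2 hne
  haveI := hV.center_nontrivial
  haveI := hVn
  have hZn : ((center V).map V.subtype).Normal := inferInstance
  have hZ : (center V).map V.subtype = V := (hmin _ hZn (map_subtype_le _)).resolve_left fun h => by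
    rw [map_eq_bot_iff_of_injective _ V.subtype_injective] at h
    exact (nontrivial_iff_ne_bot _).1 inferInstance h
  have hcomm : ∀ u v : V, u * v = v * u := fun u v => by
    obtain ⟨u', hu', hu⟩ : (u : H) ∈ (center V).map V.subtype := hZ.symm.le u.2
    rw [show u = u' from Subtype.ext hu.symm]
    exact ((mem_center_iff.1 hu') v).symm
  refine ⟨⟨⟨hcomm⟩⟩, ?_⟩
  let E : Subgroup H :=
    { carrier := {v | v ∈ V ∧ v ^ q = 1}
      one_mem' := ⟨one_mem V, one_pow q⟩
      mul_mem' := fun {a b} ha hb => ⟨mul_mem ha.1 hb.1, by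
        rw [Commute.mul_pow (congrArg Subtype.val (hcomm ⟨a, ha.1⟩ ⟨b, hb.1⟩)) q, ha.2, hb.2,
          mul_one]⟩
      inv_mem' := fun {a} ha => ⟨inv_mem ha.1, by rw [inv_pow, ha.2, inv_one]⟩ }
  have hEn : E.Normal := ⟨fun a ha g => ⟨hVn.conj_mem a ha.1 g, by
    rw [conj_pow, ha.2, mul_one, mul_inv_cancel]⟩⟩
  have hE : E = V := (hmin E hEn fun v hv => hv.1).resolve_left fun h => by
    obtain ⟨v, hv⟩ := exists_prime_orderOf_dvd_card' q
      (by
        obtain ⟨k, hk⟩ := IsPGroup.iff_card.1 hV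
        rcases k with _ | k
        · exact absurd (card_eq_one.1 (by simpa using hk)) hne
        · exact ⟨q ^ k, by rw [hk, pow_succ']⟩)
    have hvE : (v : H) ∈ E :=
      ⟨v.2, by rw [← Subgroup.coe_pow, ← hv, pow_orderOf_eq_one, Subgroup.coe_one]⟩
    rw [h, mem_bot] at hvE
    rw [show v = 1 from Subtype.ext hvE, orderOf_one] at hv
    exact (Fact.out : q.Prime).ne_one hv.symm
  exact fun v hv => (hE ▸ hv : v ∈ E).2

/-- **NQ on sections.** A `q`-element centralising the involutions modulo the odd core and acting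
quadratically on a moved normal `q`-subgroup lies in the odd core. -/
theorem mem_oddCore_of_moved_pGroup (hq2 : q ≠ 2)
    (hconj : ∀ s t : H, orderOf s = 2 → orderOf t = 2 → IsConj s t)
    (hfour : ∃ s t : H, orderOf s = 2 ∧ orderOf t = 2 ∧ s ≠ t ∧ Commute s t)
    (helem : ∀ s t : H, orderOf s = 2 → orderOf t = 2 → s * t * s⁻¹ * t⁻¹ ∈ Cfsg.oddCore H)
    {P : Subgroup H} [P.Normal] (hP : IsPGroup q P)
    (hmoved : ∃ s : H, orderOf s = 2 ∧ ∃ w ∈ P, ¬ Commute w s) {x : H}
    (hxq : ∃ k : ℕ, x ^ q ^ k = 1)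
    (hxL : ∀ s : H, orderOf s = 2 → s * x * s⁻¹ * x⁻¹ ∈ Cfsg.oddCore H)
    (hx : ∀ w ∈ P, Commute ⁅w, x⁆ x) : x ∈ Cfsg.oddCore H := by
  let Moved : Subgroup H → Prop := fun Q =>
    Q.Normal ∧ Q ≤ P ∧ ∃ s : H, orderOf s = 2 ∧ ∃ w ∈ Q, ¬ Commute w s
  obtain ⟨P₁, -, hP₁⟩ := Finite.exists_le_minimal (p := Moved) (a := P)
    ⟨inferInstance, le_rfl, hmoved⟩
  obtain ⟨hP₁n, hP₁P, s, hs, w, hw, hws⟩ := hP₁.1
  haveI := hP₁n
  have hne₁ : P₁ ≠ ⊥ := fun h => hws (by rw [mem_bot.1 (h.le hw)]; exact Commute.one_left s)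
  obtain ⟨N, -, hN⟩ := Finite.exists_le_maximal
    (p := fun R : Subgroup H => R.Normal ∧ R < P₁) (a := ⊥) ⟨inferInstance, bot_lt_iff_ne_bot.2 hne₁⟩
  obtain ⟨hNn, hNlt⟩ := hN.1
  haveI := hNn
  have hNfix : ∀ v ∈ N, Commute v s := fun v hv => by
    by_contra h
    exact hNlt.not_ge (hP₁.2 (y := N) ⟨hNn, hNlt.le.trans hP₁P, s, hs, v, hv, h⟩ hNlt.le)
  set π := QuotientGroup.mk' N with hπ
  set V := P₁.map π with hV
  have hVn : V.Normal := hP₁n.map π (QuotientGroup.mk'_surjective N)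
  have hVne : V ≠ ⊥ := fun h => by
    rw [hV, Subgroup.map_eq_bot_iff, QuotientGroup.ker_mk'] at h
    exact hNlt.not_ge h
  have hmin : ∀ R : Subgroup (H ⧸ N), R.Normal → R ≤ V → R = ⊥ ∨ R = V := by
    intro R hR hRV
    have hle : N ≤ R.comap π := fun n hn => by
      rw [mem_comap, hπ, QuotientGroup.mk'_apply, (QuotientGroup.eq_one_iff n).2 hn]
      exact one_mem R
    have hRP : R.comap π ≤ P₁ := by
      refine (comap_mono hRV).trans ?_
      rw [hV, comap_map_eq, QuotientGroup.ker_mk']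
      exact sup_le le_rfl hNlt.le
    rcases hRP.eq_or_lt with h | h
    · right
      rw [hV, ← h, map_comap_eq_self_of_surjective (QuotientGroup.mk'_surjective N)]
    · left
      have := hN.2 (y := R.comap π) ⟨hR.comap π, h⟩ hle
      rw [← map_comap_eq_self_of_surjective (QuotientGroup.mk'_surjective N) R, eq_bot_iff,
        map_le_iff_le_comap, MonoidHom.comap_bot, QuotientGroup.ker_mk']
      exact this
  obtain ⟨hcm, hexp⟩ := elementary_of_minimal hVn ((hP.to_le hP₁P).map π) hVne hmin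
  haveI := hVn
  haveI := hcm
  set ρ : H →* AddMonoid.End (Additive V) := (conjEnd V).comp π with hρ
  refine mem_oddCore_of_moved hq2 (nsmul_additive_eq_zero V hexp) hconj hfour helem ρ ?_ ?_ hxq hxL ?_
  · intro B hB
    let R : Subgroup (H ⧸ N) :=
      { carrier := {g | ∃ h : g ∈ V, Additive.ofMul (⟨g, h⟩ : V) ∈ B}
        one_mem' := ⟨one_mem V, B.zero_mem⟩
        mul_mem' := fun {a b} ⟨ha, ha'⟩ ⟨hb, hb'⟩ => ⟨mul_mem ha hb, B.add_mem ha' hb'⟩
        inv_mem' := fun {a} ⟨ha, ha'⟩ => ⟨inv_mem ha, B.neg_mem ha'⟩ }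
    have hR : R.Normal := by
      refine ⟨fun g hg y => ?_⟩
      obtain ⟨hgV, hgB⟩ := hg
      obtain ⟨k, rfl⟩ := QuotientGroup.mk'_surjective N y
      refine ⟨hVn.conj_mem g hgV _, ?_⟩
      have h1 := hB k _ hgB
      rwa [show ρ k (Additive.ofMul (⟨g, hgV⟩ : V)) =
        Additive.ofMul (⟨π k * g * (π k)⁻¹, hVn.conj_mem g hgV _⟩ : V) from
          Additive.toMul.injective (Subtype.ext (conjEnd_apply V (π k) _))] at h1
    rcases hmin R hR fun g hg => hg.1 with h | h
    · left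
      refine (AddSubgroup.eq_bot_iff_forall B).2 fun v hv => ?_
      have hmem : (v.toMul : H ⧸ N) ∈ R := ⟨v.toMul.2, hv⟩
      rw [h, mem_bot] at hmem
      exact Additive.toMul.injective (Subtype.ext hmem)
    · right
      refine (AddSubgroup.eq_top_iff' B).2 fun v => ?_
      obtain ⟨_, hv⟩ : (v.toMul : H ⧸ N) ∈ R := h.symm ▸ v.toMul.2
      exact hv
  · refine ⟨s, hs, fun h => hws ?_⟩
    have hss : s * s = 1 := by rw [← pow_two, ← hs, pow_orderOf_eq_one]
    have hsi : s⁻¹ = s := inv_eq_of_mul_eq_one_right hss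
    have hc : w⁻¹ * (s * w * s⁻¹) ∈ N := by
      have h1 := (conjEnd_eq_one_iff V).1 h _ (mem_map_of_mem π hw)
      rw [← QuotientGroup.ker_mk' N, MonoidHom.mem_ker, ← hπ, map_mul, map_mul, map_mul, map_inv,
        map_inv, ← h1.eq, mul_inv_cancel_right, inv_mul_cancel]
    set c := w⁻¹ * (s * w * s⁻¹) with hcd
    have hcs : s * c * s⁻¹ = c := by rw [(hNfix c hc).symm.eq, mul_inv_cancel_right]
    have h2 : w * c * c = w := by
      have e1 : s * w * s⁻¹ = w * c := by rw [hcd, mul_inv_cancel_left]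
      have e2 : s * (w * c) * s⁻¹ = w := by
        rw [← e1, hsi]
        calc s * (s * w * s) * s = (s * s) * w * (s * s) := by simp only [mul_assoc]
          _ = w := by rw [hss, one_mul, mul_one]
      calc w * c * c = (s * w * s⁻¹) * (s * c * s⁻¹) := by rw [e1, hcs]
        _ = s * (w * c) * s⁻¹ := by simp [mul_assoc]
        _ = w := e2
    have hc2 : c * c = 1 := by rwa [mul_assoc, mul_eq_left] at h2
    obtain ⟨k, hk⟩ := IsPGroup.iff_card.1 (hP.to_le (hNlt.le.trans hP₁P))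
    have hc1 : c = 1 := eq_one_of_sq_of_mem_odd
      (hk ▸ ((Fact.out : q.Prime).odd_of_ne_two hq2).pow) hc hc2
    rw [hcd, inv_mul_eq_one] at hc1
    exact mul_inv_eq_iff_eq_mul.1 hc1.symm |>.symm
  · show (conjEnd V (π x) - 1) * (conjEnd V (π x) - 1) = 0
    refine conjEnd_sub_one_sq V ?_
    rintro _ ⟨v, hv, rfl⟩
    rw [← map_commutatorElement]
    exact (hx v (hP₁P hv)).map π

/-- **NQ0 on an elementary abelian normal subgroup.** -/
theorem mem_oddCore_of_unmoved_abelian (hq2 : q ≠ 2) {V : Subgroup H} [V.Normal]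
    [IsMulCommutative V] (hexp : ∀ v ∈ V, v ^ q = 1)
    (hinv : ∀ s : H, orderOf s = 2 → ∀ v ∈ V, Commute v s)
    (hsol : Group.IsSolvable (centralizer (V : Set H))) {x : H} (hxq : ∃ k : ℕ, x ^ q ^ k = 1)
    (hxC : ∀ c ∈ centralizer (V : Set H), Odd (orderOf (c * x * c⁻¹ * x⁻¹)))
    (hx : ∀ w ∈ V, Commute ⁅w, x⁆ x) : x ∈ Cfsg.oddCore H := by
  have hker : (conjEnd V).ker = centralizer (V : Set H) := by
    ext g
    rw [MonoidHom.mem_ker, conjEnd_eq_one_iff, mem_centralizer_iff]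
    exact ⟨fun h v hv => (h v hv).eq, fun h v hv => h v hv⟩
  exact mem_oddCore_of_unmoved hq2 (nsmul_additive_eq_zero V hexp) (conjEnd V)
    (fun s hs => (conjEnd_eq_one_iff V).2 (hinv s hs)) (hker.symm ▸ hsol) hxq
    (fun c hc => hxC c (hker ▸ MonoidHom.mem_ker.2 hc)) (conjEnd_sub_one_sq V hx)

end CfsgLib.BenderWorld.NoKill
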