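import Cfsg.Agent.BenderWorld.NoKill.Fitting
import Cfsg.Agent.BenderWorld.NoKill.Section
import Cfsg.Agent.BenderWorld.TwoTransitive.Tools

/-!
# Slice F, step 5: a Kill makes the involutions at each point commute

`Q = F(O(G_a))` is a `q`-group.  With `X = Z(L(R))` for a Sylow subgroup `R` of `O(M)`:
`O(G_a) ≤ O(M)`, the two quadratic lemmas push `L(R)` into `O(G_a)`, so `X` is normal in `G_a` and
in `M`, which is absurd.  So `commute_of_kill` (see `BenderWorld/Clean` for what commuting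
involutions imply).
-/

set_option autoImplicit false
set_option linter.style.haveILetI false

namespace CfsgLib.BenderWorld.NoKill

open CfsgLib.Small CfsgLib.SEmbed Subgroup
open CfsgLib.OddOrder
open CfsgLib.Signalizer (fittingOf)
open scoped commutatorElement Pointwise

variable {G : Type*} [Group G] [Finite G] {Ω : Type*} [MulAction G Ω]

/-- An extension of solvable groups. -/
theorem solvable_of_quotient {B : Type*} [Group B] (N : Subgroup B) [N.Normal]
    [Group.IsSolvable N] [Group.IsSolvable (B ⧸ N)] : Group.IsSolvable B :=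
  Group.isSolvable_of_ker_le_range N.subtype (QuotientGroup.mk' N)
    (by rw [QuotientGroup.ker_mk', range_subtype])

theorem odd_card_sup {A B : Subgroup G} (hA : Odd (Nat.card A)) (hB : Odd (Nat.card B))
    (h : A ≤ normalizer (B : Set G)) : Odd (Nat.card ↥(A ⊔ B)) := by
  have := PLocal.card_sup_mul_card_inf (A := A) (B := B) h
  exact (hA.mul hB).of_dvd_nat ⟨_, this.symm⟩

namespace Pair

variable (P : Pair G Ω)

/-- In an R2 local, the point stabilizer is solvable. -/
theorem isSolvable_inf_stab (W : World G Ω) :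
    Group.IsSolvable ↥(P.M ⊓ MulAction.stabilizer G P.a) := by
  set B := P.M ⊓ MulAction.stabilizer G P.a with hB
  set O := coreIn P.M
  obtain ⟨U, hOU, hUle, hUn, hU2, hU3, -, -⟩ := (isR2 W P.ne_top P.Ia (P.moves W)).twoClosed
  set UB : Subgroup B := U.subgroupOf B
  haveI : UB.Normal := ⟨fun u hu g => mem_subgroupOf.2 (hUn g g.2 u (mem_subgroupOf.1 hu))⟩
  set OB : Subgroup UB := (O.subgroupOf B).subgroupOf UB
  haveI : OB.Normal := ⟨fun o ho g => mem_subgroupOf.2 (mem_subgroupOf.2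
    (coreIn_conj (hUle (mem_subgroupOf.1 g.2)).1 (mem_subgroupOf.1 (mem_subgroupOf.1 ho))))⟩
  haveI : Fact (Nat.Prime 2) := ⟨Nat.prime_two⟩
  have hUB2 : IsPGroup 2 (UB ⧸ OB) := fun z => by
    obtain ⟨u, rfl⟩ := QuotientGroup.mk'_surjective OB z
    obtain ⟨n, hn⟩ := hU2 _ (mem_subgroupOf.1 u.2)
    refine ⟨n, ?_⟩
    rw [← map_pow]
    exact (QuotientGroup.eq_one_iff _).2 (mem_subgroupOf.2 (mem_subgroupOf.2 (by simpa using hn)))
  haveI : Group.IsSolvable (UB ⧸ OB) := by
    haveI := hUB2.isNilpotent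
    infer_instance
  haveI : Group.IsSolvable OB := by
    have hO := isSolvable_coreIn P.M
    exact solvable_of_solvable_injective (f :=
      (((B.subtype.comp UB.subtype).comp OB.subtype).codRestrict O
        fun o => mem_subgroupOf.1 (mem_subgroupOf.1 o.2)))
      (fun x y h => Subtype.ext (Subtype.ext (Subtype.ext (congrArg Subtype.val h :))))
  haveI : Group.IsSolvable UB := solvable_of_quotient OB
  have hodd : Odd (Nat.card (B ⧸ UB)) := by
    by_contra hev
    obtain ⟨z, hz⟩ := exists_prime_orderOf_dvd_card' (G := B ⧸ UB) 2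
      (even_iff_two_dvd.1 (Nat.not_odd_iff_even.1 hev))
    obtain ⟨g, rfl⟩ := QuotientGroup.mk'_surjective UB z
    have h2 : (g : G) ^ 2 ∈ U := by
      have h := pow_orderOf_eq_one (QuotientGroup.mk' UB g)
      rw [hz, ← map_pow] at h
      simpa using mem_subgroupOf.1 ((QuotientGroup.eq_one_iff _).1 h)
    obtain ⟨n, hn⟩ := hU2 _ h2
    rw [← pow_mul, ← pow_succ'] at hn
    rw [show QuotientGroup.mk' UB g = 1 from
      (QuotientGroup.eq_one_iff _).2 (mem_subgroupOf.2 (hU3 g g.2 _ hn)), orderOf_one] at hz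
    omega
  haveI : Group.IsSolvable (B ⧸ UB) := Cfsg.Agent.S0205.result hodd
  exact solvable_of_quotient UB

/-- The odd elements of `⟨I(a)⟩` lie in `O(G_a)`. -/
theorem invGen_inf_core_le (W : World G Ω) :
    invGen G P.a ⊓ coreIn P.M ≤ coreIn (MulAction.stabilizer G P.a) := by
  set W0 : Subgroup G := invGen G P.a ⊓ coreIn P.M with hW0
  set H := MulAction.stabilizer G P.a
  have hle : W0 ≤ H := inf_le_left.trans (invGen_le_stab _)
  haveI : (W0.subgroupOf H).Normal := ⟨fun z hz g => by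
    rw [mem_subgroupOf, hW0, mem_inf] at hz ⊢
    have hmem := conj_mem_invGen (mem_stab.1 g.2) hz.1
    refine ⟨hmem, mem_core_of_odd W P.ne_top P.Ia (P.moves W) hmem ?_⟩
    show Odd (orderOf ((g : G) * z * (g : G)⁻¹))
    rw [orderOf_conj_eq]
    exact odd_orderOf_mem (odd_coreIn _) hz.2⟩
  have hodd : Odd (Nat.card (W0.subgroupOf H)) := by
    rw [Nat.card_congr (subgroupOfEquivOfLe hle).toEquiv]
    exact (odd_coreIn P.M).of_dvd_nat (card_dvd_of_le inf_le_right)
  exact fun x hx =>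
    ⟨⟨x, hle hx⟩, CfsgLib.BenderUse.le_oddCore hodd (mem_subgroupOf.2 hx), rfl⟩

omit [Finite G] in
theorem mem_coreIn_of_mem {H : Subgroup G} {x : H} (hx : x ∈ Cfsg.oddCore H) :
    (x : G) ∈ coreIn H := mem_map_of_mem H.subtype hx

omit [Finite G] in
theorem mem_oddCore_of_mem {H : Subgroup G} {x : H} (hx : (x : G) ∈ coreIn H) :
    x ∈ Cfsg.oddCore H := by
  obtain ⟨y, hy, hyx⟩ := hx
  rwa [← Subtype.ext hyx]

omit [Finite G] in
theorem invol_mem {s : MulAction.stabilizer G P.a} (hs : orderOf s = 2) :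
    (s : G) ∈ invMap (G := G) P.a P.a := ⟨(orderOf_coe s).trans hs, s.2⟩

theorem stab_isConj (W : World G Ω) (s t : MulAction.stabilizer G P.a) (hs : orderOf s = 2)
    (ht : orderOf t = 2) : IsConj s t := by
  obtain ⟨d, hd, hdt⟩ := exists_conj_fix W.uf P.ne (P.invol_mem hs) (P.invol_mem ht)
  exact isConj_iff.2 ⟨⟨d, (mem_pairStab.1 hd).1⟩, Subtype.ext hdt⟩

theorem stab_four (W : World G Ω) : ∃ s t : MulAction.stabilizer G P.a,
    orderOf s = 2 ∧ orderOf t = 2 ∧ s ≠ t ∧ Commute s t := by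
  obtain ⟨V, hV, hVa⟩ := exists_four_at W P.a
  obtain ⟨s, hs, hso⟩ := hV.exists_invol
  obtain ⟨t, ht, htn⟩ : ∃ t ∈ V, t ∉ zpowers s := by
    by_contra! h
    have := card_le_of_le h
    rw [hV.1, Nat.card_zpowers, hso] at this
    omega
  have ht1 : t ≠ 1 := fun e => htn (e ▸ one_mem _)
  exact ⟨⟨s, hVa s hs⟩, ⟨t, hVa t ht⟩, by rw [← orderOf_coe]; exact hso,
    by rw [← orderOf_coe]; exact hV.orderOf_eq_two ht ht1,
    fun e => by
      have h : s = t := congrArg Subtype.val e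
      exact htn (h ▸ mem_zpowers s), Subtype.ext (hV.commute hs ht).eq⟩

theorem stab_elem (W : World G Ω) (s t : MulAction.stabilizer G P.a) (hs : orderOf s = 2)
    (ht : orderOf t = 2) : s * t * s⁻¹ * t⁻¹ ∈ Cfsg.oddCore (MulAction.stabilizer G P.a) :=
  mem_oddCore_of_mem (P.comm_mem_stabCore W (P.invol_mem hs) (P.invol_mem ht))

/-- An element of `O(M)` is centralized by the involutions at `a` modulo `O(G_a)`. -/
theorem stab_centralized (W : World G Ω) {x : MulAction.stabilizer G P.a}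
    (hx : (x : G) ∈ coreIn P.M) (s : MulAction.stabilizer G P.a) (hs : orderOf s = 2) :
    s * x * s⁻¹ * x⁻¹ ∈ Cfsg.oddCore (MulAction.stabilizer G P.a) := by
  refine mem_oddCore_of_mem (P.invGen_inf_core_le W ⟨?_, ?_⟩)
  · show (s : G) * x * (s : G)⁻¹ * (x : G)⁻¹ ∈ invGen G P.a
    rw [show (s : G) * x * (s : G)⁻¹ * (x : G)⁻¹ = s * (x * (s : G)⁻¹ * (x : G)⁻¹) by group]
    exact (invGen G P.a).mul_mem (subset_closure (P.invol_mem hs))
      (conj_mem_invGen (mem_stab.1 x.2) ((invGen G P.a).inv_mem (subset_closure (P.invol_mem hs))))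
  · exact (coreIn P.M).mul_mem (coreIn_conj (P.Ia _ (P.invol_mem hs)) hx) ((coreIn P.M).inv_mem hx)

/-- An element of `O(M)` quadratic on a moved normal `q`-subgroup of `G_a` lies in `O(G_a)`. -/
theorem mem_core_of_moved (W : World G Ω) {q : ℕ} [Fact q.Prime] (hq2 : q ≠ 2) {Q : Subgroup G}
    (hQ : IsPGroup q Q) (hQH : Q ≤ MulAction.stabilizer G P.a)
    (hn : MulAction.stabilizer G P.a ≤ normalizer (Q : Set G))
    (hmoved : ∃ s ∈ invMap (G := G) P.a P.a, ∃ w ∈ Q, ¬ Commute w s) {x : G}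
    (hxO : x ∈ coreIn P.M) (hxq : ∃ k : ℕ, x ^ q ^ k = 1) (hx : ∀ w ∈ Q, Commute ⁅w, x⁆ x) :
    x ∈ coreIn (MulAction.stabilizer G P.a) := by
  set H := MulAction.stabilizer G P.a
  have hxH : x ∈ H := P.coreIn_le_stab W hxO
  haveI : (Q.subgroupOf H).Normal := (normal_subgroupOf_iff_le_normalizer hQH).2 hn
  obtain ⟨s, hs, w, hw, hsw⟩ := hmoved
  obtain ⟨k, hk⟩ := hxq
  exact mem_coreIn_of_mem (x := (⟨x, hxH⟩ : H)) (mem_oddCore_of_moved_pGroup hq2
    (P.stab_isConj W) (P.stab_four W) (P.stab_elem W) (P := Q.subgroupOf H) hQ.comap_subtype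
    ⟨⟨s, mem_stab.2 hs.2⟩, by rw [← orderOf_coe]; exact hs.1, ⟨w, hQH hw⟩, mem_subgroupOf.2 hw,
      fun h => hsw (congrArg Subtype.val h.eq)⟩
    ⟨k, Subtype.ext (by simpa using hk)⟩ (P.stab_centralized W hxO)
    fun w hw => Subtype.ext (hx w (mem_subgroupOf.1 hw)).eq)

/-- A subgroup `Q'` centralising `N` and `Q ∩ C(N) ≤ N`: it centralises `Q`. -/
theorem commute_of_inf_le {q : ℕ} [Fact q.Prime] {Q N : Subgroup G} (hQ : IsPGroup q Q)
    (hN : IsPGroup q N) (hNQ : N ≤ normalizer (Q : Set G))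
    (hle : Q ⊓ centralizer (N : Set G) ≤ N) {v : G} (hvQ : v ∈ normalizer (Q : Set G))
    (hcop : (orderOf v).Coprime q) (hv : ∀ w ∈ N, Commute w v) : ∀ y ∈ Q, Commute y v := by
  have h := CfsgLib.Coprime.le_centralizer_of_inf_centralizer_le (U := Q) (P := N)
    (Q := zpowers v) hN (by rwa [Nat.card_zpowers]) hQ
    (fun w hw => mem_centralizer_iff.2 fun z hz => by
      obtain ⟨i, rfl⟩ := mem_zpowers_iff.1 hz
      exact ((hv w hw).zpow_right i).eq.symm)
    hNQ (zpowers_le.2 hvQ) (fun y hy => mem_centralizer_iff.2 fun z hz => by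
      obtain ⟨i, rfl⟩ := mem_zpowers_iff.1 hz
      exact ((hv y (hle hy)).zpow_right i).eq.symm)
  exact fun y hy => mem_centralizer_iff.1 (h (mem_zpowers v)) y hy

/-- **Step 5.** -/
theorem contradiction (P : Pair G Ω) (W : World G Ω) : False := by
  classical
  obtain ⟨q, hqp, hq2, hQ1, hr⟩ := P.exists_prime W
  haveI := Fact.mk hqp
  set H := MulAction.stabilizer G P.a with hH
  set O := coreIn P.M with hO
  set Wc := coreIn H with hWc
  set Q := Cfsg.pCoreOf q Wc with hQ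
  have hWH : Wc ≤ H := coreIn_le H
  have hQW : Q ≤ Wc := LocalStructure.pCoreOf_le _
  have hQp : IsPGroup q Q := LocalStructure.pCoreOf_isPGroup _
  have hnQ : H ≤ normalizer (Q : Set G) :=
    (le_normalizer_coreIn H).trans (LocalStructure.normalizer_le_normalizer_pCoreOf _)
  have hFQ : fittingOf Wc ≤ Q := by
    rw [Signalizer.fittingOf_eq_iSup]
    refine iSup_le fun r => ?_
    rcases eq_or_ne (r : ℕ) q with h | h
    · rw [h]
    · rw [hr r r.2 h]; exact bot_le
  have hQC : ∀ x ∈ H, (∀ y ∈ Q, Commute y x) → x ∈ Q := fun x hx h =>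
    hFQ (P.mem_fitting_of_commute W (mem_stab.1 hx) fun y hy => h y (hFQ hy))
  have hOH : O ≤ H := P.coreIn_le_stab W
  have hQO : Q ≤ Cfsg.pCoreOf q O := P.pCoreOf_le W q
  -- `O` has no other core
  have hOr : ∀ r : ℕ, r.Prime → r ≠ q → Cfsg.pCoreOf r O = ⊥ := by
    intro r hrp hrq
    haveI := Fact.mk hrp
    have hle : Cfsg.pCoreOf r O ≤ Q := fun x hx => hQC x (hOH (LocalStructure.pCoreOf_le _ hx))
      fun y hy => (Signalizer.commute_pCoreOf O hrq hx (hQO hy)).symm
    exact disjoint_self.1 (IsPGroup.disjoint_of_ne _ _ hrq _ _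
      (LocalStructure.pCoreOf_isPGroup (p := r) O) (hQp.to_le hle))
  obtain ⟨R, hQR, ⟨hR, hRO⟩, hmax⟩ := (Set.toFinite
    {R : Subgroup G | IsPGroup q R ∧ R ≤ O}).exists_le_maximal (a := Cfsg.pCoreOf q O)
    ⟨LocalStructure.pCoreOf_isPGroup _, LocalStructure.pCoreOf_le _⟩
  replace hQR : Q ≤ R := hQO.trans hQR
  have hRH : R ≤ H := hRO.trans hOH
  set X := puigCenterIn R with hX
  have hMX : P.M ≤ normalizer (X : Set G) := (le_normalizer_coreIn P.M).trans
    (normalizer_le_normalizer_puigCenterIn_sylow hq2 (odd_coreIn _) hOr hRO hR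
      fun R' h1 h2 h3 => le_antisymm (hmax ⟨h1, h2⟩ h3) h3)
  have hR1 : R ≠ ⊥ := fun e => hQ1 (le_bot_iff.1 (e ▸ hQR))
  have hX0 : X ≠ ⊥ := puigCenterIn_ne_bot hR hR1
  have hXM : X ≤ P.M := (puigCenterIn_le R).trans (hRO.trans (coreIn_le _))
  have hNX : normalizer (X : Set G) ≤ P.M := P.normalizer_le W hXM hMX hX0
  -- `O(G_a) ≤ O(M)`
  set K := R ⊔ Wc with hK
  have hRW : R ≤ normalizer (Wc : Set G) := hRH.trans (le_normalizer_coreIn H)
  have hKH : K ≤ H := sup_le hRH hWH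
  have hKodd : Odd (Nat.card K) :=
    odd_card_sup ((odd_coreIn P.M).of_dvd_nat (card_dvd_of_le hRO)) (odd_coreIn H) hRW
  have hKr : ∀ r : ℕ, r.Prime → r ≠ q → Cfsg.pCoreOf r K = ⊥ := by
    intro r hrp hrq
    haveI := Fact.mk hrp
    have hQK : Q ≤ Cfsg.pCoreOf q K := LocalStructure.le_pCoreOf (hQW.trans le_sup_right)
      (hKH.trans hnQ) hQp
    have hle : Cfsg.pCoreOf r K ≤ Q := fun x hx => hQC x (hKH (LocalStructure.pCoreOf_le _ hx))
      fun y hy => (Signalizer.commute_pCoreOf K hrq hx (hQK hy)).symm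
    exact disjoint_self.1 (IsPGroup.disjoint_of_ne _ _ hrq _ _
      (LocalStructure.pCoreOf_isPGroup (p := r) K) (hQp.to_le hle))
  have hmaxK : ∀ R' : Subgroup G, IsPGroup q R' → R' ≤ K → R ≤ R' → R' = R := by
    intro R' hR' hR'K hle
    by_contra hne
    obtain ⟨g, hgR', hgN, hgR⟩ := exists_normalizer_not_mem hR' hle (Ne.symm hne)
    have hgM : g ∈ P.M := hNX (normalizer_le_normalizer_puigCenterIn R hgN)
    have hg : g ∈ (R : Set G) * (Wc : Set G) := by
      rw [← coe_mul_of_left_le_normalizer_right R Wc hRW]; exact hR'K hgR'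
    obtain ⟨r, hrR, w, hwW, hrw⟩ := hg
    have hwM : w ∈ P.M := by
      rw [show w = r⁻¹ * g by rw [← hrw]; group]
      exact mul_mem (inv_mem (coreIn_le _ (hRO hrR))) hgM
    have hgO : g ∈ O := hrw ▸ mul_mem (hRO hrR) (P.inf_le_coreIn_self W ⟨hwW, hwM⟩)
    refine hgR (hmax ⟨?_, sup_le hRO (zpowers_le.2 hgO)⟩ le_sup_left
      ((le_sup_right : zpowers g ≤ R ⊔ zpowers g) (mem_zpowers g)))
    exact hR'.to_le (sup_le hle (zpowers_le.2 hgR'))
  have hWM : Wc ≤ P.M := (le_sup_right : Wc ≤ K).trans (le_normalizer.trans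
    ((normalizer_le_normalizer_puigCenterIn_sylow hq2 hKodd hKr le_sup_left hR hmaxK).trans hNX))
  have hWO : Wc ≤ O := fun x hx => P.inf_le_coreIn_self W ⟨hx, hWM hx⟩
  have hqpow : ∀ {x : G}, x ∈ R → ∃ k : ℕ, x ^ q ^ k = 1 := fun {x} hx => by
    obtain ⟨k, hk⟩ := hR ⟨x, hx⟩
    exact ⟨k, congrArg Subtype.val hk⟩
  obtain ⟨t, hto, hta⟩ := W.uf.exists_inv P.a
  -- compare the Puig series of `R` and `Q`
  obtain ⟨hlow, hhigh⟩ := puig_compare hQR (by
    intro n A hAR hAc hAn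
    set N := puigSeqIn Q (n + 1) with hN
    have hNQ : N ≤ Q := puigStepIn_le _ _
    have hNp : IsPGroup q N := hQp.to_le hNQ
    have hnN : H ≤ normalizer (N : Set G) := hnQ.trans (normalizer_le_normalizer_puigSeqIn Q _)
    have hcN := inf_centralizer_puigSeqIn_le' hQp n
    have hmoved : ∃ s ∈ invMap (G := G) P.a P.a, ∃ w ∈ N, ¬ Commute w s := by
      by_contra! h
      obtain ⟨y, hy, hn⟩ := P.exists_moved_stab W ⟨hto, hta⟩
      exact hn (commute_of_inf_le hQp hNp (hNQ.trans le_normalizer) hcN (hnQ hta)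
        (by rw [hto]; exact (Nat.coprime_primes Nat.prime_two hqp).2 (Ne.symm hq2))
        (h t ⟨hto, hta⟩) y (hFQ hy))
    intro x hx
    have hquad : ∀ w ∈ N, Commute ⁅w, x⁆ x := fun w hw =>
      Quad.commute_commutator_of_abelian hAc hAn hx hw
    have hxW : x ∈ Wc := P.mem_core_of_moved W hq2 hNp ((hNQ.trans hQW).trans hWH) hnN hmoved
      (hRO (hAR hx)) (hqpow (hAR hx)) hquad
    -- inside `O(G_a)`
    haveI : (N.subgroupOf Wc).Normal :=
      (normal_subgroupOf_iff_le_normalizer (hNQ.trans hQW)).2 (hWH.trans hnN)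
    set C := centralizer ((N.subgroupOf Wc : Subgroup Wc) : Set Wc) with hC
    have hCp : IsPGroup q C := by
      intro c
      obtain ⟨k, m, hm, hkm⟩ : ∃ k m : ℕ, m.Coprime q ∧ orderOf c = q ^ k * m :=
        ⟨(orderOf c).factorization q, orderOf c / q ^ (orderOf c).factorization q,
          (Nat.coprime_ordCompl hqp (orderOf_pos c).ne').symm,
          (Nat.ordProj_mul_ordCompl_eq_self _ q).symm⟩
      refine ⟨k, ?_⟩
      set v : C := c ^ q ^ k
      have hvord : (orderOf v) ∣ m := orderOf_dvd_of_pow_eq_one (by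
        rw [← pow_mul, ← hkm, pow_orderOf_eq_one])
      have hvord' : (orderOf ((v : Wc) : G)).Coprime q := by
        rw [orderOf_coe, orderOf_coe]
        exact hm.coprime_dvd_left hvord
      have hvQ : ((v : Wc) : G) ∈ Q := hQC _ (hWH (v : Wc).2) (commute_of_inf_le hQp hNp
        (hNQ.trans le_normalizer) hcN (hnQ (hWH (v : Wc).2)) hvord' fun w hw =>
          congrArg Subtype.val (mem_centralizer_iff.1 v.2 ⟨w, hQW (hNQ hw)⟩
            (mem_subgroupOf.2 hw)))
      exact Subtype.ext (Subtype.ext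
        (LocalStructure.eq_one_of_coprime_of_mem hQp hvQ hvord'))
    exact ⟨⟨x, hxW⟩, Quad.mem_pCore_of_map_mem hCp (Quad.quadratic_mem_pCore_of_normal (P := N.subgroupOf Wc) hq2
      hNp.comap_subtype (odd_coreIn H)
      fun w hw => Subtype.ext (hquad w (mem_subgroupOf.1 hw)).eq), rfl⟩)
  set D := puigCenterIn Q with hD
  have hXD : X ≤ D := fun x hx =>
    mem_inf.2 ⟨puigLowerIn_le_puigIn Q (hlow (puigCenterIn_le_puigLowerIn R hx)),
      centralizer_le hhigh hx.2⟩
  have hnD : H ≤ normalizer (D : Set G) := hnQ.trans (normalizer_le_normalizer_puigCenterIn Q)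
  have hDQ : D ≤ Q := puigCenterIn_le Q
  have hDL : D ≤ puigLowerIn R :=
    le_puigLowerIn (hDQ.trans hQR) (puigCenterIn_isMulCommutative Q) (hRH.trans hnD)
  -- `Ω₁`
  haveI hDc := puigCenterIn_isMulCommutative Q
  let V : Subgroup G :=
    { carrier := {x | x ∈ D ∧ x ^ q = 1}
      one_mem' := ⟨one_mem _, one_pow q⟩
      mul_mem' := fun {x z} hx hz => ⟨mul_mem hx.1 hz.1, by
        have hc : Commute x z := congrArg Subtype.val (hDc.is_comm.comm ⟨x, hx.1⟩ ⟨z, hz.1⟩)
        rw [hc.mul_pow, hx.2, hz.2, one_mul]⟩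
      inv_mem' := fun {x} hx => ⟨inv_mem hx.1, by rw [inv_pow, hx.2, inv_one]⟩ }
  have hVH : V ≤ H := fun x hx => hWH (hQW (hDQ hx.1))
  have hLW : puigIn R ≤ R ⊓ Wc := by
    rw [← puigStepIn_puigLowerIn]
    refine sSup_le ?_
    rintro A ⟨hAR, hAc, hAn⟩ x hx
    refine ⟨hAR hx, ?_⟩
    have hquad : ∀ w ∈ D, Commute ⁅w, x⁆ x := fun w hw =>
      Quad.commute_commutator_of_abelian hAc (hDL.trans hAn) hx hw
    have hxO : x ∈ O := hRO (hAR hx)
    by_cases hmoved : ∃ s ∈ invMap (G := G) P.a P.a, ∃ w ∈ D, ¬ Commute w s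
    · exact P.mem_core_of_moved W hq2 (hQp.to_le hDQ) ((hDQ.trans hQW).trans hWH) hnD hmoved hxO
        (hqpow (hAR hx)) hquad
    push Not at hmoved
    -- the centralizer of `V` lies in `M`
    set X₁ : Subgroup G := X ⊓ V with hX₁
    have hX₁0 : X₁ ≠ ⊥ := by
      obtain ⟨x₀, hx₀, hx₀1⟩ := (bot_or_exists_ne_one X).resolve_left hX0
      obtain ⟨k, hk⟩ := hqpow (puigCenterIn_le R hx₀)
      obtain ⟨m, -, hm⟩ := (Nat.dvd_prime_pow hqp).1 (orderOf_dvd_of_pow_eq_one hk)
      rcases m with _ | m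
      · exact absurd (orderOf_eq_one_iff.1 (by simpa using hm)) hx₀1
      intro e
      have hmem : x₀ ^ q ^ m ∈ X₁ := ⟨pow_mem hx₀ _, pow_mem (hXD hx₀) _, by
        rw [← pow_mul, ← pow_succ, ← hm, pow_orderOf_eq_one]⟩
      rw [e, mem_bot] at hmem
      have := orderOf_dvd_of_pow_eq_one hmem
      rw [hm, Nat.pow_dvd_pow_iff_le_right hqp.one_lt] at this
      omega
    have hMX₁ : P.M ≤ normalizer (X₁ : Set G) := fun g hg => mem_normalizer_iff.2 fun z => by
      constructor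
      · rintro ⟨hzX, -, hzq⟩
        have h1 := (mem_normalizer_iff.1 (hMX hg) z).1 hzX
        exact ⟨h1, hXD h1, by rw [conj_pow, hzq, mul_one, mul_inv_cancel]⟩
      · rintro ⟨hzX, -, hzq⟩
        have h1 := (mem_normalizer_iff.1 (hMX hg) z).2 hzX
        rw [conj_pow, conj_eq_one_iff] at hzq
        exact ⟨h1, hXD h1, hzq⟩
    have hCM : centralizer (V : Set G) ≤ P.M :=
      (centralizer_le (inf_le_right : X₁ ≤ V)).trans ((centralizer_le_normalizer _).trans
        (P.normalizer_le W (inf_le_left.trans hXM) hMX₁ hX₁0))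
    have hxH : x ∈ H := hOH hxO
    haveI : (V.subgroupOf H).Normal := ⟨fun v hv g => by
      rw [mem_subgroupOf] at hv ⊢
      refine ⟨(mem_normalizer_iff.1 (hnD g.2) _).1 hv.1, ?_⟩
      show ((g : G) * v * (g : G)⁻¹) ^ q = 1
      rw [conj_pow, hv.2, mul_one, mul_inv_cancel]⟩
    haveI : IsMulCommutative (V.subgroupOf H) := ⟨⟨fun v v' => Subtype.ext (Subtype.ext
      (congrArg Subtype.val (hDc.is_comm.comm ⟨_, (mem_subgroupOf.1 v.2).1⟩
        ⟨_, (mem_subgroupOf.1 v'.2).1⟩) :))⟩⟩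
    have hcM : ∀ c ∈ centralizer ((V.subgroupOf H : Subgroup H) : Set H), (c : G) ∈ P.M :=
      fun c hc => hCM (mem_centralizer_iff.2 fun v hv => congrArg Subtype.val
        (mem_centralizer_iff.1 hc ⟨v, hVH hv⟩ (mem_subgroupOf.2 hv)))
    refine mem_coreIn_of_mem (x := (⟨x, hxH⟩ : H)) (mem_oddCore_of_unmoved_abelian hq2
      (V := V.subgroupOf H) (fun v hv => Subtype.ext (by simpa using (mem_subgroupOf.1 hv).2))
      (fun s hs v hv => Subtype.ext
        (hmoved (s : G) (P.invol_mem hs) _ (mem_subgroupOf.1 hv).1).eq)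
      ?_ ?_ ?_ ?_)
    · haveI := P.isSolvable_inf_stab W
      exact solvable_of_solvable_injective
        (f := (H.subtype.comp (centralizer ((V.subgroupOf H : Subgroup H) : Set H)).subtype).codRestrict
          (P.M ⊓ H) fun c => ⟨hcM c.1 c.2, c.1.2⟩)
        (fun c c' h => Subtype.ext (Subtype.ext (congrArg Subtype.val h :)))
    · obtain ⟨k, hk⟩ := hqpow (hAR hx)
      exact ⟨k, Subtype.ext (by simpa using hk)⟩
    · intro c hc
      rw [← orderOf_coe]
      exact odd_orderOf_mem (odd_coreIn P.M) (mul_mem (coreIn_conj (hcM c hc) hxO) (inv_mem hxO))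
    · exact fun w hw => Subtype.ext (hquad w (mem_subgroupOf.1 hw).1).eq
  -- `X` is normal in `G_a`
  set T := R ⊓ Wc with hT
  have hXT : puigCenterIn T = X := by
    rw [hX, puigCenterIn, puigCenterIn, puigIn_eq_of_le hLW inf_le_left]
  have hmaxT : ∀ T' : Subgroup G, IsPGroup q T' → T' ≤ Wc → T ≤ T' → T' = T := by
    intro T' hT' hT'W hle
    obtain ⟨R', hT'R', hR'K, hR', hcard'⟩ := exists_maximal_le hT' (hT'W.trans (le_sup_right : Wc ≤ K))
    obtain ⟨k, hk, hkR⟩ := exists_conj_of_card hR hR' le_sup_left hR'K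
      (card_eq_of_maximal le_sup_left hR hmaxK) hcard'
    have hle' : T' ≤ T.map (MulAut.conj k).toMonoidHom := fun x hx => by
      have hxR' := hT'R' hx
      rw [← hkR] at hxR'
      obtain ⟨r, hr, rfl⟩ := hxR'
      refine ⟨r, ⟨hr, ?_⟩, rfl⟩
      exact (mem_normalizer_iff.1 (le_normalizer_coreIn H (hKH hk)) r).2 (hT'W hx)
    refine (eq_of_le_of_card_ge hle ?_).symm
    calc Nat.card T' ≤ Nat.card (T.map (MulAut.conj k).toMonoidHom) :=
          Nat.le_of_dvd Nat.card_pos (card_dvd_of_le hle')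
      _ = Nat.card T := card_map_of_injective (MulAut.conj k).injective
  have hHM : H ≤ P.M := by
    refine (le_normalizer_coreIn H).trans ?_
    have h := normalizer_le_normalizer_puigCenterIn_sylow hq2 (odd_coreIn H) hr
      (inf_le_right : T ≤ Wc) (hR.to_le inf_le_left) hmaxT
    rw [hXT] at h
    exact h.trans hNX
  obtain ⟨g, hg, hga⟩ := P.moves W
  rcases hHM.eq_or_lt with e | h
  · exact hga (mem_stab.1 (e.symm ▸ hg : g ∈ H))
  · exact P.ne_top ((stab_isCoatom W P.a).2 _ h)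

end Pair

end CfsgLib.BenderWorld.NoKill

namespace CfsgLib.BenderWorld

open CfsgLib.Small CfsgLib.SEmbed Subgroup

variable {G : Type*} [Group G] [Finite G] {Ω : Type*} [MulAction G Ω]

/-- **Slice F**: a Kill makes the involutions at each point commute. -/
theorem commute_of_kill (W : World G Ω) (hk : Kill G Ω) :
    ∀ a : Ω, ∀ s ∈ invMap (G := G) a a, ∀ t ∈ invMap (G := G) a a, Commute s t := by
  intro a s hs t ht
  by_contra h
  obtain ⟨P⟩ := NoKill.exists_pair W hk (x := a) ⟨s, hs, t, ht, h⟩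
  exact P.contradiction W

end CfsgLib.BenderWorld
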