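import Cfsg.Agent.BenderWorld.Local
import Cfsg.Agent.Coprime.Action
import Cfsg.Agent.Coprime.Generation
import Cfsg.Agent.Coprime.PTimesQ
import Cfsg.Agent.Solvable.Fitting
import Cfsg.Agent.LocalStructure.Cores
import Cfsg.Agent.S0205

/-!
# Slice F: elementary lemmas

* `centralizer_le_of_inverted` (eigen lemma): if an involution `w` at `c` inverts `y ≠ 1` and some
  involution centralises `y`, then `C(y)` fixes `c`;
* `le_of_dihedral`: a solvable group of order prime to `q` acted on by a dihedral group of order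
  `2q` is generated by the fixed points of the rotations and of the reflections.
-/

set_option autoImplicit false

namespace CfsgLib.BenderWorld.NoKill

open CfsgLib.Small CfsgLib.SEmbed Subgroup
open scoped commutatorElement

section Points

variable {G : Type*} [Group G] {Ω : Type*} [MulAction G Ω]

/-- In a group with involutions at two points some element moves one point to the other. -/
theorem exists_smul_of_two [Finite G] (h : UniqueFix G Ω) {X : Subgroup G} {s t : G} (hsX : s ∈ X)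
    (htX : t ∈ X) {x y : Ω} (hs : s ∈ invMap (G := G) x x) (ht : t ∈ invMap (G := G) y y)
    (hxy : x ≠ y) : ∃ g ∈ X, g • x = y := by
  obtain ⟨g, hg, hgs⟩ := exists_conj_in h hsX htX hs.1 ht.1 hs.2 ht.2 hxy
  refine ⟨g, hg, h.unique t ht.1 _ _ ?_ ht.2⟩
  rw [← hgs, smul_smul, inv_mul_cancel_right, mul_smul, hs.2]

/-- **Eigen lemma.** -/
theorem centralizer_le_of_inverted [Finite G] (h : UniqueFix G Ω) {y u w : G} {c : Ω}
    (hw : w ∈ invMap (G := G) c c) (hwy : w * y * w⁻¹ = y⁻¹) (hy : y * y ≠ 1)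
    (hu : orderOf u = 2) (huy : Commute u y) :
    centralizer ({y} : Set G) ≤ MulAction.stabilizer G c := by
  set C := centralizer ({y} : Set G) with hC
  set X := normalizer ((zpowers y : Subgroup G) : Set G) with hX
  have hconjX : ∀ g : G, g * y * g⁻¹ = y ∨ g * y * g⁻¹ = y⁻¹ → g ∈ X := by
    intro g hg
    have hmap : (zpowers y).map (MulAut.conj g).toMonoidHom = zpowers y := by
      rw [MonoidHom.map_zpowers]
      rcases hg with hg | hg
      · simp [hg]
      · simp [hg]
    exact mem_normalizer_iff_map_conj_eq.2 hmap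
  have hCX : C ≤ X := fun g hg => hconjX g (Or.inl (by
    rw [(mem_centralizer_singleton_iff.1 hg : g * y = y * g), mul_inv_cancel_right]))
  have hwX : w ∈ X := hconjX w (Or.inr hwy)
  have huX : u ∈ X := hCX (mem_centralizer_singleton_iff.2 huy.eq)
  intro g hg
  by_contra hgc
  have hgwX : g * w * g⁻¹ ∈ X := mul_mem (mul_mem (hCX hg) hwX) (inv_mem (hCX hg))
  have hgw : g * w * g⁻¹ ∈ invMap (G := G) (g • c) (g • c) := by
    refine ⟨by rw [orderOf_conj_eq]; exact hw.1, ?_⟩
    rw [smul_smul, inv_mul_cancel_right, mul_smul, hw.2]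
  obtain ⟨m, hm, hmu⟩ := isConj_in h hwX hgwX hw.1 hgw.1 hw.2 hgw.2
    (fun e => hgc e.symm) huX hwX hu hw.1
  -- `C` is normal in `X`
  have hmC : ∀ v : G, Commute v y → Commute (m * v * m⁻¹) y := by
    intro v hv
    have hy' : m⁻¹ * y * m ∈ zpowers y :=
      (mem_normalizer_iff''.1 hm y).1 (mem_zpowers y)
    obtain ⟨k, hk⟩ := mem_zpowers_iff.1 hy'
    have h1 : Commute v (m⁻¹ * y * m) := hk ▸ hv.zpow_right k
    have h2 := h1.map (MulAut.conj m).toMonoidHom
    simpa [mul_assoc] using h2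
  have hwc := hmC u huy
  rw [hmu] at hwc
  apply hy
  rw [hwc.eq, mul_inv_cancel_right] at hwy
  calc y * y = y * y⁻¹ := by rw [← hwy]
    _ = 1 := mul_inv_cancel y

end Points

section Dihedral

universe u

/-- Coprime dihedral generation, abelian case. -/
theorem le_of_dihedral_abelian {G : Type*} [Group G] {q : ℕ} {y w : G} {N T : Subgroup G}
    (hcomm : ∀ a ∈ N, ∀ b ∈ N, Commute a b) (hyq : y ^ q = 1)
    (hwy : w * y * w⁻¹ = y⁻¹) (hww : w * w = 1)
    (hyN : ∀ n ∈ N, y * n * y⁻¹ ∈ N) (hwN : ∀ n ∈ N, w * n * w⁻¹ ∈ N)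
    (h0 : ∀ n ∈ N, Commute y n → n ∈ T)
    (h1 : ∀ (i : ℕ), ∀ n ∈ N, Commute (w * y ^ i) n → n ∈ T)
    {n : G} (hn : n ∈ N) (hq : n ^ q ∈ T → n ∈ T) : n ∈ T := by
  classical
  have hpowN : ∀ i : ℕ, ∀ x ∈ N, y ^ i * x * (y ^ i)⁻¹ ∈ N := by
    intro i
    induction i with
    | zero => simp
    | succ i ih =>
      intro x hx
      have := hyN _ (ih x hx)
      rwa [pow_succ', show y * y ^ i * x * (y * y ^ i)⁻¹ = y * (y ^ i * x * (y ^ i)⁻¹) * y⁻¹ by group]
  -- the norm over `⟨y⟩`
  set f : ℕ → N := fun i => ⟨y ^ i * n * (y ^ i)⁻¹, hpowN i n hn⟩ with hf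
  letI : CommGroup N := { (inferInstance : Group N) with
    mul_comm := fun a b => Subtype.ext (hcomm a a.2 b b.2).eq }
  set S : ℕ → N := fun k => ∏ i ∈ Finset.range k, f i with hS
  -- `S q` is centralised by `y`
  have hSy : Commute y (S q : G) := by
    have hconj : ∀ k : ℕ, y * (S k : G) * y⁻¹ = ((∏ i ∈ Finset.range k, f (i + 1) : N) : G) := by
      intro k
      induction k with
      | zero => simp [hS]
      | succ k ih =>
        rw [hS] at ih ⊢
        simp only [Finset.prod_range_succ, Subgroup.coe_mul] at ih ⊢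
        rw [← ih]
        simp only [hf]
        rw [pow_succ']
        group
    have hshift : (∏ i ∈ Finset.range q, f (i + 1)) = S q := by
      rw [hS]
      have h0q : f q = f 0 := Subtype.ext (by simp [hf, hyq])
      have e1 := Finset.prod_range_succ' f q
      have e2 := Finset.prod_range_succ f q
      rw [e1, h0q] at e2
      exact mul_right_cancel e2
    have := hconj q
    rw [hshift] at this
    exact mul_inv_eq_iff_eq_mul.1 this
  have hSmem : (S q : G) ∈ T := h0 _ (S q).2 hSy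
  have hwS : w * (S q : G) * w⁻¹ ∈ T := by
    refine h0 _ (hwN _ (S q).2) ?_
    have h2 := hSy.map (MulAut.conj w).toMonoidHom
    simp only [MulEquiv.coe_toMonoidHom, MulAut.conj_apply, hwy] at h2
    exact Commute.inv_left_iff.1 h2
  -- each reflection contributes
  have hterm : ∀ i : ℕ, n * (w * (f i : G) * w⁻¹) ∈ T := by
    intro i
    have hfi : w * (f i : G) * w⁻¹ ∈ N := hwN _ (f i).2
    refine h1 i _ (mul_mem hn hfi) ?_
    set g := w * y ^ i with hg
    have hgn : g * n * g⁻¹ = w * (f i : G) * w⁻¹ := by simp [hg, hf, mul_assoc]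
    have hgg : g * g = 1 := by
      have hyi : w * y ^ i * w⁻¹ = (y ^ i)⁻¹ := by
        rw [← inv_pow, ← hwy, conj_pow]
      calc g * g = (w * y ^ i * w⁻¹) * (w * w) * y ^ i := by rw [hg]; group
        _ = 1 := by rw [hyi, hww, mul_one, inv_mul_cancel]
    have hgi : g⁻¹ = g := inv_eq_of_mul_eq_one_right hgg
    rw [← hgn]
    show g * (n * (g * n * g⁻¹)) = n * (g * n * g⁻¹) * g
    calc g * (n * (g * n * g⁻¹)) = g * n * g⁻¹ * ((g * g) * n * g⁻¹) := by group
      _ = (g * n * g⁻¹) * n * g⁻¹ := by rw [hgg, one_mul]; group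
      _ = n * (g * n * g⁻¹) * g := by rw [(hcomm _ (hgn ▸ hfi) n hn).eq, hgi]
  have hk : ∀ k : ℕ, n ^ k * (w * (S k : G) * w⁻¹) ∈ T := by
    intro k
    induction k with
    | zero => simp [hS]
    | succ k ih =>
      have hSk : (S (k + 1) : G) = (S k : G) * (f k : G) := by
        simp [hS, Finset.prod_range_succ]
      have hc : Commute n (w * (S k : G) * w⁻¹) := hcomm n hn _ (hwN _ (S k).2)
      have := mul_mem ih (hterm k)
      rw [hSk]
      have e : n ^ k * (w * (S k : G) * w⁻¹) * (n * (w * (f k : G) * w⁻¹)) =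
          n ^ (k + 1) * (w * ((S k : G) * (f k : G)) * w⁻¹) := by
        calc n ^ k * (w * (S k : G) * w⁻¹) * (n * (w * (f k : G) * w⁻¹))
            = n ^ k * ((w * (S k : G) * w⁻¹) * n) * (w * (f k : G) * w⁻¹) := by group
          _ = n ^ k * (n * (w * (S k : G) * w⁻¹)) * (w * (f k : G) * w⁻¹) := by rw [hc.eq]
          _ = _ := by rw [pow_succ]; group
      rwa [e] at this
  refine hq ?_
  have := mul_mem (hk q) (inv_mem hwS)
  rwa [mul_assoc, mul_inv_cancel, mul_one] at this

/-- A solvable group of order prime to `q` normalized by `y`, `w` (`w` inverting `y` of order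
dividing `q`) is generated by the fixed points of `y` and of the `w y ^ i`. -/
theorem le_of_dihedral : ∀ (n : ℕ), ∀ {G : Type u} [Group G] [Finite G] {q : ℕ}, q.Prime →
    ∀ {y w : G}, y ^ q = 1 → w * w = 1 → w * y * w⁻¹ = y⁻¹ → ∀ {R T : Subgroup G},
    Nat.card R = n → Group.IsSolvable R → (Nat.card R).Coprime (2 * q) →
    y ∈ normalizer (R : Set G) → w ∈ normalizer (R : Set G) →
    (∀ x ∈ R, Commute y x → x ∈ T) → (∀ i : ℕ, ∀ x ∈ R, Commute (w * y ^ i) x → x ∈ T) →
    R ≤ T := by
  intro n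
  induction n using Nat.strong_induction_on with
  | _ n IH =>
  intro G _ _ q hq y w hyq hww hwy R T hn hsol hco hyR hwR h0 h1
  rcases eq_or_ne R ⊥ with hR | hR
  · rw [hR]; exact bot_le
  -- the derived subgroup is smaller
  set R' := (commutator R).map R.subtype with hR'
  have hR'R : R' ≤ R := map_subtype_le _
  have hlt : Nat.card R' < n := by
    rw [← hn, hR', card_map_of_injective R.subtype_injective]
    refine lt_of_le_of_ne (Nat.le_of_dvd Nat.card_pos (card_subgroup_dvd_card _)) fun he => ?_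
    have htop : commutator R = ⊤ := eq_top_of_card_eq _ he
    haveI := hsol
    haveI : Nontrivial R := (nontrivial_iff_ne_bot R).2 hR
    exact (Group.IsSolvable.commutator_lt_top_of_nontrivial R).ne htop
  have hnorm : ∀ g ∈ normalizer (R : Set G), g ∈ normalizer (R' : Set G) := by
    intro g hg
    rw [mem_normalizer_iff_map_conj_eq] at hg ⊢
    rw [hR', map_map, commutator_def, map_commutator, ← MonoidHom.range_eq_map,
      MonoidHom.range_comp, range_subtype, hg, map_commutator, ← MonoidHom.range_eq_map,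
      range_subtype]
  have hR'T : R' ≤ T := IH _ hlt hq hyq hww hwy rfl
    (solvable_of_solvable_injective (f := inclusion hR'R) (inclusion_injective hR'R))
    (hco.coprime_dvd_left (card_dvd_of_le hR'R)) (hnorm y hyR) (hnorm w hwR)
    (fun x hx => h0 x (hR'R hx)) (fun i x hx => h1 i x (hR'R hx))
  -- pass to the quotient by the derived subgroup
  set D := normalizer (R : Set G) ⊓ normalizer (R' : Set G) with hD
  have hRD : R ≤ D := le_inf le_normalizer (fun x hx => hnorm x (le_normalizer hx))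
  haveI hR'n : (R'.subgroupOf D).Normal :=
    (normal_subgroupOf_iff_le_normalizer (hR'R.trans hRD)).2 inf_le_right
  set π := QuotientGroup.mk' (R'.subgroupOf D)
  set yD : D := ⟨y, hyR, hnorm y hyR⟩
  set wD : D := ⟨w, hwR, hnorm w hwR⟩
  set RD : Subgroup D := R.subgroupOf D
  set Rb : Subgroup (D ⧸ R'.subgroupOf D) := RD.map π
  set Tb : Subgroup (D ⧸ R'.subgroupOf D) := (T.subgroupOf D ⊓ RD).map π
  have hker : π.ker = R'.subgroupOf D := QuotientGroup.ker_mk' _
  have hcop' : ∀ A : Subgroup D, Nat.card A ∣ 2 * q → (Nat.card A).Coprime (Nat.card ↥(RD ⊓ π.ker)) := by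
    intro A hA
    refine (hco.symm.coprime_dvd_left hA).coprime_dvd_right ?_
    refine (card_dvd_of_le inf_le_left).trans ?_
    exact (Nat.card_congr (subgroupOfEquivOfLe hRD).toEquiv).dvd
  have hfix : ∀ g : D, orderOf g ∣ 2 * q → g ∈ normalizer (RD : Set D) →
      (∀ x ∈ R, Commute (g : G) x → x ∈ T) →
      ∀ z ∈ Rb, Commute (π g) z → z ∈ Tb := by
    intro g hg hgn hgT z hz hgz
    have h2 := CfsgLib.Coprime.map_inf_centralizer (G := RD) (A := zpowers g) π
      (zpowers_le.2 hgn) (hcop' _ (by rwa [Nat.card_zpowers]))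
      (Or.inl (Group.isSolvable_of_comm fun a b => by
        obtain ⟨i, hi⟩ := mem_zpowers_iff.1 a.2
        obtain ⟨j, hj⟩ := mem_zpowers_iff.1 b.2
        exact Subtype.ext (by simp [← hi, ← hj, ← zpow_add, add_comm])))
    have h3 : z ∈ RD.map π ⊓ centralizer (((zpowers g).map π : Subgroup _) : Set _) := by
      refine ⟨hz, mem_centralizer_iff.2 ?_⟩
      rintro _ ⟨x, hx, rfl⟩
      obtain ⟨k, rfl⟩ := mem_zpowers_iff.1 hx
      rw [map_zpow]
      exact (hgz.zpow_left k).eq
    rw [← h2] at h3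
    obtain ⟨x, ⟨hxR, hxC⟩, rfl⟩ := h3
    refine mem_map_of_mem π ⟨mem_subgroupOf.2 (hgT x hxR ?_), hxR⟩
    exact congrArg Subtype.val (mem_centralizer_iff.1 hxC g (mem_zpowers g))
  have hRDn : ∀ g : D, g ∈ normalizer (RD : Set D) := fun g => by
    rw [mem_normalizer_iff]
    intro x
    exact mem_normalizer_iff.1 g.2.1 x
  have hordy : orderOf yD ∣ 2 * q :=
    dvd_mul_of_dvd_right (orderOf_dvd_of_pow_eq_one (Subtype.ext hyq)) 2
  have hyi : ∀ i : ℕ, w * y ^ i * w⁻¹ = (y ^ i)⁻¹ := fun i => by rw [← inv_pow, ← hwy, conj_pow]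
  have hordw : ∀ i : ℕ, orderOf (wD * yD ^ i) ∣ 2 * q := by
    intro i
    refine dvd_mul_of_dvd_left (orderOf_dvd_of_pow_eq_one (Subtype.ext ?_)) q
    show (w * y ^ i) ^ 2 = 1
    rw [pow_two]
    calc w * y ^ i * (w * y ^ i) = (w * y ^ i * w⁻¹) * (w * w) * y ^ i := by group
      _ = 1 := by rw [hyi, hww, mul_one, inv_mul_cancel]
  have hcomm : ∀ a ∈ Rb, ∀ b ∈ Rb, Commute a b := by
    rintro _ ⟨a, ha, rfl⟩ _ ⟨b, hb, rfl⟩
    show π a * π b = π b * π a
    rw [← map_mul, ← map_mul, eq_comm]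
    refine (QuotientGroup.eq.2 ?_)
    rw [mem_subgroupOf]
    refine ⟨⁅(⟨a, ha⟩ : R)⁻¹, (⟨b, hb⟩ : R)⁻¹⁆, commutator_mem_commutator (mem_top _) (mem_top _), ?_⟩
    simp [commutatorElement_def, mul_assoc]
  have hconjb : ∀ g : D, ∀ z ∈ Rb, π g * z * (π g)⁻¹ ∈ Rb := by
    rintro g _ ⟨x, hx, rfl⟩
    rw [← map_inv, ← map_mul, ← map_mul]
    exact mem_map_of_mem π ((mem_normalizer_iff.1 (hRDn g) x).1 hx)
  intro r hr
  have hrb : π ⟨r, hRD hr⟩ ∈ Rb := mem_map_of_mem π hr
  have key : π ⟨r, hRD hr⟩ ∈ Tb := by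
    refine le_of_dihedral_abelian (q := q) (y := π yD) (w := π wD) hcomm
      (by rw [← map_pow, show yD ^ q = 1 from Subtype.ext hyq, map_one])
      (by rw [← map_inv, ← map_mul, ← map_mul, ← map_inv]
          exact congrArg π (Subtype.ext hwy))
      (by rw [← map_mul, show wD * wD = 1 from Subtype.ext hww, map_one])
      (hconjb yD) (hconjb wD)
      (hfix yD hordy (hRDn _) h0)
      (fun i z hz => by
        rw [← map_pow, ← map_mul]
        exact hfix (wD * yD ^ i) (hordw i) (hRDn _) (h1 i) z hz)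
      hrb fun hmem => ?_
    -- `q`-th roots in a group of order prime to `q`
    have hcq : (Nat.card Rb).Coprime q :=
      ((hco.coprime_dvd_right (dvd_mul_left q 2)).coprime_dvd_left
        ((card_map_dvd RD π).trans (Nat.card_congr (subgroupOfEquivOfLe hRD).toEquiv).dvd))
    refine (zpowers_le.2 hmem) (mem_zpowers_pow_iff.2 ?_)
    exact (hcq.coprime_dvd_left (orderOf_dvd_natCard Rb hrb)).symm
  obtain ⟨t, ⟨htT, -⟩, ht⟩ := key
  have h2 : (t⁻¹ * ⟨r, hRD hr⟩ : D) ∈ R'.subgroupOf D := QuotientGroup.eq.1 ht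
  have := T.mul_mem htT (hR'T (mem_subgroupOf.1 h2))
  simpa using this

end Dihedral

end CfsgLib.BenderWorld.NoKill
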