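import Cfsg.Agent.BenderWorld.NoKill.Setup
import Cfsg.Agent.OddOrder.BG7.PConstraint

/-!
# Slice F, step 2: `O_s(O(M)) = 1` forces `O_s(O(G_a)) = 1`

`S = O_s(O(G_a))` meets `M` trivially and is centralised by the involutions at `a`.  A minimal
`q`-subgroup `C` of `O(M)` moved by them, normal in `M`, has elements inverted by an involution at
`c` and centralised by another; the eigen lemma makes their centralisers in `S` trivial, and
generation kills `S`.
-/

set_option autoImplicit false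
set_option linter.style.haveILetI false

namespace CfsgLib.BenderWorld.NoKill

open CfsgLib.Small CfsgLib.SEmbed Subgroup
open scoped commutatorElement
open CfsgLib.Signalizer (fittingOf)

variable {G : Type*} [Group G] {Ω : Type*} [MulAction G Ω]

theorem eq_one_of_sq_of_odd {x : G} (h : x * x = 1) (hodd : Odd (orderOf x)) : x = 1 := by
  obtain ⟨k, hk⟩ := hodd
  have h3 := pow_orderOf_eq_one x
  rwa [hk, pow_succ, pow_mul, pow_two, h, one_pow, one_mul] at h3

theorem conj_eq_self_of_commute {u x : G} (h : Commute u x) : u * x * u⁻¹ = x := by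
  rw [h.eq, mul_inv_cancel_right]

/-- A subgroup of exponent `q` with an element outside the cyclic group of another is not
cyclic. -/
theorem not_isCyclic_of_not_mem [Finite G] {q : ℕ} [Fact q.Prime] {A : Subgroup G}
    (hexp : ∀ x ∈ A, x ^ q = 1) {y z : G} (hy : y ∈ A) (hz : z ∈ A) (hz1 : z ≠ 1)
    (h : y ∉ zpowers z) : ¬ IsCyclic A := by
  intro _
  obtain ⟨g, hg⟩ := IsCyclic.exists_generator (α := A)
  have hcard : Nat.card A ≤ q := by
    rw [← orderOf_eq_card_of_forall_mem_zpowers hg]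
    exact Nat.le_of_dvd (Fact.out : q.Prime).pos
      (orderOf_dvd_of_pow_eq_one (Subtype.ext (by simpa using hexp g g.2)))
  have : zpowers z = A := eq_of_le_of_card_ge (zpowers_le.2 hz)
    (by rwa [Nat.card_zpowers, orderOf_eq_prime (hexp z hz) hz1])
  exact h (this ▸ hy)

theorem mem_zpowers_iff_of_pow_eq_one {q : ℕ} [Fact q.Prime] {z w : G} (hz : z ^ q = 1)
    (hw : w ∈ zpowers z) (hw1 : w ≠ 1) : z ∈ zpowers w := by
  rcases eq_or_ne z 1 with rfl | hz1
  · exact one_mem _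
  haveI : Finite (zpowers z) := Nat.finite_of_card_ne_zero (by
    rw [Nat.card_zpowers, orderOf_eq_prime hz hz1]; exact (Fact.out : q.Prime).ne_zero)
  obtain ⟨i, rfl⟩ := mem_zpowers_iff.1 hw
  have hord : orderOf (z ^ i) = q := orderOf_eq_prime (by
    rw [← zpow_natCast, ← zpow_mul, mul_comm, zpow_mul, zpow_natCast, hz, one_zpow]) hw1
  have : zpowers (z ^ i) = zpowers z := eq_of_le_of_card_ge
    (zpowers_le.2 (zpow_mem (mem_zpowers z) i)) (by
      rw [Nat.card_zpowers, Nat.card_zpowers, hord, orderOf_eq_prime hz hz1])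
  rw [this]
  exact mem_zpowers z

variable [Finite G]

/-- A moved `q`-group normalised by a four group has an element of order `q` inverted by one of its
involutions and centralised by another. -/
theorem exists_eigen {q : ℕ} [Fact q.Prime] (hq2 : q ≠ 2) {C V : Subgroup G}
    (hC : IsPGroup q C) (hV : IsFour V) (hVC : V ≤ normalizer (C : Set G))
    (hmoved : ∀ w ∈ V, w ≠ 1 → ∃ x ∈ C, ¬ Commute x w) :
    ∃ u ∈ V, ∃ w ∈ V, u ≠ 1 ∧ w ≠ 1 ∧
      ∃ y ∈ C, y ^ q = 1 ∧ y ≠ 1 ∧ w * y * w⁻¹ = y⁻¹ ∧ Commute u y := by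
  obtain ⟨w, hw, hwo⟩ := hV.exists_invol
  haveI := hV.isMulCommutative
  have hex : ∃ u ∈ V, u ≠ 1 ∧ ∃ x ∈ C, Commute u x ∧ ¬ Commute x w := by
    by_contra! h
    obtain ⟨x, hx, hn⟩ := hmoved w hw (ne_one_of_orderOf_two hwo)
    obtain ⟨k, hk⟩ := IsPGroup.iff_card.1 hC
    have := CfsgLib.Coprime.le_of_forall_inf_centralizer_le hV.not_isCyclic hVC
      (W := centralizer ({w} : Set G)) (by
        rw [hV.1, hk]
        exact Nat.Coprime.pow 2 k ((Nat.coprime_primes Nat.prime_two Fact.out).2 (Ne.symm hq2)))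
      (fun u hu hu1 z hz => mem_centralizer_singleton_iff.2
        (h u hu hu1 z hz.1 (mem_centralizer_singleton_iff.1 hz.2).symm).eq) hx
    exact hn (mem_centralizer_singleton_iff.1 this)
  obtain ⟨u, hu, hu1, x, hx, hux, hxw⟩ := hex
  set y₀ := x⁻¹ * (w * x * w⁻¹) with hy₀
  have hwx : w * x * w⁻¹ ∈ C := (mem_normalizer_iff.1 (hVC hw) x).1 hx
  have hy₀C : y₀ ∈ C := mul_mem (inv_mem hx) hwx
  have hwi : w⁻¹ = w := inv_eq_self_of_orderOf_two hwo
  have hww : w * w = 1 := mul_self_of_orderOf_two hwo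
  have hinv : w * y₀ * w⁻¹ = y₀⁻¹ := by
    rw [hy₀, hwi]
    calc w * (x⁻¹ * (w * x * w)) * w = w * x⁻¹ * w * x * (w * w) := by group
      _ = (x⁻¹ * (w * x * w))⁻¹ := by rw [hww, mul_one]; simp [mul_assoc, hwi]
  have huy : Commute u y₀ :=
    hux.inv_right.mul_right (((hV.commute hu hw).mul_right hux).mul_right
      (hV.commute hu hw).inv_right)
  have hy1 : y₀ ≠ 1 := fun e => hxw (by
    have h1 : w * x * w⁻¹ = x := by
      rw [hy₀, inv_mul_eq_one] at e
      exact e.symm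
    exact (mul_inv_eq_iff_eq_mul.1 h1).symm)
  obtain ⟨k, hk⟩ := hC ⟨y₀, hy₀C⟩
  have hk' : y₀ ^ q ^ k = 1 := congrArg Subtype.val hk
  obtain ⟨m, -, hm⟩ := (Nat.dvd_prime_pow Fact.out).1 (orderOf_dvd_of_pow_eq_one hk')
  rcases m with _ | m
  · exact absurd (orderOf_eq_one_iff.1 (by simpa using hm)) hy1
  refine ⟨u, hu, w, hw, hu1, ne_one_of_orderOf_two hwo, y₀ ^ q ^ m, pow_mem hy₀C _, ?_, ?_, ?_,
    huy.pow_right _⟩
  · rw [← pow_mul, ← pow_succ, ← hm, pow_orderOf_eq_one]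
  · intro e
    have := orderOf_dvd_of_pow_eq_one e
    rw [hm, Nat.pow_dvd_pow_iff_le_right (Fact.out : q.Prime).one_lt] at this
    omega
  · rw [← conj_pow, hinv, inv_pow]

/-- The centralizer of a nontrivial element of a world is proper. -/
theorem centralizer_ne_top (W : World G Ω) {y : G} (hy : y ≠ 1) :
    centralizer ({y} : Set G) ≠ ⊤ := by
  intro h
  haveI := W.simple
  have hcen : y ∈ center G := mem_center_iff.2 fun g =>
    mem_centralizer_singleton_iff.1 (h ▸ mem_top g : g ∈ centralizer ({y} : Set G))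
  rcases (inferInstance : (center G).Normal).eq_bot_or_eq_top with hb | ht
  · exact hy (by simpa [hb] using hcen)
  · haveI := W.nontrivial
    obtain ⟨a, b, hab⟩ := exists_pair_ne Ω
    obtain ⟨s, hs, hsa⟩ := W.uf.exists_inv a
    obtain ⟨t, htr, htb⟩ := W.uf.exists_inv b
    obtain ⟨i, hi, hie⟩ := exists_interchange W.uf hs htr hsa htb hab
    rw [mem_center_iff.1 (ht ▸ mem_top s : s ∈ center G) i, mul_inv_cancel_right] at hie
    exact hab (W.uf.unique s hs a b hsa (hie ▸ htb))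

theorem isPGroup_odd {q : ℕ} [Fact q.Prime] (hq2 : q ≠ 2) {C : Subgroup G} (hC : IsPGroup q C)
    {x : G} (hx : x ∈ C) : Odd (orderOf x) := by
  obtain ⟨k, hk⟩ := IsPGroup.iff_card.1 hC
  exact odd_orderOf_mem (hk ▸ ((Fact.out : q.Prime).odd_of_ne_two hq2).pow) hx

namespace Pair

variable (P : Pair G Ω)

/-- Step 1. -/
theorem inf_le_pCoreOf (W : World G Ω) (s : ℕ) [Fact s.Prime] :
    Cfsg.pCoreOf s (coreIn (MulAction.stabilizer G P.a)) ⊓ P.M ≤
      Cfsg.pCoreOf s (coreIn P.M) := by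
  refine LocalStructure.le_pCoreOf ?_ ?_
    ((LocalStructure.pCoreOf_isPGroup _).to_le inf_le_left)
  · exact (inf_le_inf_right _ (LocalStructure.pCoreOf_le _)).trans (P.inf_le_coreIn_self W)
  · refine le_trans ?_ inf_normalizer_le_normalizer_inf
    refine le_inf ?_ ((coreIn_le _).trans le_normalizer)
    exact ((P.coreIn_le_stab W).trans (le_normalizer_coreIn _)).trans
      (LocalStructure.normalizer_le_normalizer_pCoreOf _)

/-- **Step 2.** -/
theorem pCoreOf_eq_bot (W : World G Ω) (s : ℕ) [Fact s.Prime] (hs2 : s ≠ 2)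
    (h0 : Cfsg.pCoreOf s (coreIn P.M) = ⊥) :
    Cfsg.pCoreOf s (coreIn (MulAction.stabilizer G P.a)) = ⊥ := by
  classical
  set H := MulAction.stabilizer G P.a with hH
  set S := Cfsg.pCoreOf s (coreIn H) with hS
  set O := coreIn P.M with hO
  have hSH : S ≤ H := (LocalStructure.pCoreOf_le _).trans (coreIn_le _)
  have hnS : H ≤ normalizer (S : Set G) :=
    (le_normalizer_coreIn H).trans (LocalStructure.normalizer_le_normalizer_pCoreOf _)
  have hSM : ∀ x ∈ S, x ∈ P.M → x = 1 := fun x hx hxM => by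
    have h1 : x ∈ S ⊓ P.M := ⟨hx, hxM⟩
    have := P.inf_le_pCoreOf W s h1
    rwa [← hO, h0, mem_bot] at this
  have hSc : ∀ x ∈ S, x • P.c = P.c → x = 1 := fun x hx hxc =>
    hSM x hx (P.mem_of_fix (mem_stab.1 (hSH hx)) hxc)
  -- the involutions at `a` centralise `S`
  have hLS : ∀ t ∈ invMap (G := G) P.a P.a, ∀ x ∈ S, Commute x t := by
    intro t ht x hx
    have hxt : x * t * x⁻¹ ∈ invMap (G := G) P.a P.a := conj_mem_invMap (hSH hx) ht
    have hd : x * t * x⁻¹ * t⁻¹ = 1 := by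
      refine hSM _ ?_ (mul_mem (P.Ia _ hxt) (inv_mem (P.Ia t ht)))
      rw [show x * t * x⁻¹ * t⁻¹ = x * (t * x⁻¹ * t⁻¹) by group]
      exact mul_mem hx ((mem_normalizer_iff.1 (hnS (mem_stab.2 ht.2)) _).1 (inv_mem hx))
    show x * t = t * x
    calc x * t = x * t * x⁻¹ * t⁻¹ * (t * x) := by group
      _ = t * x := by rw [hd, one_mul]
  -- a moved core of `O`
  obtain ⟨v, hv, hva⟩ := W.uf.exists_inv P.a
  have hvM : v ∈ P.M := P.Ia v ⟨hv, hva⟩
  obtain ⟨x₁, hx₁, hn₁⟩ := P.exists_moved W hvM hv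
  obtain ⟨q, hqp, hq⟩ : ∃ q : ℕ, q.Prime ∧ ∃ x ∈ Cfsg.pCoreOf q O, ¬ Commute x v := by
    by_contra! h
    apply hn₁
    have hle : fittingOf O ≤ centralizer ({v} : Set G) := by
      rw [Signalizer.fittingOf_eq_iSup]
      exact iSup_le fun r z hz => mem_centralizer_singleton_iff.2 (h r r.2 z hz).eq
    exact mem_centralizer_singleton_iff.1 (hle hx₁)
  haveI := Fact.mk hqp
  have hqs : q ≠ s := by
    rintro rfl
    obtain ⟨x, hx, hn⟩ := hq
    rw [h0, mem_bot] at hx
    exact hn (hx ▸ Commute.one_left v)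
  have hOa : O ≤ H := P.coreIn_le_stab W
  have hOc : ∀ x ∈ O, x • P.c = P.c := fun x hx => P.coreIn_le_stab' W hx
  have hQO : Cfsg.pCoreOf q O ≤ O := LocalStructure.pCoreOf_le _
  have hq2 : q ≠ 2 := by
    rintro rfl
    obtain ⟨x, hx, hn⟩ := hq
    obtain ⟨k, hk⟩ := (LocalStructure.pCoreOf_isPGroup (p := 2) O) ⟨x, hx⟩
    have h1 : orderOf x ∣ 2 ^ k := orderOf_dvd_of_pow_eq_one (congrArg Subtype.val hk)
    have : orderOf x = 1 := Nat.eq_one_of_dvd_coprimes
      ((Nat.coprime_two_right.2 (odd_orderOf_mem (odd_coreIn _) (hQO hx))).pow_right k) dvd_rfl h1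
    exact hn (orderOf_eq_one_iff.1 this ▸ Commute.one_left v)
  -- a minimal moved subgroup
  let 𝒞 : Set (Subgroup G) := {C | C ≤ Cfsg.pCoreOf q O ∧ P.M ≤ normalizer (C : Set G) ∧
    ∃ x ∈ C, ¬ Commute x v}
  obtain ⟨C, ⟨hCQ, hMC, hCv⟩, hmin⟩ : ∃ C ∈ 𝒞, ∀ C' ∈ 𝒞, C' ≤ C → C' = C := by
    obtain ⟨C, -, hC⟩ := (Set.toFinite 𝒞).exists_le_minimal (a := Cfsg.pCoreOf q O)
      ⟨le_rfl, (le_normalizer_coreIn P.M).trans (LocalStructure.normalizer_le_normalizer_pCoreOf _),
        hq⟩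
    exact ⟨C, hC.1, fun C' h h' => le_antisymm h' (hC.2 h h')⟩
  have hCq : IsPGroup q C := (LocalStructure.pCoreOf_isPGroup _).to_le hCQ
  have hCO : C ≤ O := hCQ.trans hQO
  -- unmoved below `C`
  have hun : ∀ N : Subgroup G, N ≤ C → N ≠ C → P.M ≤ normalizer (N : Set G) →
      ∀ x ∈ N, ∀ t ∈ P.M, orderOf t = 2 → Commute x t := by
    intro N hNC hne hn x hx t htM ht
    refine P.commute_all W hn hvM hv (fun z hz => ?_) htM ht hx
    by_contra h
    exact hne (hmin N ⟨hNC.trans hCQ, hn, z, hz, h⟩ hNC)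
  have hmoved : ∀ w ∈ P.M, orderOf w = 2 → ∃ x ∈ C, ¬ Commute x w := by
    intro w hwM hw
    by_contra! h
    obtain ⟨x, hx, hn⟩ := hCv
    exact hn (P.commute_all W hMC hwM hw h hvM hv hx)
  -- four groups at both points
  obtain ⟨Va, hVa, hVaa⟩ := exists_four_at W P.a
  obtain ⟨Vc, hVc, hVcc⟩ := exists_four_at W P.c
  have hVcM := four_le P.Ic hVc hVcc
  have hVaM := four_le P.Ia hVa hVaa
  obtain ⟨u, hu, w, hw, hu1, hw1, y, hyC, hyq, hy1, hwy, huy⟩ :=
    exists_eigen hq2 hCq hVc (hVcM.trans hMC)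
      fun w hw hw1 => hmoved w (hVcM hw) (hVc.orderOf_eq_two hw hw1)
  have huo := hVc.orderOf_eq_two hu hu1
  have hwc : w ∈ invMap (G := G) P.c P.c := ⟨hVc.orderOf_eq_two hw hw1, hVcc w hw⟩
  -- eigen elements fix `c`
  have heigen : ∀ {z w' u' : G}, z ∈ C → z ≠ 1 → w' ∈ invMap (G := G) P.c P.c →
      w' * z * w'⁻¹ = z⁻¹ → orderOf u' = 2 → Commute u' z →
      ∀ x ∈ S, Commute x z → x = 1 := by
    intro z w' u' hz hz1 hw' hinv hu' hc x hx hxz
    exact hSc x hx (centralizer_le_of_inverted W.uf hw' hinv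
      (fun h => hz1 (eq_one_of_sq_of_odd h (isPGroup_odd hq2 hCq hz))) hu' hc
      (mem_centralizer_singleton_iff.2 hxz.eq))
  have hCS : C ≤ normalizer (S : Set G) := hCO.trans (hOa.trans hnS)
  have hcop : ∀ A : Subgroup G, A ≤ C → (Nat.card A).Coprime (Nat.card S) := by
    intro A hA
    obtain ⟨i, hi⟩ := IsPGroup.iff_card.1 (hCq.to_le hA)
    obtain ⟨j, hj⟩ := IsPGroup.iff_card.1
      (LocalStructure.pCoreOf_isPGroup (p := s) (coreIn H) : IsPGroup s S)
    rw [hi, hj]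
    exact Nat.Coprime.pow i j ((Nat.coprime_primes hqp Fact.out).2 hqs)
  by_cases hab : ∀ x ∈ C, ∀ z ∈ C, Commute x z
  swap
  · -- nonabelian
    push Not at hab
    set D := ⁅C, C⁆ with hD
    have hDC : D ≤ C := commutator_le.2 fun a ha b hb =>
      mul_mem (mul_mem (mul_mem ha hb) (inv_mem ha)) (inv_mem hb)
    have hCne : C ≠ ⊥ := by
      rintro rfl
      obtain ⟨x, hx, z, -, hn⟩ := hab
      rw [mem_bot] at hx
      exact hn (hx ▸ Commute.one_left z)
    have hDne : D ≠ C := by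
      intro e
      haveI : Nontrivial C := (nontrivial_iff_ne_bot C).2 hCne
      haveI : Group.IsNilpotent C := hCq.isNilpotent
      have htop : commutator C = ⊤ := by
        apply Subgroup.map_injective C.subtype_injective
        rw [_root_.commutator_def, map_commutator, ← MonoidHom.range_eq_map, range_subtype, ← hD, e]
      exact (Group.IsSolvable.commutator_lt_top_of_nontrivial C).ne htop
    have hMD : P.M ≤ normalizer (D : Set G) := fun m hm => by
      have := mem_normalizer_iff_map_conj_eq.1 (hMC hm)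
      rw [mem_normalizer_iff_map_conj_eq, hD, map_commutator, this]
    have hDv := hun D hDC hDne hMD
    set K := C ⊓ centralizer (D : Set G) with hK
    have hMK : P.M ≤ normalizer (K : Set G) := by
      intro m hm
      refine inf_normalizer_le_normalizer_inf ⟨hMC hm, ?_⟩
      have hmD := mem_normalizer_iff_map_conj_eq.1 (hMD hm)
      show m ∈ normalizer (centralizer (D : Set G) : Set G)
      rw [mem_normalizer_iff]
      have key : ∀ g ∈ normalizer (D : Set G), ∀ z ∈ centralizer (D : Set G),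
          g * z * g⁻¹ ∈ centralizer (D : Set G) := fun g hg z hz =>
        mem_centralizer_iff.2 fun d hd => by
          have h1 : Commute (g⁻¹ * d * g) z :=
            mem_centralizer_iff.1 hz _ ((mem_normalizer_iff''.1 hg d).1 hd)
          have h2 := (h1.map (MulAut.conj g).toMonoidHom).eq
          simpa [mul_assoc] using h2
      exact fun z => ⟨key m (hMD hm) z, fun h => by
        simpa [mul_assoc] using key m⁻¹ (inv_mem (hMD hm)) _ h⟩
    have hCD : ∀ x ∈ C, ∀ d ∈ D, Commute x d := by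
      by_contra! h
      obtain ⟨x, hx, d, hd, hn⟩ := h
      have hKne : K ≠ C := fun e => hn (mem_centralizer_iff.1 (e ▸ hx : x ∈ K).2 d hd).symm
      have hKv := hun K inf_le_left hKne hMK
      obtain ⟨x, hx, hn⟩ := hCv
      apply hn
      have hvi : v⁻¹ = v := inv_eq_self_of_orderOf_two hv
      have hvv := mul_self_of_orderOf_two hv
      set e := x⁻¹ * v * x * v⁻¹ with he
      have heC : e ∈ C := by
        rw [he, show x⁻¹ * v * x * v⁻¹ = x⁻¹ * (v * x * v⁻¹) by group]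
        exact mul_mem (inv_mem hx) ((mem_normalizer_iff.1 (hMC hvM) x).1 hx)
      have heK : e ∈ K := ⟨heC, mem_centralizer_iff.2 fun d hd => by
        have h1 : Commute (x * d * x⁻¹) v := hDv _
          ((mem_normalizer_iff.1 (hMD (coreIn_le _ (hCO hx))) d).1 hd) v hvM hv
        have h2 := h1.map (MulAut.conj x⁻¹).toMonoidHom
        have h3 : Commute d v := hDv d hd v hvM hv
        simp only [MulEquiv.coe_toMonoidHom, MulAut.conj_apply, inv_inv] at h2
        rw [show x⁻¹ * (x * d * x⁻¹) * x = d by group] at h2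
        exact (h2.mul_right h3.inv_right).eq⟩
      have hinv : v * e * v⁻¹ = e⁻¹ := by
        rw [he, hvi]
        calc v * (x⁻¹ * v * x * v) * v = v * x⁻¹ * v * x * (v * v) := by group
          _ = (x⁻¹ * v * x * v)⁻¹ := by rw [hvv, mul_one]; simp [mul_assoc, hvi]
      have he1 : e = 1 := by
        refine eq_one_of_sq_of_odd ?_ (isPGroup_odd hq2 hCq heC)
        rw [conj_eq_self_of_commute (hKv e heK v hvM hv).symm] at hinv
        calc e * e = e * e⁻¹ := by rw [← hinv]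
          _ = 1 := mul_inv_cancel e
      rw [he] at he1
      show x * v = v * x
      calc x * v = x * (x⁻¹ * v * x * v⁻¹) * v := by rw [he1, mul_one]
        _ = v * x := by group
    have hMZ : P.M ≤ normalizer ((C ⊓ centralizer (C : Set G) : Subgroup G) : Set G) := by
      intro m hm
      have key : ∀ g ∈ normalizer (C : Set G), ∀ z ∈ centralizer (C : Set G),
          g * z * g⁻¹ ∈ centralizer (C : Set G) := fun g hg z hz =>
        mem_centralizer_iff.2 fun d hd => by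
          have h1 : Commute (g⁻¹ * d * g) z :=
            mem_centralizer_iff.1 hz _ ((mem_normalizer_iff''.1 hg d).1 hd)
          have h2 := (h1.map (MulAut.conj g).toMonoidHom).eq
          simpa [mul_assoc] using h2
      refine inf_normalizer_le_normalizer_inf ⟨hMC hm, mem_normalizer_iff.2 fun z =>
        ⟨key m (hMC hm) z, fun h => ?_⟩⟩
      simpa [mul_assoc] using key m⁻¹ (inv_mem (hMC hm)) _ h
    obtain ⟨c₁, hc₁, hc₁y⟩ : ∃ c₁ ∈ C, ¬ Commute c₁ y := by
      by_contra! h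
      have hZne : C ⊓ centralizer (C : Set G) ≠ C := by
        intro e
        obtain ⟨x, hx, z, hz, hn⟩ := hab
        exact hn (mem_centralizer_iff.1 (e.ge hz).2 x hx)
      have hc := hun _ inf_le_left hZne hMZ y
        ⟨hyC, mem_centralizer_iff.2 fun z hz => (h z hz).eq⟩ w (hVcM hw) hwc.1
      rw [conj_eq_self_of_commute hc.symm] at hwy
      exact hy1 (eq_one_of_sq_of_odd (by
        calc y * y = y * y⁻¹ := by rw [← hwy]
          _ = 1 := mul_inv_cancel y) (isPGroup_odd hq2 hCq hyC))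
    set z := c₁ * y * c₁⁻¹ * y⁻¹ with hz
    have hzD : z ∈ D := commutator_mem_commutator hc₁ hyC
    have hzC : ∀ x ∈ C, Commute x z := fun x hx => hCD x hx z hzD
    have hzy : c₁ * y * c₁⁻¹ = z * y := by rw [hz]; group
    have hz1 : z ≠ 1 := fun e => hc₁y (by
      rw [e, one_mul] at hzy
      exact mul_inv_eq_iff_eq_mul.1 hzy)
    have hzq : z ^ q = 1 := by
      have h : (c₁ * y * c₁⁻¹) ^ q = (z * y) ^ q := by rw [hzy]
      rw [conj_pow, (hzC y hyC).symm.mul_pow, hyq, mul_one, mul_inv_cancel, mul_one] at h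
      exact h.symm
    have hzI : ∀ t ∈ P.M, orderOf t = 2 → Commute z t := fun t ht ho => hDv z hzD t ht ho
    have hyz : y ∉ zpowers z := fun h => hc₁y (by
      obtain ⟨k, hk⟩ := mem_zpowers_iff.1 h
      exact hk ▸ (hzC c₁ hc₁).zpow_right k)
    set A := zpowers y ⊔ zpowers z with hA
    have hyzc : ∀ p ∈ zpowers y, ∀ r ∈ zpowers z, Commute p r := by
      rintro _ ⟨i, rfl⟩ _ ⟨j, rfl⟩
      exact (hzC y hyC).zpow_zpow i j
    have hAmem : ∀ g ∈ A, ∃ i j : ℤ, g = y ^ i * z ^ j := by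
      intro g hg
      have hn : zpowers y ≤ normalizer (zpowers z : Set G) := fun p hp =>
        centralizer_le_normalizer _ (mem_centralizer_iff.2 fun r hr => (hyzc p hp r hr).eq.symm)
      rw [hA, ← SetLike.mem_coe, coe_mul_of_left_le_normalizer_right _ _ hn] at hg
      obtain ⟨_, ⟨i, rfl⟩, _, ⟨j, rfl⟩, rfl⟩ := hg
      exact ⟨i, j, rfl⟩
    haveI : IsMulCommutative A := ⟨⟨fun g g' => Subtype.ext (by
      obtain ⟨i, j, h⟩ := hAmem g g.2
      obtain ⟨i', j', h'⟩ := hAmem g' g'.2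
      show (g : G) * g' = g' * g
      rw [h, h']
      have hc := hzC y hyC
      exact (((Commute.refl y).zpow_zpow i i').mul_right (hc.zpow_zpow i j')).mul_left
        ((hc.symm.zpow_zpow j i').mul_right ((Commute.refl z).zpow_zpow j j')))⟩⟩
    have hAC : A ≤ C := sup_le (zpowers_le.2 hyC) (zpowers_le.2 (hDC hzD))
    have hAq : ∀ g ∈ A, g ^ q = 1 := by
      intro g hg
      obtain ⟨i, j, rfl⟩ := hAmem g hg
      rw [((hzC y hyC).zpow_zpow i j).mul_pow, ← zpow_natCast, ← zpow_natCast, ← zpow_mul,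
        ← zpow_mul, mul_comm i, mul_comm j, zpow_mul, zpow_mul, zpow_natCast, zpow_natCast, hyq,
        hzq, one_zpow, one_zpow, one_mul]
    refine le_bot_iff.1 (CfsgLib.Coprime.le_of_forall_inf_centralizer_le
      (not_isCyclic_of_not_mem hAq (le_sup_left (a := zpowers y) (mem_zpowers y))
        (le_sup_right (a := zpowers y) (mem_zpowers z)) hz1 hyz)
      (hAC.trans hCS) (hcop A hAC) fun g hg hg1 x hx => ?_)
    obtain ⟨hxS, hxg⟩ := hx
    have hxg' : Commute x g := mem_centralizer_singleton_iff.1 hxg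
    rw [mem_bot]
    obtain ⟨i, j, rfl⟩ := hAmem g hg
    by_cases hyi : y ^ i = 1
    · -- `g` is centralised by all involutions of `M`
      rw [hyi, one_mul] at hg1 hxg'
      set X := centralizer ({z ^ j} : Set G)
      have hIX : ∀ {p : Ω}, (∀ t ∈ invMap (G := G) p p, t ∈ P.M) →
          ∀ t ∈ invMap (G := G) p p, t ∈ X := fun h t ht =>
        mem_centralizer_singleton_iff.2 ((hzI t (h t ht) ht.1).zpow_left j).eq.symm
      have hX := centralizer_ne_top W hg1
      obtain ⟨m, hm, hmc⟩ := exists_moves W P.ne (hIX P.Ia) (hIX P.Ic)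
      have hmov : ∃ g ∈ X, g • P.a ≠ P.a := ⟨m, hm, by rw [hmc]; exact P.ne.symm⟩
      have hcore := NoKill.inf_le_coreIn W hX (hIX P.Ia) hmov
        (show x ∈ coreIn H ⊓ X from
          ⟨LocalStructure.pCoreOf_le _ hxS, mem_centralizer_singleton_iff.2 hxg'.eq⟩)
      refine hSc x hxS ?_
      rw [← hmc]
      exact (isR2 W hX (hIX P.Ia) hmov).core_fix x hcore m hm
    · -- a conjugate of a power of `y`
      have hzi : z ^ i ≠ 1 := by
        intro e
        apply hyi
        rw [← orderOf_dvd_iff_zpow_eq_one] at e ⊢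
        rw [orderOf_eq_prime hyq hy1]
        rwa [orderOf_eq_prime hzq hz1] at e
      obtain ⟨k, hk⟩ : ∃ k : ℤ, z ^ (k * i) = z ^ j := by
        obtain ⟨l, hl⟩ := mem_zpowers_iff.1
          (mem_zpowers_iff_of_pow_eq_one hzq (zpow_mem (mem_zpowers z) i) hzi)
        exact ⟨l * j, by rw [mul_comm l j, mul_assoc, mul_comm j, zpow_mul, mul_comm l i, zpow_mul,
          hl]⟩
      have hconj : ∀ k : ℤ, c₁ ^ k * y * (c₁ ^ k)⁻¹ = z ^ k * y := by
        have hcz : c₁ * z * c₁⁻¹ = z := conj_eq_self_of_commute (hzC c₁ hc₁)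
        have hcy : c₁⁻¹ * y * c₁ = z⁻¹ * y := by
          calc c₁⁻¹ * y * c₁ = c₁⁻¹ * (z⁻¹ * (z * y)) * c₁ := by group
            _ = c₁⁻¹ * (z⁻¹ * (c₁ * y * c₁⁻¹)) * c₁ := by rw [hzy]
            _ = (c₁⁻¹ * z⁻¹ * c₁) * y := by group
            _ = z⁻¹ * y := by
              rw [((hzC c₁ hc₁).inv_right.inv_left).eq, inv_mul_cancel_right]
        intro k
        induction k using Int.induction_on with
        | zero => simp
        | succ k ih =>
          calc c₁ ^ ((k : ℤ) + 1) * y * (c₁ ^ ((k : ℤ) + 1))⁻¹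
              = c₁ * (c₁ ^ (k : ℤ) * y * (c₁ ^ (k : ℤ))⁻¹) * c₁⁻¹ := by
                rw [add_comm, zpow_add, zpow_one]; group
            _ = (c₁ * z ^ (k : ℤ) * c₁⁻¹) * (c₁ * y * c₁⁻¹) := by rw [ih]; group
            _ = z ^ ((k : ℤ) + 1) * y := by
              rw [conj_eq_self_of_commute ((hzC c₁ hc₁).zpow_right _), hzy, zpow_add_one]; group
        | pred k ih =>
          calc c₁ ^ (-(k : ℤ) - 1) * y * (c₁ ^ (-(k : ℤ) - 1))⁻¹
              = c₁⁻¹ * (c₁ ^ (-(k : ℤ)) * y * (c₁ ^ (-(k : ℤ)))⁻¹) * c₁ := by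
                rw [sub_eq_add_neg, add_comm, zpow_add, zpow_neg_one]; group
            _ = (c₁⁻¹ * z ^ (-(k : ℤ)) * c₁) * (c₁⁻¹ * y * c₁) := by rw [ih]; group
            _ = z ^ (-(k : ℤ) - 1) * y := by
              rw [((hzC c₁ hc₁).inv_left.zpow_right _).eq, inv_mul_cancel_right, hcy,
                zpow_sub_one]; group
      have hck : c₁ ^ k * y ^ i * (c₁ ^ k)⁻¹ = y ^ i * z ^ j := by
        rw [← conj_zpow, hconj, ((hzC y hyC).symm.zpow_left k).mul_zpow, ← zpow_mul, hk]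
        exact ((hzC y hyC).symm.zpow_zpow j i).eq
      have hcS : (c₁ ^ k)⁻¹ * x * c₁ ^ k ∈ S :=
        (mem_normalizer_iff''.1 (hCS (zpow_mem hc₁ k)) x).1 hxS
      have hcom : Commute ((c₁ ^ k)⁻¹ * x * c₁ ^ k) (y ^ i) := by
        rw [← hck] at hxg'
        have h1 := hxg'.map (MulAut.conj (c₁ ^ k)⁻¹).toMonoidHom
        simp only [MulEquiv.coe_toMonoidHom, MulAut.conj_apply, inv_inv] at h1
        simpa [mul_assoc] using h1
      have := heigen (zpow_mem hyC i) hyi hwc (by rw [← conj_zpow, hwy, inv_zpow]) huo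
        (huy.zpow_right i) _ hcS hcom
      calc x = c₁ ^ k * ((c₁ ^ k)⁻¹ * x * c₁ ^ k) * (c₁ ^ k)⁻¹ := by group
        _ = 1 := by rw [this]; group
  -- abelian
  have hexp : ∀ x ∈ C, x ^ q = 1 := by
    let K : Subgroup G :=
      { carrier := {x | x ∈ C ∧ x ^ q = 1}
        one_mem' := ⟨one_mem _, one_pow q⟩
        mul_mem' := fun {x z} hx hz => ⟨mul_mem hx.1 hz.1, by
          rw [(hab x hx.1 z hz.1).mul_pow, hx.2, hz.2, one_mul]⟩
        inv_mem' := fun {x} hx => ⟨inv_mem hx.1, by rw [inv_pow, hx.2, inv_one]⟩ }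
    have hKe : K = C := by
      by_contra hne
      have hMK : P.M ≤ normalizer (K : Set G) := fun m hm => mem_normalizer_iff.2 fun z =>
        and_congr (mem_normalizer_iff.1 (hMC hm) z) (by rw [conj_pow, conj_eq_one_iff])
      have hc := hun K (fun x hx => hx.1) hne hMK y ⟨hyC, hyq⟩ w (hVcM hw) hwc.1
      rw [conj_eq_self_of_commute hc.symm] at hwy
      exact hy1 (eq_one_of_sq_of_odd (by
        calc y * y = y * y⁻¹ := by rw [← hwy]
          _ = 1 := mul_inv_cancel y) (isPGroup_odd hq2 hCq hyC))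
    exact fun x hx => (hKe ▸ hx : x ∈ K).2
  by_contra hSb
  set Z₀ := C ⊓ centralizer (S : Set G) with hZ₀
  have hZ₀mem : ∀ x ∈ C, ∀ t ∈ invMap (G := G) P.a P.a, x * t * x⁻¹ * t⁻¹ ∈ Z₀ := by
    intro x hx t ht
    refine ⟨?_, ?_⟩
    · rw [show x * t * x⁻¹ * t⁻¹ = x * (t * x⁻¹ * t⁻¹) by group]
      exact mul_mem hx ((mem_normalizer_iff.1 (hMC (P.Ia t ht)) _).1 (inv_mem hx))
    · exact mem_centralizer_iff.2 fun z hz => ((hLS _ (conj_mem_invMap (hOa (hCO hx)) ht) z hz).mul_right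
        (hLS t ht z hz).inv_right).eq
  let ℋ : Set (Subgroup G) := {H₀ | Z₀ ≤ H₀ ∧ H₀ ≤ C ∧ S ⊓ centralizer (H₀ : Set G) ≠ ⊥}
  obtain ⟨H₀, ⟨hZH, hHC, hKne⟩, hmax⟩ : ∃ H₀ ∈ ℋ, ∀ K ∈ ℋ, H₀ ≤ K → K = H₀ := by
    obtain ⟨H₀, -, hH₀⟩ := (Set.toFinite ℋ).exists_le_maximal (a := Z₀)
      ⟨le_rfl, inf_le_left, by
        rwa [inf_eq_left.2 (le_centralizer_iff.1 (inf_le_right : Z₀ ≤ centralizer (S : Set G)))]⟩
    exact ⟨H₀, hH₀.1, fun K h h' => le_antisymm (hH₀.2 h h') h'⟩
  set K₀ := S ⊓ centralizer (H₀ : Set G) with hK₀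
  have hCK : C ≤ normalizer (K₀ : Set G) := by
    refine (le_inf hCS (fun x hx => ?_)).trans inf_normalizer_le_normalizer_inf
    refine le_normalizer (mem_centralizer_iff.2 fun d hd => (hab d (hHC hd) x hx).eq)
  have hmeet : ∀ A : Subgroup G, A ≤ C → ¬ IsCyclic A → ∃ g ∈ A, g ∈ H₀ ∧ g ≠ 1 := by
    intro A hAC hAnc
    by_contra! h
    haveI : IsMulCommutative A := ⟨⟨fun g g' => Subtype.ext (hab g (hAC g.2) g' (hAC g'.2)).eq⟩⟩
    refine hKne (le_bot_iff.1 (CfsgLib.Coprime.le_of_forall_inf_centralizer_le hAnc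
      (hAC.trans hCK) ((hcop A hAC).coprime_dvd_right (card_dvd_of_le inf_le_left))
      fun g hg hg1 x hx => ?_))
    rw [mem_bot]
    by_contra hx1
    have hmem : H₀ ⊔ zpowers g ∈ ℋ := by
      refine ⟨hZH.trans le_sup_left, sup_le hHC (zpowers_le.2 (hAC hg)), fun e => hx1 ?_⟩
      rw [← mem_bot, ← e]
      refine ⟨hx.1.1, mem_centralizer_iff.2 fun d hd => ?_⟩
      have hle : H₀ ⊔ zpowers g ≤ centralizer ({x} : Set G) := sup_le
        (fun d hd => mem_centralizer_singleton_iff.2 (mem_centralizer_iff.1 hx.1.2 d hd))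
        (zpowers_le.2 (mem_centralizer_singleton_iff.2
          (mem_centralizer_singleton_iff.1 hx.2).symm))
      exact mem_centralizer_singleton_iff.1 (hle hd)
    exact hg1 (h g hg ((hmax _ hmem le_sup_left) ▸ le_sup_right (a := H₀) (mem_zpowers g)))
  -- a second eigen element
  obtain ⟨x₀, hx₀, hx₀u⟩ := hmoved u (hVcM hu) huo
  set x := x₀⁻¹ * (u * x₀ * u⁻¹) with hx
  have hxC : x ∈ C := mul_mem (inv_mem hx₀) ((mem_normalizer_iff.1 (hMC (hVcM hu)) _).1 hx₀)
  have hui : u⁻¹ = u := inv_eq_self_of_orderOf_two huo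
  have huu := mul_self_of_orderOf_two huo
  have hux : u * x * u⁻¹ = x⁻¹ := by
    rw [hx, hui]
    calc u * (x₀⁻¹ * (u * x₀ * u)) * u = u * x₀⁻¹ * u * x₀ * (u * u) := by group
      _ = (x₀⁻¹ * (u * x₀ * u))⁻¹ := by rw [huu, mul_one]; simp [mul_assoc, hui]
  have hx1 : x ≠ 1 := fun e => hx₀u (by
    rw [hx, inv_mul_eq_one] at e
    exact (mul_inv_eq_iff_eq_mul.1 e.symm).symm)
  have hwu : Commute u w := hVc.commute hu hw
  obtain ⟨w', hw'c, hw'M, x', hx'C, hx'1, hw'y, hw'x, hux'⟩ : ∃ w', w' ∈ invMap (G := G) P.c P.c ∧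
      w' ∈ P.M ∧ ∃ x' ∈ C, x' ≠ 1 ∧ w' * y * w'⁻¹ = y⁻¹ ∧ w' * x' * w'⁻¹ = x'⁻¹ ∧
      u * x' * u⁻¹ = x'⁻¹ := by
    have hwx : w * x * w⁻¹ ∈ C := (mem_normalizer_iff.1 (hMC (hVcM hw)) _).1 hxC
    by_cases hx' : x⁻¹ * (w * x * w⁻¹) = 1
    · -- `u w` inverts both
      have hwxx : w * x * w⁻¹ = x := (inv_mul_eq_one.1 hx').symm
      have huw1 : u * w ≠ 1 := by
        intro e
        have : u = w := by rw [eq_inv_of_mul_eq_one_left e, inv_eq_self_of_orderOf_two hwc.1]
        rw [this] at hux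
        exact hx1 (eq_one_of_sq_of_odd (by
          calc x * x = x * (w * x * w⁻¹) := by rw [hwxx]
            _ = 1 := by rw [hux, mul_inv_cancel]) (isPGroup_odd hq2 hCq hxC))
      refine ⟨u * w, ⟨hVc.orderOf_eq_two (mul_mem hu hw) huw1, hVcc _ (mul_mem hu hw)⟩,
        hVcM (mul_mem hu hw), x, hxC, hx1, ?_, ?_, hux⟩
      · calc u * w * y * (u * w)⁻¹ = u * (w * y * w⁻¹) * u⁻¹ := by group
          _ = y⁻¹ := by rw [hwy]; exact conj_eq_self_of_commute huy.inv_right
      · calc u * w * x * (u * w)⁻¹ = u * (w * x * w⁻¹) * u⁻¹ := by group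
          _ = x⁻¹ := by rw [hwxx, hux]
    · refine ⟨w, hwc, hVcM hw, _, mul_mem (inv_mem hxC) hwx, hx', hwy, ?_, ?_⟩
      · have hwi : w⁻¹ = w := inv_eq_self_of_orderOf_two hwc.1
        have hww := mul_self_of_orderOf_two hwc.1
        rw [hwi]
        calc w * (x⁻¹ * (w * x * w)) * w = w * x⁻¹ * w * x * (w * w) := by group
          _ = (x⁻¹ * (w * x * w))⁻¹ := by rw [hww, mul_one]; simp [mul_assoc, hwi]
      · have h1 : u * (w * x * w⁻¹) * u⁻¹ = w * x⁻¹ * w⁻¹ := by
          calc u * (w * x * w⁻¹) * u⁻¹ = (u * w) * x * (u * w)⁻¹ := by group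
            _ = w * (u * x * u⁻¹) * w⁻¹ := by rw [hwu.eq]; group
            _ = _ := by rw [hux]
        calc u * (x⁻¹ * (w * x * w⁻¹)) * u⁻¹ = (u * x * u⁻¹)⁻¹ * (u * (w * x * w⁻¹) * u⁻¹) := by
              group
          _ = x * (w * x * w⁻¹)⁻¹ := by rw [h1, hux]; group
          _ = (w * x * w⁻¹)⁻¹ * x := (hab x hxC _ (inv_mem hwx)).eq
          _ = (x⁻¹ * (w * x * w⁻¹))⁻¹ := by group
  set A := zpowers y ⊔ zpowers x' with hA
  have hAC : A ≤ C := sup_le (zpowers_le.2 hyC) (zpowers_le.2 hx'C)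
  have hAnc : ¬ IsCyclic A := by
    refine not_isCyclic_of_not_mem (fun g hg => hexp g (hAC hg))
      (le_sup_left (a := zpowers y) (mem_zpowers y))
      (le_sup_right (a := zpowers y) (mem_zpowers x')) hx'1 fun h => hy1 ?_
    obtain ⟨k, rfl⟩ := mem_zpowers_iff.1 h
    have h1 : u * x' ^ k * u⁻¹ = (x' ^ k)⁻¹ := by rw [← conj_zpow, hux', inv_zpow]
    rw [conj_eq_self_of_commute huy] at h1
    exact eq_one_of_sq_of_odd (by
      calc x' ^ k * x' ^ k = x' ^ k * (x' ^ k)⁻¹ := by rw [← h1]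
        _ = 1 := mul_inv_cancel _) (isPGroup_odd hq2 hCq hyC)
  have hAinv : ∀ g ∈ A, w' * g * w'⁻¹ = g⁻¹ := by
    let J : Subgroup G :=
      { carrier := {g | g ∈ C ∧ w' * g * w'⁻¹ = g⁻¹}
        one_mem' := ⟨one_mem _, by simp⟩
        mul_mem' := fun {g g'} hg hg' => ⟨mul_mem hg.1 hg'.1, by
          calc w' * (g * g') * w'⁻¹ = (w' * g * w'⁻¹) * (w' * g' * w'⁻¹) := by group
            _ = g⁻¹ * g'⁻¹ := by rw [hg.2, hg'.2]
            _ = (g * g')⁻¹ := by rw [mul_inv_rev]; exact (hab _ (inv_mem hg.1) _ (inv_mem hg'.1)).eq⟩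
        inv_mem' := fun {g} hg => ⟨inv_mem hg.1, by
          rw [← conj_inv, hg.2]⟩ }
    have : A ≤ J := sup_le (zpowers_le.2 ⟨hyC, hw'y⟩) (zpowers_le.2 ⟨hx'C, hw'x⟩)
    exact fun g hg => (this hg).2
  obtain ⟨y₁, hy₁A, hy₁H, hy₁1⟩ := hmeet A hAC hAnc
  have hy₁C : y₁ ∈ C := hAC hy₁A
  set X := centralizer ({y₁} : Set G) with hX
  have hKX : K₀ ≤ X := fun g hg =>
    mem_centralizer_singleton_iff.2 (mem_centralizer_iff.1 hg.2 y₁ hy₁H).symm
  have hKone : ∀ g ∈ K₀, g • P.c = P.c → g = 1 := fun g hg h => hSc g hg.1 h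
  have hfalse : (∀ g ∈ K₀, g • P.c = P.c) → False := fun h =>
    hKne ((eq_bot_iff_forall K₀).2 fun g hg => hKone g hg (h g hg))
  have hXodd : Odd (Nat.card X) := by
    by_contra hev
    obtain ⟨u', hu'X, hu'⟩ := exists_invol_mem (Nat.not_odd_iff_even.1 hev)
    refine hfalse fun g hg => ?_
    exact centralizer_le_of_inverted W.uf hw'c (hAinv y₁ hy₁A)
      (fun h => hy₁1 (eq_one_of_sq_of_odd h (isPGroup_odd hq2 hCq hy₁C))) hu'
      (mem_centralizer_singleton_iff.1 hu'X) (hKX hg)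
  haveI : Group.IsSolvable X := Cfsg.Agent.S0205.result hXodd
  set R := (Cfsg.pPrimeCore q X).map X.subtype with hR
  have hCX : C ≤ X := fun g hg => mem_centralizer_singleton_iff.2 (hab g hg y₁ hy₁C).eq
  have hw'X : w' ∈ normalizer (X : Set G) := by
    have key : ∀ g : G, g * y₁ * g⁻¹ = y₁⁻¹ → ∀ z ∈ X, g * z * g⁻¹ ∈ X := fun g hg z hz => by
      have h1 := (Commute.inv_right (show Commute z y₁ from mem_centralizer_singleton_iff.1 hz)).map
        (MulAut.conj g).toMonoidHom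
      simp only [MulEquiv.coe_toMonoidHom, MulAut.conj_apply] at h1
      rw [← conj_inv, hg, inv_inv] at h1
      exact mem_centralizer_singleton_iff.2 h1.eq
    have hi := hAinv y₁ hy₁A
    have hi' : w'⁻¹ * y₁ * w'⁻¹⁻¹ = y₁⁻¹ := by
      rw [inv_eq_self_of_orderOf_two hw'c.1] at hi ⊢
      rwa [inv_eq_self_of_orderOf_two hw'c.1]
    exact mem_normalizer_iff.2 fun z => ⟨key w' hi z, fun h => by
      simpa [mul_assoc] using key w'⁻¹ hi' _ h⟩
  have hnR : normalizer (X : Set G) ≤ normalizer (R : Set G) :=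
    Components.normalizer_le_normalizer_map_subtype _ _
  have hRc : ∀ g ∈ R, g • P.c = P.c := by
    have hcopR : (Nat.card R).Coprime (2 * q) := by
      rw [hR, card_map_of_injective X.subtype_injective]
      exact Nat.Coprime.mul_right
        (Nat.coprime_two_right.2 (hXodd.of_dvd_nat (card_subgroup_dvd_card _)))
        (CfsgLib.PLocal.coprime_card_pPrimeCore q X)
    have hRs : Group.IsSolvable R := Cfsg.Agent.S0205.result
      (Nat.coprime_two_right.1 (hcopR.coprime_dvd_right (dvd_mul_right 2 q)))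
    have hyX : y ∈ normalizer (R : Set G) := hnR (le_normalizer (hCX hyC))
    have hle := le_of_dihedral (T := MulAction.stabilizer G P.c) _ hqp hyq
      (mul_self_of_orderOf_two hw'c.1) hw'y rfl hRs hcopR hyX (hnR hw'X)
      (fun g _ hg => centralizer_le_of_inverted W.uf hwc hwy
        (fun h => hy1 (eq_one_of_sq_of_odd h (isPGroup_odd hq2 hCq hyC))) huo huy
        (mem_centralizer_singleton_iff.2 hg.eq.symm))
      (fun i g _ hg => by
        have hyc : y • P.c = P.c := hOc y (hCO hyC)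
        have hyic : y ^ i • P.c = P.c := (pow_mem (mem_stab.2 hyc) i :)
        have hfix : (w' * y ^ i) • P.c = P.c := by rw [mul_smul, hyic, hw'c.2]
        have hne : w' * y ^ i ≠ 1 := fun e => by
          have hw'e : w' = (y ^ i)⁻¹ := eq_inv_of_mul_eq_one_left e
          exact ne_one_of_orderOf_two hw'c.1 (eq_one_of_sq_of_odd (mul_self_of_orderOf_two hw'c.1)
            (hw'e ▸ isPGroup_odd hq2 hCq (inv_mem (pow_mem hyC i))))
        have hyi : w' * y ^ i * w'⁻¹ = (y ^ i)⁻¹ := by rw [← conj_pow, hw'y, inv_pow]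
        have hsq : (w' * y ^ i) * (w' * y ^ i) = 1 := by
          calc w' * y ^ i * (w' * y ^ i) = (w' * y ^ i * w'⁻¹) * (w' * w') * y ^ i := by group
            _ = 1 := by rw [hyi, mul_self_of_orderOf_two hw'c.1, mul_one, inv_mul_cancel]
        exact commute_fix W.uf (orderOf_eq_prime (by rw [pow_two]; exact hsq) hne) hg.symm hfix)
    exact fun g hg => hle hg
  -- `C(H₀)` fixes `a` and normalises `K₀`
  obtain ⟨ua, hua, ta, hta, hua1, hta1, ya, hyaC, -, hya1, htya, huya⟩ :=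
    exists_eigen hq2 hCq hVa (hVaM.trans hMC)
      fun w hw hw1 => hmoved w (hVaM hw) (hVa.orderOf_eq_two hw hw1)
  have htaI : ta ∈ invMap (G := G) P.a P.a := ⟨hVa.orderOf_eq_two hta hta1, hVaa ta hta⟩
  have hyaH : ya ∈ H₀ := by
    refine hZH ?_
    have h := hZ₀mem ya hyaC ta htaI
    have hi : ta * ya⁻¹ * ta⁻¹ = ya := by rw [← conj_inv, htya, inv_inv]
    rw [show ya * ta * ya⁻¹ * ta⁻¹ = ya * (ta * ya⁻¹ * ta⁻¹) by group, hi, ← pow_two] at h
    exact mem_of_pow_two_mem (isPGroup_odd hq2 hCq hyaC) (n := 1) (by rwa [pow_one])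
  have hCH : centralizer (H₀ : Set G) ≤ normalizer (K₀ : Set G) := by
    intro g hg
    have hga : g ∈ H := centralizer_le_of_inverted W.uf htaI htya
      (fun h => hya1 (eq_one_of_sq_of_odd h (isPGroup_odd hq2 hCq hyaC)))
      (hVa.orderOf_eq_two hua hua1) huya
      (mem_centralizer_singleton_iff.2 (mem_centralizer_iff.1 hg ya hyaH).symm)
    exact inf_normalizer_le_normalizer_inf ⟨hnS hga, le_normalizer hg⟩
  have hHX : H₀ ≤ X := hHC.trans hCX
  have hKR : K₀.subgroupOf X ≤ Cfsg.pPrimeCore q X := by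
    refine OddOrder.le_pPrimeCore_of_centralizer (B := H₀.subgroupOf X)
      ((hCq.to_le hHC).comap_subtype) ?_ ?_ ?_
    · rw [Nat.card_congr (subgroupOfEquivOfLe hKX).toEquiv]
      obtain ⟨j, hj⟩ := IsPGroup.iff_card.1
        ((LocalStructure.pCoreOf_isPGroup (p := s) (coreIn H) : IsPGroup s S).to_le
          (inf_le_left : K₀ ≤ S))
      rw [hj]
      exact ((Nat.coprime_primes Fact.out hqp).2 (Ne.symm hqs)).pow_left j
    · intro g hg
      exact mem_centralizer_iff.2 fun d hd =>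
        Subtype.ext (mem_centralizer_iff.1 (mem_subgroupOf.1 hg).2 (d : G) (mem_subgroupOf.1 hd))
    · intro g hg
      have : (g : G) ∈ centralizer (H₀ : Set G) := mem_centralizer_iff.2 fun d hd =>
        congrArg Subtype.val (mem_centralizer_iff.1 hg ⟨d, hHX hd⟩ (mem_subgroupOf.2 hd))
      exact mem_normalizer_iff.2 fun z => mem_normalizer_iff.1 (hCH this) z
  exact hfalse fun g hg => hRc g ⟨⟨g, hKX hg⟩, hKR (mem_subgroupOf.2 hg), rfl⟩

end Pair

end CfsgLib.BenderWorld.NoKill
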