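import Cfsg.Agent.OddOrder.AppBPuigOdd
import Cfsg.Agent.Solvable.Basic
import Cfsg.Agent.S0205
import Cfsg.Prelude.Def_Amalgam

/-!
The Puig series of a `q`-subgroup inside the ambient group: invariance, centralisers, `Z(L(R))`
for a Sylow `q`-subgroup `R` of an odd group, and the comparison of two series.
-/

set_option autoImplicit false

namespace CfsgLib.BenderWorld.NoKill

open Cfsg Subgroup CfsgLib.OddOrder

variable {G : Type*} [Group G] [Finite G] {q : ℕ} [Fact q.Prime]

omit [Finite G] in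
theorem normalizer_le_normalizer_puigSeqIn (Q : Subgroup G) (n : ℕ) :
    normalizer (Q : Set G) ≤ normalizer (puigSeqIn Q n : Set G) := by
  intro g hg
  have hQ : Q.map (MulAut.conj g).toMonoidHom = Q := by
    ext x
    simp only [mem_map, MulEquiv.coe_toMonoidHom, MulAut.conj_apply]
    constructor
    · rintro ⟨y, hy, rfl⟩; exact (mem_normalizer_iff.1 hg y).1 hy
    · exact fun hx => ⟨g⁻¹ * x * g, (mem_normalizer_iff''.1 hg x).1 hx, by group⟩
  have h := map_puigSeq (f := (MulAut.conj g).toMonoidHom.comp Q.subtype)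
    ((MulAut.conj g).injective.comp Q.subtype_injective) n
  rw [MonoidHom.range_comp, range_subtype, hQ, ← Subgroup.map_map, ← puigSeqIn_eq] at h
  rw [mem_normalizer_iff]
  intro a
  constructor
  · intro ha; rw [← h]; exact ⟨a, ha, rfl⟩
  · intro ha
    rw [← h] at ha
    obtain ⟨b, hb, hba⟩ := ha
    obtain rfl : b = a := (MulAut.conj g).injective hba
    exact hb

theorem inf_centralizer_puigSeqIn_le' {Q : Subgroup G} (hQ : IsPGroup q Q) (n : ℕ) :
    Q ⊓ centralizer (puigSeqIn Q (n + 1) : Set G) ≤ puigSeqIn Q (n + 1) := by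
  rintro x ⟨hxT, hxC⟩
  rw [puigSeqIn_eq] at hxC ⊢
  refine ⟨⟨x, hxT⟩, centralizer_puigStep_le (p := q) hQ _
    (mem_centralizer_iff.2 fun y hy => Subtype.ext ?_), rfl⟩
  exact mem_centralizer_iff.1 hxC y (mem_map_of_mem _ hy)

theorem puigCenterIn_ne_bot {R : Subgroup G} (hR : IsPGroup q R) (h : R ≠ ⊥) :
    puigCenterIn R ≠ ⊥ := by
  haveI : Nontrivial R := (nontrivial_iff_ne_bot R).2 h
  haveI : Nontrivial (puigSubgroup R) :=
    (nontrivial_iff_ne_bot _).2 (puigSubgroup_ne_bot (p := q) hR)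
  haveI := (hR.to_subgroup (puigSubgroup R)).center_nontrivial
  obtain ⟨⟨z, hz⟩, hz1⟩ := exists_ne (1 : center (puigSubgroup R))
  rw [puigCenterIn_eq]
  intro hb
  refine hz1 (Subtype.ext (Subtype.ext (Subtype.ext ?_)))
  exact mem_bot.1 (hb ▸ mem_map_of_mem R.subtype (mem_map_of_mem (puigSubgroup R).subtype hz))

/-- `K` odd without normal `r`-subgroups, `r ≠ q`: `Z(L(R))` is invariant under `N(K)`. -/
theorem normalizer_le_normalizer_puigCenterIn_sylow (hq2 : q ≠ 2) {K : Subgroup G}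
    (hodd : Odd (Nat.card K)) (hO : ∀ r : ℕ, r.Prime → r ≠ q → Cfsg.pCoreOf r K = ⊥)
    {R : Subgroup G} (hRK : R ≤ K) (hR : IsPGroup q R)
    (hmax : ∀ R' : Subgroup G, IsPGroup q R' → R' ≤ K → R ≤ R' → R' = R) :
    normalizer (K : Set G) ≤ normalizer (puigCenterIn R : Set G) := by
  haveI : Group.IsSolvable K := Cfsg.Agent.S0205.result hodd
  have hcore : pPrimeCore q K = ⊥ := by
    by_contra hne
    obtain ⟨M, hMn, hMne, hMle, hmin⟩ :=
      CfsgLib.Solvable.exists_minimal_normal_le (N := pPrimeCore q K) inferInstance hne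
    haveI := hMn
    obtain ⟨r, hr, hMr⟩ := CfsgLib.Solvable.exists_isPGroup_of_minimal_normal hMne hmin
    haveI := Fact.mk hr
    refine hMne ?_
    by_cases hrq : r = q
    · subst hrq
      exact PLocal.eq_bot_of_isPGroup_of_coprime hMr
        (Nat.Coprime.coprime_dvd_left (card_dvd_of_le hMle) (PLocal.coprime_card_pPrimeCore r K))
    · have h1 : pCore r K = ⊥ :=
        (map_eq_bot_iff_of_injective _ K.subtype_injective).1 (hO r hr hrq)
      exact le_bot_iff.1 (h1 ▸ PLocal.le_pCore hMr)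
  let S : Sylow q K :=
    { toSubgroup := R.subgroupOf K
      isPGroup' := hR.of_equiv (subgroupOfEquivOfLe hRK).symm
      is_maximal' := fun {Q} hQ hle => by
        have hmap := hmax (Q.map K.subtype) (hQ.map _) (map_subtype_le Q) fun x hx =>
          ⟨⟨x, hRK hx⟩, hle hx, rfl⟩
        rw [subgroupOf, ← hmap]
        exact (comap_map_eq_self_of_injective K.subtype_injective Q).symm }
  haveI : (puigCenterIn (S : Subgroup K)).Normal :=
    puigCenterIn_normal hq2 hodd hcore S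
  have hmapS : (S : Subgroup K).map K.subtype = R := by
    show (R.subgroupOf K).map K.subtype = R
    rw [subgroupOf_map_subtype]
    exact inf_eq_left.2 hRK
  have hKN : K ≤ normalizer (puigCenterIn R : Set G) := by
    rw [← hmapS, ← map_puigCenterIn K.subtype_injective.injOn]
    refine le_trans ?_ (le_normalizer_map K.subtype)
    rw [normalizer_eq_top, ← MonoidHom.range_eq_map, range_subtype]
  intro g hg
  -- the Frattini argument
  obtain ⟨k, hk⟩ : ∃ k ∈ K, k⁻¹ * g ∈ normalizer (R : Set G) := by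
    have hgR : IsPGroup q (R.map (MulAut.conj g).toMonoidHom) := hR.map _
    have hgK : R.map (MulAut.conj g).toMonoidHom ≤ K := by
      rintro _ ⟨y, hy, rfl⟩
      exact (mem_normalizer_iff.1 hg y).1 (hRK hy)
    obtain ⟨P, hP⟩ := (hgR.of_equiv (subgroupOfEquivOfLe hgK).symm).exists_le_sylow
    obtain ⟨k, hk⟩ := MulAction.exists_smul_eq K S P
    refine ⟨k, k.2, ?_⟩
    have hle : R.map (MulAut.conj ((k : G)⁻¹ * g)).toMonoidHom ≤ R := by
      rintro _ ⟨y, hy, rfl⟩
      have h1 : (⟨g * y * g⁻¹, hgK ⟨y, hy, rfl⟩⟩ : K) ∈ (P : Subgroup K) :=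
        hP (show g * y * g⁻¹ ∈ R.map (MulAut.conj g).toMonoidHom from ⟨y, hy, rfl⟩)
      rw [← hk, Sylow.smul_def] at h1
      obtain ⟨z, hz, hze⟩ := h1
      have hze' : (k : G) * (z : G) * (k : G)⁻¹ = g * y * g⁻¹ := congrArg Subtype.val hze
      have he : (z : G) = (k : G)⁻¹ * g * y * ((k : G)⁻¹ * g)⁻¹ := by
        calc (z : G) = (k : G)⁻¹ * ((k : G) * z * (k : G)⁻¹) * k := by group
          _ = _ := by rw [hze']; group
      show (k : G)⁻¹ * g * y * ((k : G)⁻¹ * g)⁻¹ ∈ R
      rw [← he]; exact hz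
    rw [mem_normalizer_iff]
    intro y
    refine ⟨fun hy => hle ⟨y, hy, rfl⟩, fun hy => ?_⟩
    have heq : R.map (MulAut.conj ((k : G)⁻¹ * g)).toMonoidHom = R :=
      Subgroup.eq_of_le_of_card_ge hle (le_of_eq
        (Nat.card_congr (R.equivMapOfInjective _ (MulAut.conj _).injective).toEquiv))
    rw [← heq] at hy
    obtain ⟨z, hz, hze⟩ := hy
    obtain rfl : z = y := (MulAut.conj ((k : G)⁻¹ * g)).injective hze
    exact hz
  have := mul_mem (hKN hk.1) (normalizer_le_normalizer_puigCenterIn R hk.2)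
  rwa [mul_inv_cancel_left] at this

theorem puig_compare {R Q : Subgroup G} (hQR : Q ≤ R)
    (key : ∀ (n : ℕ) (A : Subgroup G), A ≤ R → IsMulCommutative A →
      puigSeqIn Q (n + 1) ≤ normalizer (A : Set G) → A ≤ Q) :
    puigLowerIn R ≤ puigLowerIn Q ∧ puigIn Q ≤ puigIn R := by
  have hstep : ∀ n, puigStepIn R (puigSeqIn Q (n + 1)) = puigSeqIn Q (n + 2) := fun n =>
    (puigStepIn_eq_of_le hQR (sSup_le fun A hA => key n A hA.1 hA.2.1 hA.2.2)).symm
  have hcmp : ∀ n, puigSeqIn R (2 * n) ≤ puigSeqIn Q (2 * n) ∧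
      puigSeqIn Q (2 * n + 1) ≤ puigSeqIn R (2 * n + 1) := by
    intro n
    induction n with
    | zero => exact ⟨le_rfl, puigStepIn_mono hQR _⟩
    | succ n ih =>
      have h1 : puigSeqIn R (2 * n + 2) ≤ puigSeqIn Q (2 * n + 2) :=
        (puigStepIn_anti ih.2).trans (hstep (2 * n)).le
      exact ⟨h1, (hstep (2 * n + 1)).symm.le.trans (puigStepIn_anti h1)⟩
  obtain ⟨k, hk⟩ := puigSeqIn_stabilizes R
  obtain ⟨l, hl⟩ := puigSeqIn_stabilizes Q
  rw [← (hk _ (le_max_left k l)).1, ← (hk _ (le_max_left k l)).2,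
    ← (hl _ (le_max_right k l)).1, ← (hl _ (le_max_right k l)).2]
  exact hcmp _

end CfsgLib.BenderWorld.NoKill
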