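import Cfsg.Agent.BenderWorld.NoKill.EigenKill
import Cfsg.Agent.BenderWorld.NoKill.PuigCompare

/-!
# Slice F, steps 3 and 4: `F(O(G_a))` is a `q`-group inside `O(M)`

`pCoreOf_le`: every `O_s(O(G_a))` lies in `O_s(O(M))`.  Hence `F*(G_a) ≤ G_c` and symmetrically,
and Bender's maximal subgroup theorem leaves a single prime.
-/

set_option autoImplicit false
set_option linter.style.haveILetI false

namespace CfsgLib.BenderWorld.NoKill

open CfsgLib.Small CfsgLib.SEmbed Subgroup
open scoped Pointwise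
open CfsgLib.Signalizer (fittingOf)
open CfsgLib.OddOrder (puigCenterIn puigCenterIn_le normalizer_le_normalizer_puigCenterIn)

variable {G : Type*} [Group G] [Finite G] {Ω : Type*} [MulAction G Ω]

/-- A `2`-subgroup of an odd one is trivial. -/
theorem pCoreOf_two_eq_bot {K : Subgroup G} (hK : Odd (Nat.card K)) : Cfsg.pCoreOf 2 K = ⊥ := by
  haveI := Fact.mk Nat.prime_two
  refine (eq_bot_iff_forall _).2 fun x hx => ?_
  obtain ⟨k, hk⟩ := (LocalStructure.pCoreOf_isPGroup (p := 2) K) ⟨x, hx⟩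
  have hk' : x ^ 2 ^ k ∈ (⊥ : Subgroup G) := mem_bot.2 (congrArg Subtype.val hk)
  exact mem_bot.1 (mem_of_pow_two_mem (odd_orderOf_mem hK (LocalStructure.pCoreOf_le _ hx)) hk')

/-- `O_r(O(K))` lies in `O_r(K)`. -/
theorem pCoreOf_core_le (K : Subgroup G) (r : ℕ) [Fact r.Prime] :
    Cfsg.pCoreOf r (coreIn K) ≤ Cfsg.pCoreOf r K :=
  LocalStructure.le_pCoreOf ((LocalStructure.pCoreOf_le _).trans (coreIn_le _))
    ((le_normalizer_coreIn K).trans (LocalStructure.normalizer_le_normalizer_pCoreOf _))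
    (LocalStructure.pCoreOf_isPGroup _)

/-- For odd `r`, `O_r(K)` lies in `O_r(O(K))`. -/
theorem pCoreOf_le_core (K : Subgroup G) (r : ℕ) [Fact r.Prime] (hr : r ≠ 2) :
    Cfsg.pCoreOf r K ≤ Cfsg.pCoreOf r (coreIn K) := by
  haveI := LocalStructure.normal_subgroupOf_pCoreOf (p := r) K
  have hle : Cfsg.pCoreOf r K ≤ coreIn K := fun x hx => by
    refine ⟨⟨x, LocalStructure.pCoreOf_le _ hx⟩, CfsgLib.BenderUse.le_oddCore ?_
      (mem_subgroupOf.2 hx), rfl⟩
    obtain ⟨n, hn⟩ := IsPGroup.iff_card.1 (LocalStructure.pCoreOf_isPGroup (p := r) K)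
    rw [Nat.card_congr (subgroupOfEquivOfLe (LocalStructure.pCoreOf_le K)).toEquiv, hn]
    exact ((Fact.out : r.Prime).odd_of_ne_two hr).pow
  exact LocalStructure.le_pCoreOf hle
    ((coreIn_le K).trans (LocalStructure.le_normalizer_pCoreOf K))
    (LocalStructure.pCoreOf_isPGroup _)

namespace Pair

variable (P : Pair G Ω)

/-- **Step 3.** -/
theorem pCoreOf_le (W : World G Ω) (s : ℕ) [Fact s.Prime] :
    Cfsg.pCoreOf s (coreIn (MulAction.stabilizer G P.a)) ≤ Cfsg.pCoreOf s (coreIn P.M) := by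
  classical
  set H := MulAction.stabilizer G P.a
  set O := coreIn P.M with hO
  set S := Cfsg.pCoreOf s (coreIn H) with hS
  rcases eq_or_ne s 2 with rfl | hs2
  · rw [hS, pCoreOf_two_eq_bot (odd_coreIn H)]
    exact bot_le
  set A := Cfsg.pCoreOf s O with hA
  rcases eq_or_ne A ⊥ with hA0 | hA0
  · rw [hS, P.pCoreOf_eq_bot W s hs2 hA0]
    exact bot_le
  have hnS : H ≤ normalizer (S : Set G) :=
    (le_normalizer_coreIn H).trans (LocalStructure.normalizer_le_normalizer_pCoreOf _)
  have hOH : O ≤ H := P.coreIn_le_stab W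
  suffices hSM : S ≤ P.M from fun x hx => P.inf_le_pCoreOf W s ⟨hx, hSM hx⟩
  have hAM : A ≤ P.M := (LocalStructure.pCoreOf_le _).trans (coreIn_le _)
  have hMA : P.M ≤ normalizer (A : Set G) :=
    (le_normalizer_coreIn P.M).trans (LocalStructure.normalizer_le_normalizer_pCoreOf _)
  by_cases hr : ∃ r : ℕ, r.Prime ∧ r ≠ s ∧ Cfsg.pCoreOf r O ≠ ⊥
  · obtain ⟨r, hrp, hrs, hB0⟩ := hr
    haveI := Fact.mk hrp
    set B := Cfsg.pCoreOf r O with hB
    have hAO : A ≤ O := LocalStructure.pCoreOf_le _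
    have hBO : B ≤ O := LocalStructure.pCoreOf_le _
    have hAB : ∀ x ∈ A, ∀ y ∈ B, Commute x y := fun x hx y hy =>
      Signalizer.commute_pCoreOf O (Ne.symm hrs) hx hy
    have hcop : (Nat.card B).Coprime s := by
      obtain ⟨n, hn⟩ := IsPGroup.iff_card.1 (LocalStructure.pCoreOf_isPGroup (p := r) O)
      rw [hB, hn]
      exact ((Nat.coprime_primes hrp Fact.out).2 hrs).pow_left n
    have hBS : B ≤ centralizer (S : Set G) := by
      refine CfsgLib.Coprime.le_centralizer_of_inf_centralizer_le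
        (LocalStructure.pCoreOf_isPGroup (p := s) O) hcop
        (LocalStructure.pCoreOf_isPGroup (p := s) (coreIn H))
        (fun x hx => mem_centralizer_iff.2 fun y hy => (hAB x hx y hy).eq.symm)
        ((hAO.trans hOH).trans hnS) ((hBO.trans hOH).trans hnS) fun x hx => ?_
      have hxM : x ∈ P.M :=
        P.normalizer_le W hAM hMA hA0 (centralizer_le_normalizer _ hx.2)
      have hxA : x ∈ A := P.inf_le_pCoreOf W s ⟨hx.1, hxM⟩
      exact mem_centralizer_iff.2 fun y hy => (hAB x hxA y hy).eq.symm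
    exact (le_centralizer_iff.1 hBS).trans ((centralizer_le_normalizer _).trans
      (P.normalizer_le W (hBO.trans (coreIn_le _))
        ((le_normalizer_coreIn P.M).trans (LocalStructure.normalizer_le_normalizer_pCoreOf _)) hB0))
  · push Not at hr
    -- `Z(L(R))` of a Sylow subgroup `R` of `O` is normal in `M`
    obtain ⟨R, hAR, ⟨hR, hRO⟩, hmax⟩ := (Set.toFinite
      {R : Subgroup G | IsPGroup s R ∧ R ≤ O}).exists_le_maximal (a := A)
      ⟨LocalStructure.pCoreOf_isPGroup _, LocalStructure.pCoreOf_le _⟩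
    set X := puigCenterIn R
    have hMX : P.M ≤ normalizer (X : Set G) := (le_normalizer_coreIn P.M).trans
      (normalizer_le_normalizer_puigCenterIn_sylow hs2 (odd_coreIn _) hr hRO hR
        fun R' h1 h2 h3 => le_antisymm (hmax ⟨h1, h2⟩ h3) h3)
    have hX0 : X ≠ ⊥ := puigCenterIn_ne_bot hR fun e => hA0 (le_bot_iff.1 (e ▸ hAR))
    have hNX : normalizer (X : Set G) ≤ P.M :=
      P.normalizer_le W ((puigCenterIn_le R).trans (hRO.trans (coreIn_le _))) hMX hX0
    have hRS : R ≤ normalizer (S : Set G) := (hRO.trans hOH).trans hnS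
    have hp : IsPGroup s ↥(R ⊔ S) :=
      hR.to_sup_of_normal_right' (LocalStructure.pCoreOf_isPGroup _) hRS
    have heq : R ⊔ S = R := by
      by_contra hne
      haveI : Group.IsNilpotent ↥(R ⊔ S) := hp.isNilpotent
      have hlt : R.subgroupOf (R ⊔ S) < ⊤ := lt_top_iff_ne_top.2 fun e =>
        hne (le_antisymm (subgroupOf_eq_top.1 e) le_sup_left)
      obtain ⟨g, hgN, hgR⟩ :=
        SetLike.exists_of_lt (normalizerCondition_of_isNilpotent (G := ↥(R ⊔ S)) _ hlt)
      rw [← subgroupOf_normalizer_eq le_sup_left, mem_subgroupOf] at hgN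
      apply hgR
      rw [mem_subgroupOf]
      have hgM : (g : G) ∈ P.M := hNX (normalizer_le_normalizer_puigCenterIn R hgN)
      have hg : (g : G) ∈ (R : Set G) * (S : Set G) := by
        rw [← coe_mul_of_left_le_normalizer_right R S hRS]; exact g.2
      obtain ⟨r, hrR, x, hxS, hrx⟩ := hg
      have hxM : x ∈ P.M := by
        rw [show x = r⁻¹ * (g : G) by rw [← hrx]; group]
        exact mul_mem (inv_mem (coreIn_le _ (hRO hrR))) hgM
      rw [← hrx]
      exact mul_mem hrR (hAR (P.inf_le_pCoreOf W s ⟨hxS, hxM⟩))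
    exact fun x hx => coreIn_le _ (hRO (heq ▸ (le_sup_right : S ≤ R ⊔ S) hx))

theorem fittingOf_le (W : World G Ω) :
    fittingOf (coreIn (MulAction.stabilizer G P.a)) ≤ coreIn P.M := by
  rw [Signalizer.fittingOf_eq_iSup]
  exact iSup_le fun r => by
    haveI := Fact.mk r.2
    exact (P.pCoreOf_le W r).trans (LocalStructure.pCoreOf_le _)

/-- `F*(G_a) ≤ O(M)`. -/
theorem generalizedFitting_le (W : World G Ω) :
    (Cfsg.generalizedFittingSubgroup (MulAction.stabilizer G P.a)).map
      (MulAction.stabilizer G P.a).subtype ≤ coreIn P.M := by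
  set H := MulAction.stabilizer G P.a
  have hFH : fittingOf (coreIn H) ≤ fittingOf H := by
    rw [Signalizer.fittingOf_eq_iSup]
    exact iSup_le fun r => by
      haveI := Fact.mk r.2
      exact (pCoreOf_core_le H r).trans (Signalizer.pCoreOf_le_fittingOf H r)
  refine le_trans ?_ (P.fittingOf_le W)
  rw [Cfsg.generalizedFittingSubgroup, Subgroup.map_sup]
  refine sup_le ?_ ?_
  · rintro _ ⟨x, hx, rfl⟩
    refine P.mem_fitting_of_commute W (mem_stab.1 x.2) fun y hy => ?_
    obtain ⟨y', hy', rfl⟩ := hFH hy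
    exact congrArg Subtype.val
      (mem_centralizer_iff.1 (Components.layer_le_centralizer_fittingSubgroup hx) y' hy')
  · show fittingOf H ≤ _
    rw [Signalizer.fittingOf_eq_iSup]
    refine iSup_le fun r => ?_
    haveI := Fact.mk r.2
    rcases eq_or_ne (r : ℕ) 2 with h2 | h2
    · intro x hx
      refine P.mem_fitting_of_commute W (mem_stab.1 (LocalStructure.pCoreOf_le _ hx)) fun y hy => ?_
      have hle : fittingOf (coreIn H) ≤ centralizer ({x} : Set G) := by
        rw [Signalizer.fittingOf_eq_iSup]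
        refine iSup_le fun r' z hz => mem_centralizer_singleton_iff.2 ?_
        haveI := Fact.mk r'.2
        rcases eq_or_ne (r' : ℕ) 2 with h | h
        · rw [h, pCoreOf_two_eq_bot (odd_coreIn H), mem_bot] at hz
          subst hz
          simp
        · exact (Signalizer.commute_pCoreOf H (h2 ▸ h) (pCoreOf_core_le H r' hz) hx).eq
      exact mem_centralizer_singleton_iff.1 (hle hy)
    · exact (pCoreOf_le_core H r h2).trans (Signalizer.pCoreOf_le_fittingOf _ r)

/-- **Step 4**: `F(O(G_a))` is a `q`-group. -/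
theorem exists_prime (W : World G Ω) : ∃ q : ℕ, q.Prime ∧ q ≠ 2 ∧
    Cfsg.pCoreOf q (coreIn (MulAction.stabilizer G P.a)) ≠ ⊥ ∧
    ∀ r : ℕ, r.Prime → r ≠ q → Cfsg.pCoreOf r (coreIn (MulAction.stabilizer G P.a)) = ⊥ := by
  haveI := W.simple
  set H := MulAction.stabilizer G P.a
  have hne : H ≠ MulAction.stabilizer G P.c := by
    intro e
    obtain ⟨t, ht, hta⟩ := W.uf.exists_inv P.a
    exact P.ne (W.uf.unique t ht _ _ hta (mem_stab.1 (e ▸ (mem_stab.2 hta : t ∈ H))))
  obtain ⟨p, hp, hFp, -⟩ := Signalizer.bender_maximal (stab_isCoatom W P.a) (stab_isCoatom W P.c)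
    hne ((P.generalizedFitting_le W).trans (P.coreIn_le_stab' W))
    ((P.symm.generalizedFitting_le W).trans (P.coreIn_le_stab W))
  haveI := Fact.mk hp
  have hsmall : ∀ r : ℕ, r.Prime → r ≠ p → Cfsg.pCoreOf r (coreIn H) = ⊥ := by
    intro r hr hrp
    haveI := Fact.mk hr
    have hle : Cfsg.pCoreOf r (coreIn H) ≤
        (Cfsg.generalizedFittingSubgroup H).map H.subtype :=
      ((pCoreOf_core_le H r).trans (Signalizer.pCoreOf_le_fittingOf H r)).trans
        (map_mono le_sup_right)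
    exact disjoint_self.1 (IsPGroup.disjoint_of_ne _ _ hrp _ _
      (LocalStructure.pCoreOf_isPGroup (p := r) (coreIn H)) ((hFp.map _).to_le hle))
  have hbot : Cfsg.pCoreOf p (coreIn H) ≠ ⊥ := by
    intro h0
    obtain ⟨t, ht, hta⟩ := W.uf.exists_inv P.a
    obtain ⟨x, hx, hn⟩ := P.exists_moved_stab W ⟨ht, hta⟩
    have : fittingOf (coreIn H) ≤ ⊥ := by
      rw [Signalizer.fittingOf_eq_iSup]
      refine iSup_le fun r => ?_
      rcases eq_or_ne (r : ℕ) p with h | h
      · rw [h, h0]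
      · rw [hsmall r r.2 h]
    have hx1 := mem_bot.1 (this hx)
    subst hx1
    exact hn (Commute.one_left t)
  refine ⟨p, hp, ?_, hbot, hsmall⟩
  rintro rfl
  exact hbot (pCoreOf_two_eq_bot (odd_coreIn H))

end Pair

end CfsgLib.BenderWorld.NoKill
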