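import Cfsg.Agent.PLocal.SL2Section
import Cfsg.Agent.PLocal.PStability
import Cfsg.Agent.TwoGroupsQ.UniqueInvolution
import Cfsg.Agent.BrauerSuzuki.Theorem

/-!
# Two quadratic elements: traces, involutions and Sylow 2-subgroups

`X = ⟨a, b⟩` acts on an abelian group of odd prime exponent, `a` and `b` quadratically.
* `tr_commute`: every `ρ g + ρ g⁻¹` is central, so (`invol_commute`) every `ρ g` of order at most
  two is central;
* `sq_eq_one_of_commute_sylow`: an element of a Sylow 2-subgroup `T` commuting with the image of `T`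
  has image of order at most two;
* `exists_noncommute`: if the image is no `p`-group then the image of `T` is not abelian, and
  (`exists_four`) contains an element of order four, noncentral.
-/

set_option autoImplicit false

namespace CfsgLib.BenderWorld.QuadPair

open Cfsg Subgroup

section Ring

variable {R : Type*} [Ring R] {x y : R}

/-- `e = α + β x + γ y + δ xy` with coefficients centralising `x`, `y`; `e'` is its conjugate. -/
def Conjugate (x y e e' : R) : Prop :=
  ∃ α β γ δ : R, (∀ c ∈ ({α, β, γ, δ} : Set R), Commute x c ∧ Commute y c) ∧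
    e = α + β * x + γ * y + δ * (x * y) ∧
    e' = α + δ * (x * y + y * x) - β * x - γ * y - δ * (x * y)

theorem conjugate_one (x y : R) : Conjugate x y 1 1 := by
  refine ⟨1, 0, 0, 0, ?_, by simp, by simp⟩
  rintro c (rfl | rfl | rfl | rfl) <;>
    first | exact ⟨Commute.one_right _, Commute.one_right _⟩
          | exact ⟨Commute.zero_right _, Commute.zero_right _⟩

theorem conjugate_mul_left (hx : x * x = 0) (hy : y * y = 0) {e e' : R}
    (h : Conjugate x y e e') : Conjugate x y (e * (1 + x)) ((1 - x) * e') := by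
  obtain ⟨α, β, γ, δ, hc, rfl, rfl⟩ := h
  obtain ⟨xa, ya⟩ := hc α (by simp)
  obtain ⟨xb, yb⟩ := hc β (by simp)
  obtain ⟨xc, yc⟩ := hc γ (by simp)
  obtain ⟨xd, yd⟩ := hc δ (by simp)
  have xz : Commute x (x * y + y * x) := PLocal.QuadraticPair.z_comm_left hx
  have yz : Commute y (x * y + y * x) := PLocal.QuadraticPair.z_comm_right hy
  set z := x * y + y * x with hz
  have hyx : y * x = z - x * y := by rw [hz]; abel
  have hxyx : x * (y * x) = z * x := by
    rw [hz, add_mul, mul_assoc y x x, hx, mul_zero, add_zero, mul_assoc]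
  have hxw : ∀ w : R, x * (x * w) = 0 := fun w => by rw [← mul_assoc, hx, zero_mul]
  have hxc : ∀ c : R, Commute x c → ∀ w : R, x * (c * w) = c * (x * w) := fun c hc w => by
    rw [← mul_assoc, hc.eq, mul_assoc]
  refine ⟨α + γ * z, α + β + δ * z, γ, δ - γ, ?_, ?_, ?_⟩
  · rintro c (rfl | rfl | rfl | rfl)
    · exact ⟨xa.add_right (xc.mul_right xz), ya.add_right (yc.mul_right yz)⟩
    · exact ⟨(xa.add_right xb).add_right (xd.mul_right xz),
        (ya.add_right yb).add_right (yd.mul_right yz)⟩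
    · exact ⟨xc, yc⟩
    · exact ⟨xd.sub_right xc, yd.sub_right yc⟩
  · simp only [mul_add, add_mul, mul_one, sub_mul, mul_assoc, hx, hyx, mul_sub, mul_zero,
      add_zero, hxw, xz.eq, sub_zero]
    abel
  · have h1 : x * α = α * x := xa.eq
    simp only [mul_add, add_mul, sub_mul, one_mul, mul_sub, mul_assoc, h1, hxc β xb, hxc γ xc,
      hxc δ xd, xz.eq, hx, hyx, hxw, mul_zero, sub_zero]
    abel

theorem conjugate_mul_right (hy : y * y = 0) {e e' : R}
    (h : Conjugate x y e e') : Conjugate x y (e * (1 + y)) ((1 - y) * e') := by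
  obtain ⟨α, β, γ, δ, hc, rfl, rfl⟩ := h
  obtain ⟨xa, ya⟩ := hc α (by simp)
  obtain ⟨xb, yb⟩ := hc β (by simp)
  obtain ⟨xc, yc⟩ := hc γ (by simp)
  obtain ⟨xd, yd⟩ := hc δ (by simp)
  have yz : Commute y (x * y + y * x) := PLocal.QuadraticPair.z_comm_right hy
  set z := x * y + y * x with hz
  have hyx : y * x = z - x * y := by rw [hz]; abel
  have hyxy : y * (x * y) = z * y := by
    rw [hz, add_mul, mul_assoc x y y, hy, mul_zero, zero_add, mul_assoc]
  have hyc : ∀ c : R, Commute y c → ∀ w : R, y * (c * w) = c * (y * w) := fun c hc w => by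
    rw [← mul_assoc, hc.eq, mul_assoc]
  refine ⟨α, β, α + γ, β + δ, ?_, ?_, ?_⟩
  · rintro c (rfl | rfl | rfl | rfl)
    · exact ⟨xa, ya⟩
    · exact ⟨xb, yb⟩
    · exact ⟨xa.add_right xc, ya.add_right yc⟩
    · exact ⟨xb.add_right xd, yb.add_right yd⟩
  · simp only [mul_add, add_mul, mul_one, mul_assoc, hy, mul_zero, add_zero]
    abel
  · have h1 : y * α = α * y := ya.eq
    simp only [mul_add, add_mul, sub_mul, one_mul, mul_sub, h1, hyc β yb, hyc γ yc,
      hyc δ yd, yz.eq, hy, hyx, hyxy, mul_zero, sub_zero]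
    abel

theorem Conjugate.commute_add (hx : x * x = 0) (hy : y * y = 0) {e e' : R}
    (h : Conjugate x y e e') : Commute x (e + e') ∧ Commute y (e + e') := by
  obtain ⟨α, β, γ, δ, hc, rfl, rfl⟩ := h
  obtain ⟨xa, ya⟩ := hc α (by simp)
  obtain ⟨xd, yd⟩ := hc δ (by simp)
  rw [show α + β * x + γ * y + δ * (x * y) +
      (α + δ * (x * y + y * x) - β * x - γ * y - δ * (x * y)) = α + α + δ * (x * y + y * x) by abel]
  exact ⟨(xa.add_right xa).add_right (xd.mul_right (PLocal.QuadraticPair.z_comm_left hx)),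
    (ya.add_right ya).add_right (yd.mul_right (PLocal.QuadraticPair.z_comm_right hy))⟩

end Ring

section Action

variable {X : Type*} [Group X] [Finite X] {A : Type*} [AddCommGroup A] {p : ℕ}
variable {ρ : X →* AddMonoid.End A} {a b : X}

omit [Finite X] in
theorem map_inv_of_quadratic {c : X} (hc : (ρ c - 1) * (ρ c - 1) = 0) : ρ c⁻¹ = 1 - (ρ c - 1) := by
  have e : (1 - (ρ c - 1)) * ρ c = 1 := by
    have : (1 - (ρ c - 1)) * ρ c = 1 - (ρ c - 1) * (ρ c - 1) := by noncomm_ring
    rw [this, hc, sub_zero]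
  calc ρ c⁻¹ = (1 - (ρ c - 1)) * ρ c * ρ c⁻¹ := by rw [e, one_mul]
    _ = _ := by rw [mul_assoc, ← map_mul, mul_inv_cancel, map_one, mul_one]

theorem exists_conjugate (hgen : closure ({a, b} : Set X) = ⊤)
    (ha : (ρ a - 1) * (ρ a - 1) = 0) (hb : (ρ b - 1) * (ρ b - 1) = 0) (g : X) :
    Conjugate (ρ a - 1) (ρ b - 1) (ρ g) (ρ g⁻¹) := by
  have hg : g ∈ Submonoid.closure ({a, b} : Set X) := by
    have h : g ∈ (closure ({a, b} : Set X)).toSubmonoid := by rw [hgen]; trivial
    rwa [Subgroup.closure_toSubmonoid_of_finite] at h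
  induction hg using Submonoid.closure_induction_right with
  | one => rw [inv_one, map_one]; exact conjugate_one _ _
  | mul_right g _ c hc ih =>
    rw [mul_inv_rev, map_mul, map_mul]
    rcases hc with rfl | rfl
    · rw [map_inv_of_quadratic ha]
      conv => arg 3; arg 2; rw [show ρ c = 1 + (ρ c - 1) by abel]
      exact conjugate_mul_left ha hb ih
    · rw [map_inv_of_quadratic hb]
      conv => arg 3; arg 2; rw [show ρ c = 1 + (ρ c - 1) by abel]
      exact conjugate_mul_right hb ih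

theorem commute_of_commute_gen (hgen : closure ({a, b} : Set X) = ⊤) {e : AddMonoid.End A}
    (hea : Commute e (ρ a)) (heb : Commute e (ρ b)) (h : X) : Commute e (ρ h) := by
  have hh : h ∈ Submonoid.closure ({a, b} : Set X) := by
    have h' : h ∈ (closure ({a, b} : Set X)).toSubmonoid := by rw [hgen]; trivial
    rwa [Subgroup.closure_toSubmonoid_of_finite] at h'
  induction hh using Submonoid.closure_induction with
  | mem c hc => rcases hc with rfl | rfl <;> assumption
  | one => rw [map_one]; exact Commute.one_right e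
  | mul c d _ _ hc hd => rw [map_mul]; exact hc.mul_right hd

/-- Traces are central. -/
theorem tr_commute (hgen : closure ({a, b} : Set X) = ⊤) (ha : (ρ a - 1) * (ρ a - 1) = 0)
    (hb : (ρ b - 1) * (ρ b - 1) = 0) (g h : X) : Commute (ρ g + ρ g⁻¹) (ρ h) := by
  obtain ⟨h1, h2⟩ := (exists_conjugate hgen ha hb g).commute_add ha hb
  refine commute_of_commute_gen hgen ?_ ?_ h
  · simpa using h1.symm.add_right (Commute.one_right _)
  · simpa using h2.symm.add_right (Commute.one_right _)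

theorem two_mul_cancel (hp2 : p ≠ 2) [Fact p.Prime] (hA : ∀ v : A, p • v = 0) {f : AddMonoid.End A}
    (hf : f + f = 0) : f = 0 := by
  refine DFunLike.ext _ _ fun v => ?_
  have h2 : (2 : ℕ) • f v = 0 := by
    rw [two_nsmul]; exact DFunLike.congr_fun hf v
  have hp := hA (f v)
  obtain ⟨k, hk⟩ := (Fact.out : p.Prime).odd_of_ne_two hp2
  rw [hk, add_nsmul, one_nsmul, mul_nsmul, h2, nsmul_zero, zero_add] at hp
  exact hp

/-- Elements of order at most two have central image. -/
theorem invol_commute (hp2 : p ≠ 2) [Fact p.Prime] (hA : ∀ v : A, p • v = 0)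
    (hgen : closure ({a, b} : Set X) = ⊤) (ha : (ρ a - 1) * (ρ a - 1) = 0)
    (hb : (ρ b - 1) * (ρ b - 1) = 0) {g : X} (hg : ρ g * ρ g = 1) (h : X) :
    Commute (ρ g) (ρ h) := by
  have hinv : ρ g⁻¹ = ρ g := by
    calc ρ g⁻¹ = ρ g⁻¹ * (ρ g * ρ g) := by rw [hg, mul_one]
      _ = ρ g := by rw [← mul_assoc, ← map_mul, inv_mul_cancel, map_one, one_mul]
  have h1 := tr_commute hgen ha hb g h
  rw [hinv] at h1
  refine sub_eq_zero.1 (two_mul_cancel hp2 hA ?_)
  have h2 := h1.eq
  simp only [add_mul, mul_add] at h2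
  linear_combination (norm := abel) h2

variable [Finite A]

/-- An abelian Sylow 2-subgroup of the image only occurs when the image is a `p`-group. -/
theorem exists_noncommute (hp2 : p ≠ 2) [Fact p.Prime] (hA : ∀ v : A, p • v = 0)
    (hgen : closure ({a, b} : Set X) = ⊤) (ha : (ρ a - 1) * (ρ a - 1) = 0)
    (hb : (ρ b - 1) * (ρ b - 1) = 0) (T : Sylow 2 X)
    (hnp : ∃ g : X, ∀ k : ℕ, ρ (g ^ p ^ k) ≠ 1) :
    ∃ i ∈ (T : Subgroup X), ∃ j ∈ (T : Subgroup X), ¬ Commute (ρ i) (ρ j) := by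
  by_contra! hab
  -- replace `X` by its image
  set π : X →* (AddMonoid.End A)ˣ := ρ.toHomUnits with hπ
  have hval : ∀ g : X, ((π g : (AddMonoid.End A)ˣ) : AddMonoid.End A) = ρ g := fun g => rfl
  haveI : Finite π.range := Finite.of_surjective π.rangeRestrict π.rangeRestrict_surjective
  set σ : π.range →* AddMonoid.End A := (Units.coeHom _).comp π.range.subtype
  have hσ : ∀ g : X, σ (π.rangeRestrict g) = ρ g := fun g => rfl
  have hgen' : closure ({π.rangeRestrict a, π.rangeRestrict b} : Set π.range) = ⊤ := by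
    rw [← Set.image_pair, ← MonoidHom.map_closure, hgen,
      ← MonoidHom.range_eq_map, MonoidHom.range_eq_top.2 π.rangeRestrict_surjective]
  obtain ⟨g, hg⟩ := hnp
  obtain ⟨φ, hφ1, hφa, hφb, hφc⟩ := PLocal.exists_hom_of_quadratic_pair hA σ hgen'
    (by rw [hσ]; exact ha) (by rw [hσ]; exact hb)
    ⟨π.rangeRestrict g, fun k h => hg k (by rwa [← map_pow, hσ] at h)⟩
  haveI : CharP (AlgebraicClosure (ZMod p)) p :=
    charP_of_injective_algebraMap (algebraMap (ZMod p) _).injective p
  haveI : Finite φ.range := Finite.of_surjective φ.rangeRestrict φ.rangeRestrict_surjective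
  obtain ⟨f, hf, hfr⟩ :=
    PLocal.SL2.exists_sl2_zmod_hom hp2 φ.range ⟨_, rfl⟩ ⟨_, rfl⟩ hφa hφb hφc
  let K₀ : Subgroup π.range := f.range.comap φ
  let θ : K₀ →* f.range := (φ.comp K₀.subtype).codRestrict f.range fun x => x.2
  have hθ : Function.Surjective θ := by
    rintro ⟨y, hy⟩
    obtain ⟨x, rfl⟩ := hfr hy
    exact ⟨⟨x, hy⟩, rfl⟩
  refine PLocal.not_hasSL2Section_of_abelian_sylow_two (H := (⊤ : Subgroup π.range)) hp2 ?_
    ⟨K₀, le_top, (MonoidHom.ofInjective hf).symm.toMonoidHom.comp θ,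
      (MonoidHom.ofInjective hf).symm.surjective.comp hθ⟩
  intro S
  set T' : Sylow 2 π.range := T.mapSurjective π.rangeRestrict_surjective
  haveI hT' : IsMulCommutative T' := ⟨⟨by
    rintro ⟨u, hu⟩ ⟨v, hv⟩
    obtain ⟨i, hi, rfl⟩ := hu
    obtain ⟨j, hj, rfl⟩ := hv
    exact Subtype.ext (Subtype.ext (Units.ext (hab i hi j hj).eq))⟩⟩
  obtain ⟨g', hg'⟩ := MulAction.exists_smul_eq π.range T'
    (S.mapSurjective (f := (⊤ : Subgroup π.range).subtype) (fun x => ⟨⟨x, trivial⟩, rfl⟩))
  refine ⟨⟨fun u v => Subtype.ext (Subtype.ext ?_)⟩⟩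
  have key : ∀ w ∈ S, ∃ t ∈ (T' : Subgroup π.range), g' * t * g'⁻¹ = (w : π.range) := by
    intro w hw
    have : (w : π.range) ∈ ((g' • T' : Sylow 2 π.range) : Subgroup π.range) := by
      rw [hg']; exact ⟨w, hw, rfl⟩
    rw [Sylow.smul_def] at this
    obtain ⟨t, ht, htw⟩ := this
    exact ⟨t, ht, htw⟩
  obtain ⟨s, hs, hsu⟩ := key u.1 u.2
  obtain ⟨t, ht, htv⟩ := key v.1 v.2
  have hst : s * t = t * s := congrArg Subtype.val (hT'.is_comm.comm ⟨s, hs⟩ ⟨t, ht⟩)
  show (u.1 : π.range) * v.1 = v.1 * u.1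
  rw [← hsu, ← htv]
  calc g' * s * g'⁻¹ * (g' * t * g'⁻¹) = g' * (s * t) * g'⁻¹ := by group
    _ = _ := by rw [hst]; group

omit [Finite A] in
/-- Restriction to an invariant subgroup. -/
noncomputable def restrict (ρ : X →* AddMonoid.End A) (B : AddSubgroup A)
    (hB : ∀ g : X, ∀ v ∈ B, ρ g v ∈ B) : X →* AddMonoid.End B where
  toFun g := ((ρ g).comp B.subtype).codRestrict B fun v => hB g v v.2
  map_one' := DFunLike.ext _ _ fun v => Subtype.ext (by
    show ρ 1 (v : A) = v
    rw [map_one]; rfl)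
  map_mul' g h := DFunLike.ext _ _ fun v => Subtype.ext (by
    show ρ (g * h) (v : A) = ρ g (ρ h (v : A))
    rw [map_mul]; rfl)

omit [Finite A] [Finite X] in
theorem restrict_quadratic (B : AddSubgroup A) (hB : ∀ g : X, ∀ v ∈ B, ρ g v ∈ B) {c : X}
    (hc : (ρ c - 1) * (ρ c - 1) = 0) :
    (restrict ρ B hB c - 1) * (restrict ρ B hB c - 1) = 0 :=
  DFunLike.ext (F := B →+ B) _ _ fun v => Subtype.ext (DFunLike.congr_fun hc (v : A))

/-- An element of a Sylow 2-subgroup `T` commuting with the image of `T` squares to the identity. -/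
theorem sq_eq_one_of_commute_sylow (hp2 : p ≠ 2) [Fact p.Prime] {a b : X}
    (hgen : closure ({a, b} : Set X) = ⊤) (T : Sylow 2 X) :
    ∀ n : ℕ, ∀ (A : Type _) [AddCommGroup A] [Finite A], Nat.card A = n → (∀ v : A, p • v = 0) →
      ∀ ρ : X →* AddMonoid.End A, (ρ a - 1) * (ρ a - 1) = 0 → (ρ b - 1) * (ρ b - 1) = 0 →
      ∀ t ∈ (T : Subgroup X), (∀ s ∈ (T : Subgroup X), Commute (ρ t) (ρ s)) → ρ t * ρ t = 1 := by
  intro n
  induction n using Nat.strong_induction_on with
  | _ n IH =>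
  intro A _ _ hn hA ρ ha hb t ht hcom
  by_cases hsplit : ∃ g : X, ρ g * ρ g = 1 ∧ ρ g ≠ 1 ∧ ρ g ≠ -1
  · obtain ⟨g, hg2, hg1, hgm⟩ := hsplit
    have hgc := invol_commute hp2 hA hgen ha hb hg2
    have key : ∀ B : AddSubgroup A, B ≠ ⊤ → (∀ h : X, ∀ v ∈ B, ρ h v ∈ B) →
        ∀ v ∈ B, ρ t (ρ t v) = v := by
      intro B hBt hB v hv
      have hlt : Nat.card B < n := by
        rw [← hn]
        refine lt_of_le_of_ne (Nat.card_le_card_of_injective _ B.subtype_injective) fun h => hBt ?_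
        exact AddSubgroup.eq_top_of_card_eq B h
      have h := IH _ hlt B rfl (fun w => Subtype.ext (by simpa using hA (w : A)))
        (restrict ρ B hB) (restrict_quadratic B hB ha) (restrict_quadratic B hB hb) t ht
        (fun s hs => DFunLike.ext (F := B →+ B) _ _ fun w => Subtype.ext
          (DFunLike.congr_fun (hcom s hs).eq (w : A)))
      exact congrArg Subtype.val (DFunLike.congr_fun h (⟨v, hv⟩ : B))
    set P : AddSubgroup A := AddMonoidHom.ker (ρ g - 1 : AddMonoid.End A) with hP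
    set N : AddSubgroup A := AddMonoidHom.ker (ρ g + 1 : AddMonoid.End A) with hN
    have hmemP : ∀ v, v ∈ P ↔ ρ g v = v := fun v => by
      rw [hP]; exact (sub_eq_zero : ρ g v - v = 0 ↔ _)
    have hmemN : ∀ v, v ∈ N ↔ ρ g v = -v := fun v => by
      rw [hN]; exact (add_eq_zero_iff_eq_neg : ρ g v + v = 0 ↔ _)
    have hgh : ∀ (h : X) (v : A), ρ g (ρ h v) = ρ h (ρ g v) := fun h v =>
      DFunLike.congr_fun (hgc h).eq v
    have hPt : P ≠ ⊤ := fun h => hg1 (DFunLike.ext _ _ fun v =>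
      (hmemP v).1 (h ▸ AddSubgroup.mem_top v))
    have hNt : N ≠ ⊤ := fun h => hgm (DFunLike.ext _ _ fun v =>
      (hmemN v).1 (h ▸ AddSubgroup.mem_top v))
    refine DFunLike.ext _ _ fun v => ?_
    have hgg : ρ g (ρ g v) = v := DFunLike.congr_fun hg2 v
    have h1 := key P hPt (fun h w hw => (hmemP _).2 (by rw [hgh, (hmemP w).1 hw]))
      (v + ρ g v) ((hmemP _).2 (by rw [map_add, hgg, add_comm]))
    have h2 := key N hNt (fun h w hw => (hmemN _).2 (by rw [hgh, (hmemN w).1 hw, map_neg]))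
      (v - ρ g v) ((hmemN _).2 (by rw [map_sub, hgg, neg_sub]))
    have h3 : ρ t (ρ t (v + v)) = v + v := by
      rw [show v + v = (v + ρ g v) + (v - ρ g v) by abel, map_add, map_add, h1, h2]
    have h4 : (ρ t * ρ t - 1) v + (ρ t * ρ t - 1) v = 0 := by
      rw [← map_add]
      exact sub_eq_zero.2 h3
    have h5 : (2 : ℕ) • ((ρ t * ρ t - 1) v) = 0 := by rw [two_nsmul]; exact h4
    obtain ⟨k, hk⟩ := (Fact.out : p.Prime).odd_of_ne_two hp2
    have hpv := hA ((ρ t * ρ t - 1) v)
    rw [hk, add_nsmul, one_nsmul, mul_nsmul, h5, nsmul_zero, zero_add] at hpv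
    exact sub_eq_zero.1 hpv
  · push Not at hsplit
    set π : X →* (AddMonoid.End A)ˣ := ρ.toHomUnits
    set U : Subgroup (AddMonoid.End A)ˣ := (T : Subgroup X).map π
    haveI : Finite U := Finite.of_surjective (fun s : (T : Subgroup X) => (⟨π s, _, s.2, rfl⟩ : U))
      (by rintro ⟨_, s, hs, rfl⟩; exact ⟨⟨s, hs⟩, rfl⟩)
    have hU : IsPGroup 2 U := T.2.map π
    have huniq : TwoGroupsQ.HasUniqueOrderP U 2 := by
      refine TwoGroupsQ.hasUniqueOrderP_two fun u v hu hu1 hv hv1 => ?_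
      have hm : ∀ w : U, w ^ 2 = 1 → w ≠ 1 → ((w : (AddMonoid.End A)ˣ) : AddMonoid.End A) = -1 := by
        rintro ⟨_, s, hs, rfl⟩ hw hw1
        refine hsplit s ?_ fun h => hw1 (Subtype.ext (Units.ext h))
        have := congrArg (fun w : U => ((w : (AddMonoid.End A)ˣ) : AddMonoid.End A)) hw
        simpa [pow_two, π] using this
      exact Subtype.ext (Units.ext ((hm u hu hu1).trans (hm v hv hv1).symm))
    haveI : Fact (Nat.Prime 2) := ⟨Nat.prime_two⟩
    rcases TwoGroupsQ.isCyclic_or_quaternion hU huniq with hcyc | ⟨-, m, hm, ⟨e⟩⟩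
    · by_cases hnp : ∃ g : X, ∀ k : ℕ, ρ (g ^ p ^ k) ≠ 1
      · obtain ⟨i, hi, j, hj, hij⟩ := exists_noncommute hp2 hA hgen ha hb T hnp
        letI := hcyc.commGroup
        exact absurd (congrArg (fun w : U => ((w : (AddMonoid.End A)ˣ) : AddMonoid.End A))
          (mul_comm (⟨π i, i, hi, rfl⟩ : U) ⟨π j, j, hj, rfl⟩)) hij
      · push Not at hnp
        obtain ⟨k, hk⟩ := hnp t
        obtain ⟨l, hl⟩ := T.2 ⟨t, ht⟩
        have hl' : t ^ 2 ^ l = 1 := congrArg Subtype.val hl
        have hco : Nat.Coprime (p ^ k) (2 ^ l) := Nat.Coprime.pow k l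
          ((Nat.coprime_primes Fact.out Nat.prime_two).2 hp2)
        have h1 : orderOf (π t) ∣ Nat.gcd (p ^ k) (2 ^ l) :=
          Nat.dvd_gcd (orderOf_dvd_of_pow_eq_one (by rw [← map_pow]; exact Units.ext hk))
            (orderOf_dvd_of_pow_eq_one (by rw [← map_pow, hl', map_one]))
        rw [hco.gcd_eq_one, Nat.dvd_one, orderOf_eq_one_iff] at h1
        have : ρ t = 1 := congrArg Units.val h1
        rw [this, mul_one]
    · set u : U := ⟨π t, t, ht, rfl⟩
      have hu : ∀ w, Commute (e u) w := by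
        intro w
        obtain ⟨⟨_, s, hs, rfl⟩, rfl⟩ := e.surjective w
        exact Commute.map (show Commute u ⟨π s, s, hs, rfl⟩ from
          Subtype.ext (Units.ext (hcom s hs).eq)) e
      have h2 := BrauerSuzuki.quaternion_center hm hu
      rw [← map_pow] at h2
      have := congrArg (fun w : U => ((w : (AddMonoid.End A)ˣ) : AddMonoid.End A))
        (e.injective (h2.trans e.map_one.symm))
      simpa [pow_two, u, π] using this

end Action

end CfsgLib.BenderWorld.QuadPair
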