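import Cfsg.Prelude.Def_CaseTheorems
import Cfsg.Agent.BenderWorld.NoKill.QuadPair
import Cfsg.Agent.LocalStructure.Cores
import Cfsg.Agent.PLocal.Cores
import Cfsg.Agent.Small.BaerSuzuki
import Mathlib.GroupTheory.Transfer
import Mathlib.RingTheory.ZMod.UnitsCyclic

/-!
# A quadratic element on a moved chief factor lies in the odd core (lemma NQ of slice F)

`H` acts irreducibly and nontrivially on an elementary abelian `q`-group, `q` odd, its involutions
are conjugate and commute modulo `O(H)`.  Then a `q`-element `x` acting quadratically and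
centralising the involutions modulo `O(H)` lies in `O(H)`.

Proof (faithful case).  `x` centralises `O(H)` (odd order: no `SL(2)`), so does every involution
unless the claim holds; hence the involutions commute with each other and with `x`.  In their
centraliser `K` the fixers `F z` of `C_A(z)` are normal with a single involution each, so modulo
`O(K)` they commute pairwise and are cyclic 2-groups, centralised by `q`-elements.  A Sylow
2-subgroup of a pair `⟨x, x^h⟩` then has no element of order four, a contradiction.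
-/

set_option autoImplicit false

namespace CfsgLib.BenderWorld.NoKill

open Cfsg Subgroup

/-! ### Groups with central involutions -/

section Central

variable {G Q : Type*} [Group G] [Finite G] [Group Q]

theorem odd_card_oddCore (G : Type*) [Group G] [Finite G] : Odd (Nat.card (Cfsg.oddCore G)) :=
  Nat.coprime_two_right.1 (CfsgLib.PLocal.coprime_card_pPrimeCore 2 G)

/-- A `2`-element modulo an odd kernel lifts to a `2`-element power. -/
theorem lift_two (π : G →* Q) (hodd : Odd (Nat.card π.ker)) {k : G} {a : ℕ}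
    (h : π k ^ 2 ^ a = 1) : ∃ r : ℕ, (k ^ r) ^ 2 ^ a = 1 ∧ π (k ^ r) = π k := by
  have hco : Nat.Coprime (Nat.card π.ker) (2 ^ a) :=
    (Nat.coprime_two_right.2 hodd).pow_right a
  obtain ⟨r, hr0, hr1⟩ := Nat.chineseRemainder hco 0 1
  refine ⟨r, ?_, ?_⟩
  · obtain ⟨c, rfl⟩ := Nat.modEq_zero_iff_dvd.mp hr0
    have hk : k ^ 2 ^ a ∈ π.ker := by rwa [MonoidHom.mem_ker, map_pow]
    have h1 : (k ^ 2 ^ a) ^ Nat.card π.ker = 1 := by
      simpa using congrArg Subtype.val (pow_card_eq_one' (x := (⟨_, hk⟩ : π.ker)))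
    rw [← pow_mul, mul_comm, pow_mul, pow_mul, h1, one_pow]
  · rw [map_pow]
    exact (pow_eq_pow_iff_modEq.mpr
      (hr1.of_dvd (orderOf_dvd_of_pow_eq_one h))).trans (pow_one _)

theorem eq_one_of_sq_of_mem_odd {N : Subgroup G} (hN : Odd (Nat.card N)) {c : G} (hc : c ∈ N)
    (h : c * c = 1) : c = 1 := by
  have h1 : orderOf c ∣ Nat.gcd 2 (Nat.card N) :=
    Nat.dvd_gcd (orderOf_dvd_of_pow_eq_one (by rw [pow_two, h]))
      (Subgroup.orderOf_mk c hc ▸ orderOf_dvd_natCard (⟨c, hc⟩ : N))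
  rwa [(Nat.coprime_two_left.2 hN).gcd_eq_one, Nat.dvd_one, orderOf_eq_one_iff] at h1

theorem odd_card_of_no_involution {N : Subgroup G} (h : ∀ g ∈ N, orderOf g ≠ 2) :
    Odd (Nat.card N) := by
  rw [← Nat.not_even_iff_odd, even_iff_two_dvd]
  intro h2
  haveI := Fact.mk Nat.prime_two
  obtain ⟨g, hg⟩ := exists_prime_orderOf_dvd_card' 2 h2
  exact h _ g.2 (by rwa [Subgroup.orderOf_coe])

/-- An automorphism of odd order fixes a cyclic 2-group pointwise. -/
theorem aut_eq_one_of_cyclic {M : Type*} [Group M] [Finite M] [IsCyclic M] (hM : IsPGroup 2 M)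
    {φ : MulAut M} {n : ℕ} (hn : Odd n) (hφ : φ ^ n = 1) : φ = 1 := by
  obtain ⟨k, hk⟩ := IsPGroup.iff_card.1 hM
  haveI : NeZero (Nat.card M) := ⟨Nat.card_pos.ne'⟩
  have hcard : ∃ j, Nat.card (MulAut M) = 2 ^ j := by
    rw [Nat.card_congr (IsCyclic.mulAutMulEquiv M).toEquiv, Nat.card_eq_fintype_card,
      ZMod.card_units_eq_totient, hk]
    rcases k with _ | k
    · exact ⟨0, by simp⟩
    · exact ⟨k, by rw [Nat.totient_prime_pow Nat.prime_two k.succ_pos]; simp⟩
  obtain ⟨j, hj⟩ := hcard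
  have h1 : orderOf φ ∣ Nat.gcd n (2 ^ j) :=
    Nat.dvd_gcd (orderOf_dvd_of_pow_eq_one hφ) (hj ▸ orderOf_dvd_natCard φ)
  rwa [((Nat.coprime_two_right.2 hn).pow_right j).gcd_eq_one, Nat.dvd_one, orderOf_eq_one_iff] at h1

/-- If every involution is central and `F z` are normal subgroups, one for each involution `z`,
each with no other involution and all alike, then modulo the odd core an element of odd order
commutes with whatever it commutes with modulo some `F z`. -/
theorem comm_mem_oddCore_of_family (hcen : ∀ s : G, orderOf s = 2 → ∀ k : G, Commute s k)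
    (F : G → Subgroup G) (hFn : ∀ s, orderOf s = 2 → (F s).Normal)
    (huniq : ∀ s t, orderOf s = 2 → orderOf t = 2 → t ∈ F s → t = s)
    (hfour : ∀ s : G, orderOf s = 2 → ∃ t, orderOf t = 2 ∧ t ≠ s)
    (hsqrt : ∀ s t : G, orderOf s = 2 → orderOf t = 2 → (∃ i ∈ F s, i ^ 2 = s) →
      ∃ i ∈ F t, i ^ 2 = t)
    {z g a : G} (hz : orderOf z = 2) {N : ℕ} (hN : Odd N) (ha : a ^ N = 1)
    (hmem : g * a * g⁻¹ * a⁻¹ ∈ F z) : g * a * g⁻¹ * a⁻¹ ∈ Cfsg.oddCore G := by
  set π := QuotientGroup.mk' (Cfsg.oddCore G) with hπ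
  have hker : Odd (Nat.card π.ker) := by rw [hπ, QuotientGroup.ker_mk']; exact odd_card_oddCore G
  have hbot : Cfsg.oddCore (G ⧸ Cfsg.oddCore G) = ⊥ :=
    PLocal.pPrimeCore_quotient_pPrimeCore_eq_bot 2 G
  have hinv : ∀ s : G, orderOf s = 2 → s * s = 1 := fun s hs => by
    rw [← pow_two, ← hs, pow_orderOf_eq_one]
  have hMn : ∀ s, orderOf s = 2 → ((F s).map π).Normal := fun s hs =>
    (hFn s hs).map π (QuotientGroup.mk'_surjective _)
  have hMuniq : ∀ s, orderOf s = 2 → ∀ m ∈ (F s).map π, m ^ 2 = 1 → m ≠ 1 → m = π s := by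
    rintro s hs _ ⟨k, hk, rfl⟩ hm hm1
    obtain ⟨r, hr, hrπ⟩ := lift_two π hker (a := 1) (by rwa [pow_one])
    rw [pow_one] at hr
    have h2 : orderOf (k ^ r) = 2 := orderOf_eq_prime hr fun h => hm1 (by rw [← hrπ, h, map_one])
    rw [← hrπ, huniq s _ hs h2 (pow_mem hk r)]
  have hcomm : ∀ s t, orderOf s = 2 → orderOf t = 2 → s ≠ t → ∀ m ∈ (F s).map π,
      ∀ m' ∈ (F t).map π, Commute m m' := by
    intro s t hs ht hst m hm m' hm'
    haveI := hMn s hs
    haveI := hMn t ht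
    refine Subgroup.commute_of_normal_of_disjoint _ _ (hMn s hs) (hMn t ht) ?_ m m' hm hm'
    rw [disjoint_iff, eq_bot_iff, ← hbot]
    refine PLocal.le_pPrimeCore (Nat.coprime_two_right.2 (odd_card_of_no_involution ?_))
    intro e he h2
    have he2 : e ^ 2 = 1 := orderOf_dvd_iff_pow_eq_one.1 (dvd_of_eq h2)
    have he1 : e ≠ 1 := fun h => by rw [h, orderOf_one] at h2; norm_num at h2
    have heq := (hMuniq s hs e (mem_inf.1 he).1 he2 he1).symm.trans
      (hMuniq t ht e (mem_inf.1 he).2 he2 he1)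
    have hk : s * t ∈ π.ker := by
      rw [MonoidHom.mem_ker, map_mul, heq, ← map_mul, hinv t ht, map_one]
    have hst2 : (s * t) * (s * t) = 1 := by
      rw [← mul_assoc, mul_assoc s t s, ← (hcen s hs t).eq, ← mul_assoc s s t, hinv s hs, one_mul,
        hinv t ht]
    refine hst (mul_right_cancel (b := t) ?_)
    rw [eq_one_of_sq_of_mem_odd hker hk hst2, hinv t ht]
  set M := (F z).map π with hM
  haveI : M.Normal := hMn z hz
  -- elements of order four are central in `M`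
  have hfourCentral : ∀ y ∈ M, y ^ 4 = 1 → y ^ 2 ≠ 1 → ∀ m ∈ M, Commute y m := by
    rintro _ ⟨k, hk, rfl⟩ hy4 hy2 m hm
    obtain ⟨r, hr, hrπ⟩ := lift_two π hker (a := 2) hy4
    set i := k ^ r with hi
    have hi2 : i ^ 2 = z := by
      refine huniq z _ hz (orderOf_eq_prime ?_ fun h => hy2 ?_) (pow_mem (pow_mem hk r) 2)
      · rw [← pow_mul]; simpa using hr
      · rw [← hrπ, ← map_pow, h, map_one]
    obtain ⟨u, hu, huz⟩ := hfour z hz
    have hw : orderOf (z * u) = 2 := by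
      refine orderOf_eq_prime ?_ fun h => huz (mul_left_cancel (a := z) (h.trans (hinv z hz).symm))
      rw [pow_two, ← mul_assoc, mul_assoc z u z, ← (hcen z hz u).eq, ← mul_assoc z z u, hinv z hz,
        one_mul, hinv u hu]
    have hu1 : u ≠ 1 := fun h => by rw [h, orderOf_one] at hu; norm_num at hu
    have hz1 : z ≠ 1 := fun h => by rw [h, orderOf_one] at hz; norm_num at hz
    have hwz : z * u ≠ z := fun h => hu1 (mul_left_cancel (a := z) (h.trans (mul_one z).symm))
    have hwu : z * u ≠ u := fun h => hz1 (mul_right_cancel (b := u) (h.trans (one_mul u).symm))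
    obtain ⟨iu, hiu, hiu2⟩ := hsqrt z u hz hu ⟨i, pow_mem hk r, hi2⟩
    obtain ⟨iw, hiw, hiw2⟩ := hsqrt z (z * u) hz hw ⟨i, pow_mem hk r, hi2⟩
    have myi : π k ∈ M := mem_map_of_mem π hk
    have mu : π iu ∈ (F u).map π := mem_map_of_mem π hiu
    have mw : π iw ∈ (F (z * u)).map π := mem_map_of_mem π hiw
    have c12 := hcomm z u hz hu huz.symm _ myi _ mu
    have c13 := hcomm z (z * u) hz hw hwz.symm _ myi _ mw
    have c23 := hcomm u (z * u) hu hw hwu.symm _ mu _ mw
    set e := π k * (π iu * π iw) with he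
    have he2 : e ^ 2 = 1 := by
      rw [he, (c12.mul_right c13).mul_pow, c23.mul_pow, ← hrπ, ← map_pow, ← map_pow, ← map_pow,
        hi2, hiu2, hiw2, ← map_mul, ← map_mul, ← mul_assoc, hinv _ hw, map_one]
    have hcm : Commute e m := by
      by_cases he1 : e = 1
      · rw [he1]; exact Commute.one_left m
      obtain ⟨e', he'⟩ := QuotientGroup.mk'_surjective _ e
      obtain ⟨r', hr', hr'π⟩ := lift_two π hker (a := 1) (k := e') (by rw [he', pow_one, he2])
      rw [pow_one] at hr'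
      have h2 : orderOf (e' ^ r') = 2 :=
        orderOf_eq_prime hr' fun h => he1 (by rw [← he', ← hr'π, h, map_one])
      obtain ⟨m', rfl⟩ := QuotientGroup.mk'_surjective _ m
      rw [← he', ← hr'π]
      exact (hcen _ h2 m').map π
    have c1 := (hcomm z u hz hu huz.symm m hm _ mu).symm
    have c2 := (hcomm z (z * u) hz hw hwz.symm m hm _ mw).symm
    have : π k = e * (π iu * π iw)⁻¹ := by rw [he, mul_inv_cancel_right]
    rw [this]
    exact hcm.mul_left (c1.mul_left c2).inv_left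
  -- `M` is a cyclic 2-group
  haveI : Fact (Nat.Prime 2) := ⟨Nat.prime_two⟩
  obtain ⟨P⟩ := (inferInstance : Nonempty (Sylow 2 ↥M))
  have huP : TwoGroupsQ.HasUniqueOrderP ↥(P : Subgroup ↥M) 2 := by
    refine TwoGroupsQ.hasUniqueOrderP_two fun x y hx hx1 hy hy1 => Subtype.ext (Subtype.ext ?_)
    have hh : ∀ v : ↥(P : Subgroup ↥M), v ^ 2 = 1 → v ≠ 1 →
        ((v : ↥M) : G ⧸ Cfsg.oddCore G) = π z := fun v hv hv1 =>
      hMuniq z hz _ v.1.2 (congrArg (fun w : ↥(P : Subgroup ↥M) => ((w : ↥M) : G ⧸ Cfsg.oddCore G)) hv)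
        (fun h => hv1 (Subtype.ext (Subtype.ext h)))
    exact (hh x hx hx1).trans (hh y hy hy1).symm
  have hcyc : IsCyclic ↥(P : Subgroup ↥M) := by
    rcases TwoGroupsQ.isCyclic_or_quaternion P.2 huP with h | ⟨-, m, hm, ⟨e⟩⟩
    · exact h
    exfalso
    haveI : NeZero (2 ^ m) := ⟨by positivity⟩
    set v := e.symm (QuaternionGroup.xa 0) with hv
    have hev : e v = QuaternionGroup.xa 0 := e.apply_symm_apply _
    have ho : orderOf v = 4 := by
      rw [hv, ← QuaternionGroup.orderOf_xa (n := 2 ^ m) 0]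
      exact orderOf_injective e.symm.toMonoidHom e.symm.injective _
    have hho : orderOf ((v : ↥M) : G ⧸ Cfsg.oddCore G) = 4 := by
      rw [Subgroup.orderOf_coe, Subgroup.orderOf_coe, ho]
    have hcen' := hfourCentral _ v.1.2 (by rw [← hho, pow_orderOf_eq_one])
      (fun h => by
        have := orderOf_dvd_of_pow_eq_one h
        rw [hho] at this
        norm_num at this)
    have h2 := BrauerSuzuki.quaternion_center hm (z := e v) fun w => by
      obtain ⟨w, rfl⟩ := e.surjective w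
      exact (show Commute v w from
        Subtype.ext (Subtype.ext (hcen' _ w.1.2).eq)).map e
    rw [← map_pow, EmbeddingLike.map_eq_one_iff] at h2
    have := orderOf_dvd_of_pow_eq_one h2
    rw [ho] at this
    norm_num at this
  have hPtop : (P : Subgroup ↥M) = ⊤ := by
    by_cases h2 : 2 ∣ Nat.card ↥M
    · have hmin : (Nat.card ↥M).minFac = 2 :=
        Nat.minFac_eq_two_iff _ |>.2 h2
      set T := (MonoidHom.transferSylow P (hcyc.normalizer_le_centralizer hmin)).ker with hTdef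
      have hT : T.IsComplement' (P : Subgroup ↥M) := MonoidHom.ker_transferSylow_isComplement' P (hcyc.normalizer_le_centralizer hmin)
      have hTodd : Odd (Nat.card T) := by
        rw [← hT.index_eq_card]
        exact Nat.not_even_iff_odd.1 fun h => P.not_dvd_index (even_iff_two_dvd.1 h)
      haveI : T.Normal := MonoidHom.normal_ker _
      have hle : T.map M.subtype ≤ Cfsg.oddCore (G ⧸ Cfsg.oddCore G) :=
        (map_mono (PLocal.le_pPrimeCore (Nat.coprime_two_right.2 hTodd))).trans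
          (PLocal.pPrimeCore_map_subtype_le M)
      rw [hbot, le_bot_iff, map_eq_bot_iff_of_injective _ M.subtype_injective] at hle
      rw [hle] at hT
      exact Subgroup.eq_top_of_card_eq _ (by simpa using hT.card_mul)
    · have : M ≤ Cfsg.oddCore (G ⧸ Cfsg.oddCore G) :=
        PLocal.le_pPrimeCore (Nat.coprime_two_right.2 (Nat.not_even_iff_odd.1
          (by rwa [even_iff_two_dvd])))
      rw [hbot, le_bot_iff] at this
      haveI : Subsingleton ↥M := by rw [this]; infer_instance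
      exact Subsingleton.elim _ _
  have hM2 : IsPGroup 2 ↥M := P.2.of_equiv
    ((MulEquiv.subgroupCongr hPtop).trans Subgroup.topEquiv)
  haveI : IsCyclic ↥M :=
    isCyclic_of_surjective (P : Subgroup ↥M).subtype fun x => ⟨⟨x, hPtop ▸ mem_top x⟩, rfl⟩
  -- odd elements centralise `M`
  set c := π (g * a * g⁻¹ * a⁻¹) with hc
  have hcM : c ∈ M := mem_map_of_mem π hmem
  have hca : Commute (π a) c := by
    have h1 : MulAut.conjNormal (H := M) (π a) = 1 :=
      aut_eq_one_of_cyclic hM2 hN (by rw [← map_pow, ← map_pow, ha, map_one, map_one])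
    have h2 := congrArg (fun φ : MulAut ↥M => ((φ ⟨c, hcM⟩ : ↥M) : G ⧸ Cfsg.oddCore G)) h1
    simp only [MulAut.conjNormal_apply, MulAut.one_apply] at h2
    exact mul_inv_eq_iff_eq_mul.1 h2
  have hcN : c ^ N = 1 := by
    have h1 : (c * π a) ^ N = 1 := by
      rw [hc, ← map_mul, inv_mul_cancel_right, ← map_pow, conj_pow, ha, mul_one, mul_inv_cancel,
        map_one]
    rwa [hca.symm.mul_pow, ← map_pow π a, ha, map_one, mul_one] at h1
  have : c = 1 := by
    obtain ⟨l, hl⟩ := hM2 ⟨c, hcM⟩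
    have h1 : orderOf c ∣ Nat.gcd N (2 ^ l) :=
      Nat.dvd_gcd (orderOf_dvd_of_pow_eq_one hcN)
        (orderOf_dvd_of_pow_eq_one (congrArg Subtype.val hl))
    rwa [((Nat.coprime_two_right.2 hN).pow_right l).gcd_eq_one, Nat.dvd_one,
      orderOf_eq_one_iff] at h1
  rw [hc, hπ] at this
  exact (QuotientGroup.eq_one_iff _).1 this

end Central

/-! ### The action -/

section Action

variable {H A : Type*} [Group H] [AddCommGroup A] {q : ℕ}

/-- The elements fixing every fixed vector of `z`. -/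
def fixer (ρ : H →* AddMonoid.End A) (z : H) : Subgroup H where
  carrier := {k | ∀ v : A, ρ z v = v → ρ k v = v}
  one_mem' := fun v _ => by rw [map_one]; rfl
  mul_mem' := fun {a b} ha hb v hv => by
    rw [map_mul]
    show ρ a (ρ b v) = v
    rw [hb v hv, ha v hv]
  inv_mem' := fun {a} ha v hv => by
    have h1 : ρ a⁻¹ (ρ a v) = v := by
      show (ρ a⁻¹ * ρ a) v = v
      rw [← map_mul, inv_mul_cancel, map_one]; rfl
    rwa [ha v hv] at h1

variable {ρ : H →* AddMonoid.End A}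

theorem apply_mul (a b : H) (v : A) : ρ (a * b) v = ρ a (ρ b v) := by rw [map_mul]; rfl

theorem mem_fixer {z k : H} : k ∈ fixer ρ z ↔ ∀ v : A, ρ z v = v → ρ k v = v := Iff.rfl

theorem conj_mem_fixer {z k h : H} (hk : k ∈ fixer ρ z) :
    h * k * h⁻¹ ∈ fixer ρ (h * z * h⁻¹) := by
  intro v hv
  have hinv : ∀ w : A, ρ h (ρ h⁻¹ w) = w := fun w => by
    rw [← apply_mul, mul_inv_cancel, map_one]; rfl
  have hz : ρ z (ρ h⁻¹ v) = ρ h⁻¹ v := by
    rw [apply_mul, apply_mul] at hv
    have := congrArg (ρ h⁻¹) hv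
    rwa [← apply_mul h⁻¹ h, inv_mul_cancel, map_one] at this
  rw [apply_mul, apply_mul, hk _ hz, hinv]

variable [Finite H] [Finite A] [Fact q.Prime]

theorem eq_zero_of_add_self (hq2 : q ≠ 2) (hA : ∀ v : A, q • v = 0) {v : A} (h : v + v = 0) :
    v = 0 := by
  obtain ⟨k, hk⟩ := (Fact.out : q.Prime).odd_of_ne_two hq2
  have h2 : (2 : ℕ) • v = 0 := by rw [two_nsmul]; exact h
  have := hA v
  rwa [hk, add_nsmul, one_nsmul, mul_nsmul, h2, nsmul_zero, zero_add] at this

/-- An involution in `fixer ρ z` is `z` if all involutions are conjugate and `ρ` is faithful. -/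
theorem eq_of_mem_fixer (hq2 : q ≠ 2) (hA : ∀ v : A, q • v = 0) (hinj : Function.Injective ρ)
    (hconj : ∀ s t : H, orderOf s = 2 → orderOf t = 2 → IsConj s t) {z w : H}
    (hz : orderOf z = 2) (hw : orderOf w = 2) (hzw : Commute z w) (h : w ∈ fixer ρ z) : w = z := by
  obtain ⟨g, hg⟩ := isConj_iff.1 (hconj z w hz hw)
  have hzz : ∀ v, ρ z (ρ z v) = v := fun v => by
    rw [← apply_mul, ← pow_two, ← hz, pow_orderOf_eq_one, map_one]; rfl
  have hww : ∀ v, ρ w (ρ w v) = v := fun v => by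
    rw [← apply_mul, ← pow_two, ← hw, pow_orderOf_eq_one, map_one]; rfl
  have hcm : ∀ v, ρ w (ρ z v) = ρ z (ρ w v) := fun v => by rw [← apply_mul, ← apply_mul, hzw.eq]
  -- the fixed spaces have the same order, hence are equal
  set Fz : Set A := {v | ρ z v = v}
  set Fw : Set A := {v | ρ w v = v}
  have hgg : ∀ v, ρ g⁻¹ (ρ g v) = v := fun v => by
    rw [← apply_mul, inv_mul_cancel, map_one]; rfl
  have hFeq : Fz = Fw := by
    refine Set.eq_of_subset_of_ncard_le (fun v hv => h v hv) ?_ (Set.toFinite _)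
    refine Set.ncard_le_ncard_of_injOn (fun v => ρ g⁻¹ v) (fun v hv => ?_) ?_ (Set.toFinite Fz)
    · show ρ z (ρ g⁻¹ v) = ρ g⁻¹ v
      have hv' : ρ (g * z * g⁻¹) v = v := by rw [hg]; exact hv
      conv_rhs => rw [← hv']
      rw [apply_mul, apply_mul, hgg]
    · intro v _ u _ huv
      have := congrArg (ρ g) huv
      simpa only [← apply_mul, mul_inv_cancel, map_one, AddMonoid.End.one_apply] using this
  refine hinj (DFunLike.ext _ _ fun v => ?_)
  have h1 : ρ w (v + ρ z v) = v + ρ z v := h _ (by rw [map_add, hzz, add_comm])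
  have h2 : ρ w (v - ρ z v) = -(v - ρ z v) := by
    set d := v - ρ z v with hd
    have hzd : ρ z d = -d := by rw [hd, map_sub, hzz, neg_sub]
    have hfix : d + ρ w d ∈ Fz := hFeq ▸ (show ρ w (d + ρ w d) = d + ρ w d by
      rw [map_add, hww, add_comm])
    have hneg : ρ z (d + ρ w d) = -(d + ρ w d) := by
      rw [map_add, ← hcm, hzd, map_neg, neg_add]
    have : (d + ρ w d) + (d + ρ w d) = 0 :=
      add_eq_zero_iff_eq_neg.2 ((show ρ z (d + ρ w d) = d + ρ w d from hfix).symm.trans hneg)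
    exact eq_neg_of_add_eq_zero_right (eq_zero_of_add_self hq2 hA this)
  rw [map_add] at h1
  rw [map_sub] at h2
  refine sub_eq_zero.1 (eq_zero_of_add_self hq2 hA ?_)
  calc ρ w v - ρ z v + (ρ w v - ρ z v)
      = (ρ w v + ρ w (ρ z v)) + (ρ w v - ρ w (ρ z v)) - (ρ z v + ρ z v) := by abel
    _ = 0 := by rw [h1, h2]; abel

theorem eq_bot_of_normal_pGroup (hA : ∀ v : A, q • v = 0) (hnt : Nontrivial A)
    (hinj : Function.Injective ρ)
    (hirr : ∀ B : AddSubgroup A, (∀ h : H, ∀ v ∈ B, ρ h v ∈ B) → B = ⊥ ∨ B = ⊤)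
    {P : Subgroup H} (hPn : P.Normal) (hP : IsPGroup q P) : P = ⊥ := by
  letI : MulAction P A := MulAction.compHom A ((ρ.comp P.subtype) : P →* AddMonoid.End A)
  have hsmul : ∀ (k : P) (v : A), k • v = ρ (k : H) v := fun _ _ => rfl
  let B : AddSubgroup A :=
    { carrier := {v | ∀ k : P, ρ (k : H) v = v}
      zero_mem' := fun k => map_zero _
      add_mem' := fun {a b} ha hb k => by rw [map_add, ha k, hb k]
      neg_mem' := fun {a} ha k => by rw [map_neg, ha k] }
  have hdvd : q ∣ Nat.card A := by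
    obtain ⟨v, hv⟩ := exists_ne (0 : A)
    rw [← addOrderOf_eq_prime (hA v) hv]
    exact addOrderOf_dvd_natCard v
  have hmod := hP.card_modEq_card_fixedPoints A
  have hfix : q ∣ Nat.card (MulAction.fixedPoints P A) :=
    Nat.modEq_zero_iff_dvd.1 (hmod.symm.trans (Nat.modEq_zero_iff_dvd.2 hdvd))
  have hne : B ≠ ⊥ := by
    intro hB
    have hsub : Subsingleton (MulAction.fixedPoints P A) := by
      refine ⟨fun u v => Subtype.ext ?_⟩
      have hu : ∀ w : MulAction.fixedPoints P A, (w : A) = 0 := fun w => by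
        have hw : (w : A) ∈ B := fun k => by rw [← hsmul]; exact w.2 k
        rwa [hB, AddSubgroup.mem_bot] at hw
      rw [hu u, hu v]
    haveI : Nonempty (MulAction.fixedPoints P A) := ⟨⟨0, fun k => by rw [hsmul, map_zero]⟩⟩
    rw [Nat.card_unique] at hfix
    exact (Fact.out : q.Prime).ne_one (Nat.dvd_one.1 hfix)
  have htop : B = ⊤ := (hirr B fun h v hv k => by
    have := hv ⟨h⁻¹ * k * h, by simpa using hPn.conj_mem _ k.2 h⁻¹⟩
    calc ρ (k : H) (ρ h v) = ρ h (ρ (h⁻¹ * k * h) v) := by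
          rw [← apply_mul, ← apply_mul]; simp [mul_assoc]
      _ = ρ h v := by rw [this]).resolve_left hne
  rw [eq_bot_iff]
  intro k hk
  refine mem_bot.2 (hinj (DFunLike.ext _ _ fun v => ?_))
  rw [map_one]
  exact (htop ▸ AddSubgroup.mem_top v : v ∈ B) ⟨k, hk⟩

theorem quadratic_conj {x : H} (hx : (ρ x - 1) * (ρ x - 1) = 0) (h : H) :
    (ρ (h * x * h⁻¹) - 1) * (ρ (h * x * h⁻¹) - 1) = 0 := by
  have e : ρ (h * x * h⁻¹) - 1 = ρ h * (ρ x - 1) * ρ h⁻¹ := by
    rw [mul_sub, sub_mul, mul_one, map_mul, map_mul, ← map_mul ρ h h⁻¹, mul_inv_cancel, map_one]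
  calc _ = ρ h * (ρ x - 1) * (ρ h⁻¹ * ρ h) * (ρ x - 1) * ρ h⁻¹ := by
        rw [e]; simp only [mul_assoc]
    _ = 0 := by rw [← map_mul, inv_mul_cancel, map_one, mul_one, mul_assoc (ρ h), hx, mul_zero,
          zero_mul]

/-- The faithful case of `mem_oddCore_of_moved`. -/
theorem mem_oddCore_of_faithful (hq2 : q ≠ 2) (hA : ∀ v : A, q • v = 0)
    (hconj : ∀ s t : H, orderOf s = 2 → orderOf t = 2 → IsConj s t)
    (hfour : ∃ s t : H, orderOf s = 2 ∧ orderOf t = 2 ∧ s ≠ t ∧ Commute s t)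
    (helem : ∀ s t : H, orderOf s = 2 → orderOf t = 2 → s * t * s⁻¹ * t⁻¹ ∈ Cfsg.oddCore H)
    (hirr : ∀ B : AddSubgroup A, (∀ h : H, ∀ v ∈ B, ρ h v ∈ B) → B = ⊥ ∨ B = ⊤)
    (hinj : Function.Injective ρ) {x : H} (hxq : ∃ k : ℕ, x ^ q ^ k = 1)
    (hxL : ∀ s : H, orderOf s = 2 → s * x * s⁻¹ * x⁻¹ ∈ Cfsg.oddCore H)
    (hx : (ρ x - 1) * (ρ x - 1) = 0) : x ∈ Cfsg.oddCore H := by
  obtain ⟨kx, hkx⟩ := hxq
  have hqodd : Odd (q ^ kx) := ((Fact.out : q.Prime).odd_of_ne_two hq2).pow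
  have hnt : Nontrivial A := by
    by_contra h
    rw [not_nontrivial_iff_subsingleton] at h
    obtain ⟨s, t, -, -, hst, -⟩ := hfour
    exact hst (hinj (DFunLike.ext _ _ fun v => Subsingleton.elim _ _))
  set W := Cfsg.oddCore H with hW
  have hWn : W.Normal := pPrimeCore_normal 2 H
  have hWodd : Odd (Nat.card W) := odd_card_oddCore H
  -- `x` centralises `W`
  have hxW : x ∈ centralizer (W : Set H) := by
    set M := W ⊔ zpowers x with hM
    have hModd : Odd (Nat.card M) := by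
      refine Odd.of_dvd_nat (hWodd.mul ?_) (show Nat.card M ∣ Nat.card W * Nat.card (zpowers x) by
        rw [hM, sup_comm, mul_comm]; exact PLocal.card_sup_dvd_mul _ _)
      rw [Nat.card_zpowers]
      exact Odd.of_dvd_nat hqodd (orderOf_dvd_of_pow_eq_one hkx)
    have hxM : x ∈ M := mem_sup_right (mem_zpowers x)
    obtain ⟨N, hNn, hNp, hxN⟩ := Small.baerSuzuki_elem (p := q) (⟨x, hxM⟩ : M) fun g => by
      set X := Subgroup.closure ({(⟨x, hxM⟩ : M), g * ⟨x, hxM⟩ * g⁻¹} : Set M) with hX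
      by_contra hnp
      haveI : Fact (Nat.Prime 2) := ⟨Nat.prime_two⟩
      let ρX : X →* AddMonoid.End A := ρ.comp (M.subtype.comp X.subtype)
      let a : X := ⟨⟨x, hxM⟩, subset_closure (Or.inl rfl)⟩
      let b : X := ⟨g * ⟨x, hxM⟩ * g⁻¹, subset_closure (Or.inr rfl)⟩
      have hgen : Subgroup.closure ({a, b} : Set X) = ⊤ := by
        apply map_injective X.subtype_injective
        rw [MonoidHom.map_closure, ← MonoidHom.range_eq_map, range_subtype, Set.image_pair]
        rfl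
      obtain ⟨T⟩ := (inferInstance : Nonempty (Sylow 2 X))
      obtain ⟨i, hi, j, -, hij⟩ := QuadPair.exists_noncommute (ρ := ρX) hq2 hA hgen
        (ha := hx) (hb := quadratic_conj hx (g : H)) T (by
          by_contra hc
          push Not at hc
          exact hnp fun y => let ⟨k, hk⟩ := hc y
            ⟨k, Subtype.ext (Subtype.ext (hinj (hk.trans (map_one ρ).symm)))⟩)
      obtain ⟨l, hl⟩ := T.2 ⟨i, hi⟩
      have h1 : orderOf i ∣ Nat.gcd (Nat.card M) (2 ^ l) :=
        Nat.dvd_gcd ((orderOf_dvd_natCard i).trans X.card_subgroup_dvd_card)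
          (orderOf_dvd_of_pow_eq_one (congrArg Subtype.val hl))
      rw [((Nat.coprime_two_right.2 hModd).pow_right l).gcd_eq_one, Nat.dvd_one,
        orderOf_eq_one_iff] at h1
      exact hij (by rw [h1, map_one]; exact Commute.one_left _)
    set R : Subgroup H := W ⊓ N.map M.subtype with hR
    have hRp : IsPGroup q R := (hNp.map M.subtype).to_le inf_le_right
    have hRW : W ≤ Subgroup.normalizer (R : Set H) := by
      have hfw : ∀ w ∈ W, ∀ r ∈ R, w * r * w⁻¹ ∈ R := by
        rintro w hw _ ⟨hr1, n, hn, rfl⟩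
        exact ⟨hWn.conj_mem _ hr1 w, _, hNn.conj_mem n hn ⟨w, mem_sup_left hw⟩, rfl⟩
      refine fun w hw => mem_normalizer_iff.2 fun r => ⟨hfw w hw r, fun h => ?_⟩
      simpa [mul_assoc] using hfw w⁻¹ (inv_mem hw) _ h
    have hR0 : R = ⊥ := le_bot_iff.1 ((LocalStructure.le_pCoreOf inf_le_left hRW hRp).trans
      (eq_bot_of_normal_pGroup hA hnt hinj hirr (LocalStructure.pCoreOf_normal W)
        (LocalStructure.pCoreOf_isPGroup W)).le)
    rw [mem_centralizer_iff]
    intro w hw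
    have hwW : w * x * w⁻¹ * x⁻¹ ∈ R := by
      refine ⟨?_, (⟨w, mem_sup_left hw⟩ * ⟨x, hxM⟩ * ⟨w, mem_sup_left hw⟩⁻¹ * ⟨x, hxM⟩⁻¹ : M),
        mul_mem (hNn.conj_mem _ hxN _) (inv_mem hxN), rfl⟩
      rw [show w * x * w⁻¹ * x⁻¹ = w * (x * w⁻¹ * x⁻¹) by simp [mul_assoc]]
      exact mul_mem hw (hWn.conj_mem _ (inv_mem hw) x)
    rw [hR0, mem_bot, mul_inv_eq_one] at hwW
    exact mul_inv_eq_iff_eq_mul.1 hwW
  -- all involutions centralise `W`
  haveI : (centralizer (W : Set H)).Normal := Subgroup.normal_centralizer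
  by_cases hCinv : ∀ s ∈ centralizer (W : Set H), orderOf s ≠ 2
  · exact (PLocal.le_pPrimeCore (Nat.coprime_two_right.2 (odd_card_of_no_involution hCinv))
      : centralizer (W : Set H) ≤ W) hxW
  push Not at hCinv
  obtain ⟨s₀, hs₀C, hs₀⟩ := hCinv
  have hinvC : ∀ s : H, orderOf s = 2 → s ∈ centralizer (W : Set H) := fun s hs => by
    obtain ⟨g, rfl⟩ := isConj_iff.1 (hconj s₀ s hs₀ hs)
    exact (inferInstance : (centralizer (W : Set H)).Normal).conj_mem _ hs₀C g
  have hcomm1 : ∀ s y : H, orderOf s = 2 → s * y * s⁻¹ * y⁻¹ ∈ W → Commute s y := by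
    intro s y hs hc
    have hss : s * s = 1 := by rw [← pow_two, ← hs, pow_orderOf_eq_one]
    have hsi : s⁻¹ = s := inv_eq_of_mul_eq_one_right hss
    set c := s * y * s⁻¹ * y⁻¹ with hcdef
    have h1 : c * s = s * c := mem_centralizer_iff.1 (hinvC s hs) c hc
    have h2 : s * c * s = c⁻¹ := by
      rw [hcdef, hsi]
      simp only [mul_inv_rev, inv_inv, hsi, ← mul_assoc]
      rw [hss, one_mul]
    have h3 : c⁻¹ = c := by rw [← h2, ← h1, mul_assoc, hss, mul_one]
    have hc1 : c = 1 := eq_one_of_sq_of_mem_odd hWodd hc (inv_eq_iff_mul_eq_one.1 h3)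
    rw [hcdef, mul_inv_eq_one, mul_inv_eq_iff_eq_mul] at hc1
    exact hc1
  have hinvol : ∀ s t : H, orderOf s = 2 → orderOf t = 2 → Commute s t := fun s t hs ht =>
    hcomm1 s t hs (helem s t hs ht)
  -- the centralizer of the involutions
  set K := centralizer {s : H | orderOf s = 2} with hK
  haveI hKn : K.Normal := ⟨fun k hk g => mem_centralizer_iff.2 fun s hs => by
    have h1 := mem_centralizer_iff.1 hk (g⁻¹ * s * g)
      (show orderOf (g⁻¹ * s * g) = 2 by
        have := orderOf_injective (MulAut.conj g⁻¹).toMonoidHom (MulAut.conj g⁻¹).injective s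
        simp only [MulEquiv.coe_toMonoidHom, MulAut.conj_apply, inv_inv] at this
        rw [this]; exact hs)
    calc s * (g * k * g⁻¹) = g * (g⁻¹ * s * g * k) * g⁻¹ := by simp [mul_assoc]
      _ = g * (k * (g⁻¹ * s * g)) * g⁻¹ := by rw [h1]
      _ = g * k * g⁻¹ * s := by simp [mul_assoc]⟩
  have hxK : x ∈ K := mem_centralizer_iff.2 fun s hs => (hcomm1 s x hs (hxL s hs)).eq
  have hinK : ∀ s : H, orderOf s = 2 → s ∈ K := fun s hs =>
    mem_centralizer_iff.2 fun t ht => (hinvol t s ht hs).eq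
  have hcenK : ∀ s : K, orderOf s = 2 → ∀ k : K, Commute s k := fun s hs k =>
    Subtype.ext (mem_centralizer_iff.1 k.2 (s : H)
      (show orderOf (s : H) = 2 by rw [Subgroup.orderOf_coe]; exact hs))
  by_cases hall : ∀ h : K, IsPGroup q
      ↥(Subgroup.closure ({(⟨x, hxK⟩ : K), h * ⟨x, hxK⟩ * h⁻¹} : Set K))
  · obtain ⟨N, hNn, hNp, hxN⟩ := Small.baerSuzuki_elem (p := q) (⟨x, hxK⟩ : K) hall
    have hle : N.map K.subtype ≤ pCoreOf q K :=
      map_mono (LocalStructure.le_pCore (hN := hNn) hNp)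
    have : x ∈ (⊥ : Subgroup H) :=
      eq_bot_of_normal_pGroup hA hnt hinj hirr (LocalStructure.pCoreOf_normal K)
        (LocalStructure.pCoreOf_isPGroup K) ▸ hle ⟨_, hxN, rfl⟩
    rw [mem_bot.1 this]
    exact one_mem _
  push Not at hall
  obtain ⟨h₀, hh₀⟩ := hall
  exfalso
  set X := Subgroup.closure ({(⟨x, hxK⟩ : K), h₀ * ⟨x, hxK⟩ * h₀⁻¹} : Set K) with hX
  let ρX : X →* AddMonoid.End A := ρ.comp (K.subtype.comp X.subtype)
  let a : X := ⟨⟨x, hxK⟩, subset_closure (Or.inl rfl)⟩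
  let b : X := ⟨h₀ * ⟨x, hxK⟩ * h₀⁻¹, subset_closure (Or.inr rfl)⟩
  have hρX : Function.Injective ρX := fun u v h => Subtype.ext (Subtype.ext (hinj h))
  have hgen : Subgroup.closure ({a, b} : Set X) = ⊤ := by
    apply map_injective X.subtype_injective
    rw [MonoidHom.map_closure, ← MonoidHom.range_eq_map, range_subtype, Set.image_pair]
    rfl
  have haq : (ρX a - 1) * (ρX a - 1) = 0 := hx
  have hbq : (ρX b - 1) * (ρX b - 1) = 0 := quadratic_conj hx (h₀ : H)
  haveI : Fact (Nat.Prime 2) := ⟨Nat.prime_two⟩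
  obtain ⟨T⟩ := (inferInstance : Nonempty (Sylow 2 X))
  obtain ⟨i₀, hi₀, j₀, hj₀, hij⟩ := QuadPair.exists_noncommute (ρ := ρX) hq2 hA hgen haq hbq T (by
    by_contra hc
    push Not at hc
    exact hh₀ fun y => let ⟨k, hk⟩ := hc y
      ⟨k, hρX (hk.trans (map_one ρX).symm)⟩)
  -- an element of order four in `T`
  obtain ⟨g, hgT, hg4, hg2⟩ : ∃ g ∈ (T : Subgroup X), g ^ 4 = 1 ∧ g ^ 2 ≠ 1 := by
    by_contra! hno
    have hexp : ∀ u ∈ (T : Subgroup X), u ^ 2 = 1 := by
      intro u hu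
      obtain ⟨l, hl⟩ := IsPGroup.iff_orderOf.1 T.2 ⟨u, hu⟩
      rw [Subgroup.orderOf_mk] at hl
      rcases Nat.lt_or_ge l 2 with hl2 | hl2
      · exact orderOf_dvd_iff_pow_eq_one.1 (hl ▸ pow_dvd_pow 2 (Nat.lt_succ_iff.1 hl2))
      · exfalso
        have hu4 : (u ^ 2 ^ (l - 2)) ^ 4 = 1 := by
          rw [← pow_mul, show 2 ^ (l - 2) * 4 = 2 ^ (l - 2 + 2) by rw [pow_add]; norm_num,
            Nat.sub_add_cancel hl2, ← hl, pow_orderOf_eq_one]
        have h2 := hno _ (pow_mem hu _) hu4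
        rw [← pow_mul, ← pow_succ] at h2
        have := orderOf_dvd_of_pow_eq_one h2
        rw [hl] at this
        have := (Nat.pow_dvd_pow_iff_le_right (by norm_num : 1 < 2)).1 this
        omega
    refine hij ((show Commute i₀ j₀ from ?_).map ρX)
    have hm : i₀ * i₀ = 1 := by rw [← pow_two]; exact hexp _ hi₀
    have hm' : j₀ * j₀ = 1 := by rw [← pow_two]; exact hexp _ hj₀
    have hmm : (i₀ * j₀) * (i₀ * j₀) = 1 := by rw [← pow_two]; exact hexp _ (mul_mem hi₀ hj₀)
    calc i₀ * j₀ = i₀ * ((i₀ * j₀) * (i₀ * j₀)) * j₀ := by rw [hmm, mul_one]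
      _ = (i₀ * i₀) * (j₀ * i₀) * (j₀ * j₀) := by simp only [mul_assoc]
      _ = j₀ * i₀ := by rw [hm, hm', one_mul, mul_one]
  obtain ⟨j, hjT, hgj⟩ : ∃ j ∈ (T : Subgroup X), g * j * g⁻¹ * j⁻¹ ≠ 1 := by
    by_contra! hc
    apply hg2
    refine hρX ?_
    rw [map_pow, map_one, pow_two]
    refine QuadPair.sq_eq_one_of_commute_sylow hq2 hgen T _ A rfl hA ρX haq hbq g hgT fun s hs => ?_
    exact (show Commute g s from mul_inv_eq_iff_eq_mul.1 (mul_inv_eq_one.1 (hc s hs))).map ρX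
  set z : K := (g : K) ^ 2 with hzdef
  have hz : orderOf z = 2 := by
    refine orderOf_eq_prime ?_ fun h => hg2 (Subtype.ext (by simpa using h))
    rw [hzdef, ← pow_mul]
    exact_mod_cast congrArg Subtype.val hg4
  have hzH : orderOf (z : H) = 2 := by rw [Subgroup.orderOf_coe]; exact hz
  -- the family of fixers
  let F : K → Subgroup K := fun s => (fixer ρ (s : H)).subgroupOf K
  have hFn : ∀ s : K, orderOf s = 2 → (F s).Normal := fun s hs => ⟨fun k hk c => by
    show ((c * k * c⁻¹ : K) : H) ∈ fixer ρ (s : H)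
    have hcs : (c : H) * s * (c : H)⁻¹ = s := by
      rw [mul_inv_eq_iff_eq_mul]
      exact (congrArg Subtype.val (hcenK s hs c).eq).symm
    rw [← hcs]
    exact conj_mem_fixer hk⟩
  have hco : ∀ s : K, orderOf s = 2 → orderOf (s : H) = 2 := fun s hs => by
    rw [Subgroup.orderOf_coe]; exact hs
  have hfourK : ∀ s : K, orderOf s = 2 → ∃ t, orderOf t = 2 ∧ t ≠ s := by
    intro s _
    obtain ⟨u, v, hu, hv, huv, -⟩ := hfour
    have ho : ∀ w (hw : orderOf w = 2), orderOf (⟨w, hinK w hw⟩ : K) = 2 := fun w hw => by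
      rw [Subgroup.orderOf_mk]; exact hw
    by_cases h : (⟨u, hinK u hu⟩ : K) = s
    · exact ⟨⟨v, hinK v hv⟩, ho v hv, fun h' => huv (congrArg Subtype.val (h.trans h'.symm))⟩
    · exact ⟨_, ho u hu, h⟩
  have hsqrt : ∀ s t : K, orderOf s = 2 → orderOf t = 2 → (∃ i ∈ F s, i ^ 2 = s) →
      ∃ i ∈ F t, i ^ 2 = t := by
    rintro s t hs ht ⟨i, hi, hi2⟩
    obtain ⟨c, hc⟩ := isConj_iff.1 (hconj s t (hco s hs) (hco t ht))
    refine ⟨⟨c * i * c⁻¹, hKn.conj_mem _ i.2 c⟩, ?_, Subtype.ext ?_⟩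
    · show c * i * c⁻¹ ∈ fixer ρ (t : H)
      rw [← hc]
      exact conj_mem_fixer hi
    · show (c * i * c⁻¹) ^ 2 = (t : H)
      rw [conj_pow, show ((i : H)) ^ 2 = s from congrArg Subtype.val hi2, hc]
  have huniq : ∀ s t : K, orderOf s = 2 → orderOf t = 2 → t ∈ F s → t = s := fun s t hs ht hts =>
    Subtype.ext (eq_of_mem_fixer hq2 hA hinj hconj (hco s hs) (hco t ht)
      (hinvol _ _ (hco s hs) (hco t ht)) hts)
  -- on the fixed space of `z`, `g` is a central involution
  have hFmem : ∀ l : X, (g : K) * l * (g : K)⁻¹ * (l : K)⁻¹ ∈ F z := by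
    intro l
    let B : AddSubgroup A := AddMonoidHom.eqLocus (ρ (z : H) : A →+ A) (AddMonoidHom.id A)
    have hmemB : ∀ v, v ∈ B ↔ ρ (z : H) v = v := fun v => Iff.rfl
    have hBinv : ∀ y : X, ∀ v ∈ B, ρX y v ∈ B := fun y v hv => by
      rw [hmemB] at hv ⊢
      show ρ (z : H) (ρ ((y : K) : H) v) = ρ ((y : K) : H) v
      have hzy : (z : H) * ((y : K) : H) = ((y : K) : H) * (z : H) :=
        congrArg Subtype.val (hcenK z hz (y : K)).eq
      rw [← apply_mul, hzy, apply_mul, hv]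
    have hgB : QuadPair.restrict ρX B hBinv g * QuadPair.restrict ρX B hBinv g = 1 := by
      refine DFunLike.ext (F := B →+ B) _ _ fun v => Subtype.ext ?_
      show ρ ((g : K) : H) (ρ ((g : K) : H) (v : A)) = v
      rw [← apply_mul, ← pow_two, ← Subgroup.coe_pow, ← hzdef]
      exact v.2
    have hcm := QuadPair.invol_commute (ρ := QuadPair.restrict ρX B hBinv) hq2
      (fun w => Subtype.ext (by simpa using hA (w : A))) hgen
      (QuadPair.restrict_quadratic B hBinv haq) (QuadPair.restrict_quadratic B hBinv hbq) hgB l⁻¹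
    show ((g : K) * l * (g : K)⁻¹ * (l : K)⁻¹ : K).1 ∈ fixer ρ (z : H)
    intro v hv
    -- evaluate at `v`
    have h1 : ρX g⁻¹ (ρX l⁻¹ v) = ρX l⁻¹ (ρX g⁻¹ v) := by
      have e1 : ∀ w, ρX g⁻¹ (ρX g w) = w := fun w => by
        show (ρX g⁻¹ * ρX g) w = w
        rw [← map_mul, inv_mul_cancel, map_one]; rfl
      have e2 : ∀ w, ρX g (ρX g⁻¹ w) = w := fun w => by
        show (ρX g * ρX g⁻¹) w = w
        rw [← map_mul, mul_inv_cancel, map_one]; rfl
      have h2 : ρX g (ρX l⁻¹ (ρX g⁻¹ v)) = ρX l⁻¹ (ρX g (ρX g⁻¹ v)) :=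
        congrArg Subtype.val (DFunLike.congr_fun hcm.eq (⟨ρX g⁻¹ v, hBinv _ v hv⟩ : B))
      rw [e2] at h2
      rw [← h2, e1]
    show ρX (g * l * g⁻¹ * l⁻¹) v = v
    rw [map_mul, map_mul, map_mul]
    show ρX g (ρX l (ρX g⁻¹ (ρX l⁻¹ v))) = v
    rw [h1]
    have e3 : ∀ (y : X) w, ρX y (ρX y⁻¹ w) = w := fun y w => by
      show (ρX y * ρX y⁻¹) w = w
      rw [← map_mul, mul_inv_cancel, map_one]; rfl
    rw [e3, e3]
  -- modulo `O(K)` the generators commute with `g`
  have hgenO : ∀ y : X, y ^ q ^ kx = 1 →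
      (g : K) * y * (g : K)⁻¹ * (y : K)⁻¹ ∈ Cfsg.oddCore K := fun y hy =>
    comm_mem_oddCore_of_family hcenK F hFn huniq hfourK hsqrt hz hqodd
      (by rw [← Subgroup.coe_pow, hy, Subgroup.coe_one]) (hFmem y)
  set π := QuotientGroup.mk' (Cfsg.oddCore K) with hπ
  have hXcomm : ∀ l : X, Commute (π (g : K)) (π (l : K)) := by
    have hgens : ∀ y : X, y ^ q ^ kx = 1 → Commute (π (g : K)) (π (y : K)) := fun y hy => by
      have := (QuotientGroup.eq_one_iff _).2 (hgenO y hy)
      rw [← QuotientGroup.mk'_apply, ← hπ, map_mul, map_mul, map_mul, map_inv, map_inv,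
        mul_inv_eq_one, mul_inv_eq_iff_eq_mul] at this
      exact this
    intro l
    have hl : l ∈ Subgroup.closure ({a, b} : Set X) := hgen ▸ mem_top l
    induction hl using Subgroup.closure_induction with
    | mem y hy =>
      refine hgens y ?_
      rcases hy with rfl | rfl
      · exact Subtype.ext (Subtype.ext (by simpa using hkx))
      · refine Subtype.ext (Subtype.ext ?_)
        simp only [b, Subgroup.coe_pow, Subgroup.coe_mul, Subgroup.coe_inv, Subgroup.coe_one]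
        rw [conj_pow, hkx, mul_one, mul_inv_cancel]
    | one => rw [Subgroup.coe_one, map_one]; exact Commute.one_right _
    | mul u v _ _ hu hv => rw [Subgroup.coe_mul, map_mul]; exact hu.mul_right hv
    | inv u _ hu => rw [Subgroup.coe_inv, map_inv]; exact hu.inv_right
  set d : X := g * j * g⁻¹ * j⁻¹ with hd
  have hdT : d ∈ (T : Subgroup X) :=
    mul_mem (mul_mem (mul_mem hgT hjT) (inv_mem hgT)) (inv_mem hjT)
  have hdO : (d : K) ∈ Cfsg.oddCore K := by
    apply (QuotientGroup.eq_one_iff _).1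
    rw [← QuotientGroup.mk'_apply, ← hπ, hd, Subgroup.coe_mul, Subgroup.coe_mul, Subgroup.coe_mul,
      Subgroup.coe_inv, Subgroup.coe_inv, map_mul, map_mul, map_mul, map_inv, map_inv, (hXcomm j).eq]
    simp [mul_assoc]
  obtain ⟨l, hl⟩ := T.2 ⟨d, hdT⟩
  have h1 : orderOf (d : K) ∣ Nat.gcd (Nat.card (Cfsg.oddCore K)) (2 ^ l) :=
    Nat.dvd_gcd (Subgroup.orderOf_mk (d : K) hdO ▸ orderOf_dvd_natCard (⟨_, hdO⟩ : Cfsg.oddCore K))
      (orderOf_dvd_of_pow_eq_one (by
        rw [← Subgroup.coe_pow, show d ^ 2 ^ l = 1 from congrArg Subtype.val hl, Subgroup.coe_one]))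
  rw [((Nat.coprime_two_right.2 (odd_card_oddCore K)).pow_right l).gcd_eq_one, Nat.dvd_one,
    orderOf_eq_one_iff] at h1
  exact hgj (Subtype.ext h1)

/-- **Lemma NQ.** A quadratic `q`-element on a moved chief factor that centralises the involutions
modulo the odd core lies in the odd core. -/
theorem mem_oddCore_of_moved (hq2 : q ≠ 2) (hA : ∀ v : A, q • v = 0)
    (hconj : ∀ s t : H, orderOf s = 2 → orderOf t = 2 → IsConj s t)
    (hfour : ∃ s t : H, orderOf s = 2 ∧ orderOf t = 2 ∧ s ≠ t ∧ Commute s t)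
    (helem : ∀ s t : H, orderOf s = 2 → orderOf t = 2 → s * t * s⁻¹ * t⁻¹ ∈ Cfsg.oddCore H)
    (ρ : H →* AddMonoid.End A)
    (hirr : ∀ B : AddSubgroup A, (∀ h : H, ∀ v ∈ B, ρ h v ∈ B) → B = ⊥ ∨ B = ⊤)
    (hmoved : ∃ s : H, orderOf s = 2 ∧ ρ s ≠ 1) {x : H} (hxq : ∃ k : ℕ, x ^ q ^ k = 1)
    (hxL : ∀ s : H, orderOf s = 2 → s * x * s⁻¹ * x⁻¹ ∈ Cfsg.oddCore H)
    (hx : (ρ x - 1) * (ρ x - 1) = 0) : x ∈ Cfsg.oddCore H := by
  obtain ⟨s₀, hs₀, hρs₀⟩ := hmoved
  -- the kernel contains no involution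
  set N := ρ.toHomUnits.ker with hNdef
  have hNno : ∀ s ∈ N, orderOf s ≠ 2 := fun s hs h2 => by
    obtain ⟨g, hg⟩ := isConj_iff.1 (hconj s s₀ h2 hs₀)
    apply hρs₀
    have : s₀ ∈ N := hg ▸ (MonoidHom.normal_ker _).conj_mem s hs g
    exact congrArg Units.val this
  have hNodd : Odd (Nat.card N) := odd_card_of_no_involution hNno
  set π := QuotientGroup.mk' N with hπ
  have hker : Odd (Nat.card π.ker) := by rw [hπ, QuotientGroup.ker_mk']; exact hNodd
  set σ : H ⧸ N →* AddMonoid.End A :=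
    (Units.coeHom _).comp (QuotientGroup.kerLift ρ.toHomUnits) with hσ
  have hσπ : ∀ h : H, σ (π h) = ρ h := fun h => rfl
  have hσinj : Function.Injective σ := fun u v huv =>
    QuotientGroup.kerLift_injective ρ.toHomUnits (Units.ext huv)
  have hord : ∀ s : H, orderOf s = 2 → orderOf (π s) = 2 := fun s hs =>
    orderOf_eq_prime (by rw [← map_pow, ← hs, pow_orderOf_eq_one, map_one])
      fun h => hNno s ((QuotientGroup.eq_one_iff _).1 h) hs
  have hlift : ∀ u : H ⧸ N, orderOf u = 2 → ∃ s : H, orderOf s = 2 ∧ π s = u := by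
    intro u hu
    obtain ⟨k, rfl⟩ := QuotientGroup.mk'_surjective N u
    obtain ⟨r, hr, hrπ⟩ := lift_two π hker (a := 1) (k := k)
      (by rw [pow_one, ← hu, pow_orderOf_eq_one])
    rw [pow_one] at hr
    refine ⟨k ^ r, orderOf_eq_prime hr fun h => ?_, hrπ⟩
    rw [← hrπ, h, map_one, orderOf_one] at hu
    norm_num at hu
  have hWle : ∀ c ∈ Cfsg.oddCore H, π c ∈ Cfsg.oddCore (H ⧸ N) := fun c hc =>
    PLocal.map_pPrimeCore_le_of_surjective (QuotientGroup.mk'_surjective N) ⟨c, hc, rfl⟩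
  have hres : π x ∈ Cfsg.oddCore (H ⧸ N) := by
    refine mem_oddCore_of_faithful (ρ := σ) hq2 hA ?_ ?_ ?_ ?_ hσinj ?_ ?_ (by rw [hσπ]; exact hx)
    · intro u v hu hv
      obtain ⟨s, hs, rfl⟩ := hlift u hu
      obtain ⟨t, ht, rfl⟩ := hlift v hv
      exact π.map_isConj (hconj s t hs ht)
    · obtain ⟨s, t, hs, ht, hst, hc⟩ := hfour
      refine ⟨π s, π t, hord s hs, hord t ht, fun h => ?_, hc.map π⟩
      have hss : s * s = 1 := by rw [← pow_two, ← hs, pow_orderOf_eq_one]
      have hmem : s⁻¹ * t ∈ N := QuotientGroup.eq.1 h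
      rw [inv_eq_of_mul_eq_one_right hss] at hmem
      refine hNno _ hmem (orderOf_eq_prime ?_ fun h1 => hst ?_)
      · rw [pow_two, ← mul_assoc, mul_assoc s t s, ← hc.eq, ← mul_assoc s s t, hss, one_mul,
          ← pow_two, ← ht, pow_orderOf_eq_one]
      · exact (mul_left_cancel (a := s) (h1.trans hss.symm)).symm
    · intro u v hu hv
      obtain ⟨s, hs, rfl⟩ := hlift u hu
      obtain ⟨t, ht, rfl⟩ := hlift v hv
      simpa using hWle _ (helem s t hs ht)
    · intro B hB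
      exact hirr B fun h v hv => hσπ h ▸ hB (π h) v hv
    · obtain ⟨k, hk⟩ := hxq
      exact ⟨k, by rw [← map_pow, hk, map_one]⟩
    · intro u hu
      obtain ⟨s, hs, rfl⟩ := hlift u hu
      simpa using hWle _ (hxL s hs)
  haveI : ((Cfsg.oddCore (H ⧸ N)).comap π).Normal := inferInstance
  refine (PLocal.le_pPrimeCore (N := (Cfsg.oddCore (H ⧸ N)).comap π)
    (Nat.coprime_two_right.2 (odd_card_of_no_involution fun s hs h2 => ?_))) hres
  have h1 := eq_one_of_sq_of_mem_odd (odd_card_oddCore (H ⧸ N)) (Subgroup.mem_comap.1 hs)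
    (by rw [← pow_two]; exact (orderOf_dvd_iff_pow_eq_one.1 (dvd_of_eq (hord s h2))))
  have h3 := hord s h2
  rw [h1, orderOf_one] at h3
  norm_num at h3

end Action

end CfsgLib.BenderWorld.NoKill
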