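import Cfsg.Agent.BenderWorld.NoKill.Basic
import Cfsg.Agent.Signalizer.Bender

/-!
# Slice F: the maximal subgroup of a Kill, and F1

From `Kill` we get a `Pair`: a maximal subgroup `M` containing all involutions at `a` and at `c`
and the stabilizer of both, where the involutions at a point do not all commute.  Basic facts:
`M` is R2 at both points, its odd core `O` fixes both, and (F1) for every proper `X` containing
`I(a)` and moving `a` we have `O(G_a) ∩ X ≤ O(X)`.
-/

set_option autoImplicit false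
set_option linter.style.haveILetI false

namespace CfsgLib.BenderWorld.NoKill

open CfsgLib.Small CfsgLib.SEmbed Subgroup
open CfsgLib.Signalizer (fittingOf)

variable {G : Type*} [Group G] [Finite G] {Ω : Type*} [MulAction G Ω]

/-- The involutions at some point do not all commute. -/
def NonComm (G : Type*) [Group G] {Ω : Type*} [MulAction G Ω] (a : Ω) : Prop :=
  ∃ s ∈ invMap (G := G) a a, ∃ t ∈ invMap (G := G) a a, ¬ Commute s t

/-- The data given by a Kill whose involutions at a point do not commute. -/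
structure Pair (G : Type*) [Group G] (Ω : Type*) [MulAction G Ω] where
  a : Ω
  c : Ω
  M : Subgroup G
  ne : a ≠ c
  maximal : IsCoatom M
  Ia : ∀ t ∈ invMap (G := G) a a, t ∈ M
  Ic : ∀ t ∈ invMap (G := G) c c, t ∈ M
  pair : pairStab G a c ≤ M
  nca : NonComm G a
  ncc : NonComm G c

omit [Finite G] in
/-- The same data with the two points interchanged. -/
def Pair.symm (P : Pair G Ω) : Pair G Ω :=
  ⟨P.c, P.a, P.M, P.ne.symm, P.maximal, P.Ic, P.Ia,
    le_of_eq_of_le (inf_comm _ _) P.pair, P.ncc, P.nca⟩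

theorem mem_stab {g : G} {x : Ω} : g ∈ MulAction.stabilizer G x ↔ g • x = x := Iff.rfl

omit [Finite G] in
theorem conj_invMap {g t : G} {x : Ω} (ht : t ∈ invMap (G := G) x x) :
    g * t * g⁻¹ ∈ invMap (G := G) (g • x) (g • x) :=
  ⟨by rw [orderOf_conj_eq]; exact ht.1,
    by rw [smul_smul, inv_mul_cancel_right, mul_smul, ht.2]⟩

omit [Finite G] in
theorem odd_orderOf_mem {K : Subgroup G} (hK : Odd (Nat.card K)) {x : G} (hx : x ∈ K) :
    Odd (orderOf x) := hK.of_dvd_nat (orderOf_dvd_natCard K hx)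

omit [Finite G] in
theorem mem_of_pow_two_mem {K : Subgroup G} {x : G} (hodd : Odd (orderOf x)) {n : ℕ}
    (h : x ^ 2 ^ n ∈ K) : x ∈ K :=
  zpowers_le.2 h (mem_zpowers_pow_iff.2 ((Nat.coprime_two_left.2 hodd).pow_left n))

theorem exists_four_at (W : World G Ω) (x : Ω) : ∃ V : Subgroup G, IsFour V ∧ ∀ v ∈ V, v • x = x := by
  obtain ⟨V, hV⟩ := W.four
  obtain ⟨y, hy⟩ := IsFour.exists_point W.uf hV
  obtain ⟨g, rfl⟩ := W.uf.transitive y x
  refine ⟨V.map (MulAut.conj g).toMonoidHom, IsFour.map_conj hV g, ?_⟩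
  rintro _ ⟨v, hv, rfl⟩
  show (g * v * g⁻¹) • g • y = g • y
  rw [smul_smul, inv_mul_cancel_right, mul_smul, mem_stab.1 (hy hv)]

theorem four_le {X V : Subgroup G} {x : Ω} (hI : ∀ t ∈ invMap (G := G) x x, t ∈ X) (hV : IsFour V)
    (hVx : ∀ v ∈ V, v • x = x) : V ≤ X := by
  intro v hv
  rcases eq_or_ne v 1 with rfl | hv1
  · exact X.one_mem
  · exact hI v ⟨hV.orderOf_eq_two hv hv1, hVx v hv⟩

/-- A proper subgroup containing all involutions at `x` and moving `x` is R2 there. -/
theorem isR2 (W : World G Ω) {X : Subgroup G} (hX : X ≠ ⊤) {x : Ω}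
    (hI : ∀ t ∈ invMap (G := G) x x, t ∈ X) (hmov : ∃ g ∈ X, g • x ≠ x) : IsR2 X x := by
  obtain ⟨t, ht, htx⟩ := W.uf.exists_inv x
  refine (W.ih X hX x ⟨t, hI t ⟨ht, htx⟩, ht, htx⟩ hmov).resolve_left fun h1 => ?_
  obtain ⟨V, hV, hVx⟩ := exists_four_at W x
  obtain ⟨g, hg, hgx⟩ := hmov
  obtain ⟨o, ho, c, -, hct, rfl⟩ := h1 t (hI t ⟨ht, htx⟩) ht g hg
  have hnorm : X ≤ normalizer (coreIn X : Set G) := fun y hy => mem_normalizer_iff.2 fun z =>
    ⟨coreIn_conj hy, fun h => by
      simpa [mul_assoc] using coreIn_conj (X.inv_mem hy) h⟩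
  have hox : o • x = x :=
    le_stabilizer_of_normal_odd W.uf hnorm (odd_coreIn X) hV (fun v hv => hVx v hv)
      (four_le hI hV hVx) ho
  exact hgx (by rw [mul_smul, commute_fix W.uf ht hct htx, hox])

/-- A subgroup with all involutions at two points moves the first. -/
theorem exists_moves (W : World G Ω) {X : Subgroup G} {x y : Ω} (hxy : x ≠ y)
    (hI : ∀ t ∈ invMap (G := G) x x, t ∈ X) (hJ : ∀ t ∈ invMap (G := G) y y, t ∈ X) :
    ∃ g ∈ X, g • x = y := by
  obtain ⟨s, hs, hsx⟩ := W.uf.exists_inv x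
  obtain ⟨t, ht, hty⟩ := W.uf.exists_inv y
  exact exists_smul_of_two W.uf (hI s ⟨hs, hsx⟩) (hJ t ⟨ht, hty⟩) ⟨hs, hsx⟩ ⟨ht, hty⟩ hxy

/-- The subgroup generated by the involutions at `x`. -/
def invGen (G : Type*) [Group G] {Ω : Type*} [MulAction G Ω] (x : Ω) : Subgroup G :=
  closure (invMap (G := G) x x)

omit [Finite G] in
theorem invGen_le_stab (x : Ω) : invGen G x ≤ MulAction.stabilizer G x :=
  (closure_le _).2 fun _ ht => ht.2

omit [Finite G] in
theorem conj_mem_invGen {g u : G} {x : Ω} (hg : g • x = x) (hu : u ∈ invGen G x) :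
    g * u * g⁻¹ ∈ invGen G x := by
  have : invGen G x ≤ (invGen G x).comap (MulAut.conj g).toMonoidHom := (closure_le _).2 fun t ht => by
    refine subset_closure ?_
    have h := conj_invMap (g := g) ht
    rwa [hg] at h
  exact this hu

/-- In an R2 group containing the involutions at `x`, the odd elements generated by them lie in
the core. -/
theorem mem_core_of_odd (W : World G Ω) {X : Subgroup G} (hX : X ≠ ⊤) {x : Ω}
    (hI : ∀ t ∈ invMap (G := G) x x, t ∈ X) (hmov : ∃ g ∈ X, g • x ≠ x) {u : G}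
    (hu : u ∈ invGen G x) (hodd : Odd (orderOf u)) : u ∈ coreIn X := by
  obtain ⟨U, -, -, -, hU2, hU3, -, -⟩ := (isR2 W hX hI hmov).twoClosed
  have hL : invGen G x ≤ U := (closure_le _).2 fun t ht =>
    hU3 t ⟨hI t ht, ht.2⟩ 1 (by
      rw [pow_one, pow_two, mul_self_of_orderOf_two ht.1]; exact one_mem _)
  obtain ⟨n, hn⟩ := hU2 u (hL hu)
  exact mem_of_pow_two_mem hodd hn

theorem comm_mem_core (W : World G Ω) {X : Subgroup G} (hX : X ≠ ⊤) {x : Ω}
    (hI : ∀ t ∈ invMap (G := G) x x, t ∈ X) (hmov : ∃ g ∈ X, g • x ≠ x) {s t : G}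
    (hs : s ∈ invMap (G := G) x x) (ht : t ∈ invMap (G := G) x x) :
    s * t * s⁻¹ * t⁻¹ ∈ coreIn X := by
  obtain ⟨U, -, -, -, -, hU3, -, hU7⟩ := (isR2 W hX hI hmov).twoClosed
  exact hU7 s (hU3 s ⟨hI s hs, hs.2⟩ 1 (by
    rw [pow_one, pow_two, mul_self_of_orderOf_two hs.1]; exact one_mem _)) t
    (hU3 t ⟨hI t ht, ht.2⟩ 1 (by
      rw [pow_one, pow_two, mul_self_of_orderOf_two ht.1]; exact one_mem _)) ht.1

/-- **F1**. -/
theorem inf_le_coreIn (W : World G Ω) {X : Subgroup G} (hX : X ≠ ⊤) {x : Ω}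
    (hI : ∀ t ∈ invMap (G := G) x x, t ∈ X) (hmov : ∃ g ∈ X, g • x ≠ x) :
    coreIn (MulAction.stabilizer G x) ⊓ X ≤ coreIn X := by
  classical
  have h2 := isR2 W hX hI hmov
  obtain ⟨U, -, hUle, hUn, hU2, -, hUtr, -⟩ := h2.twoClosed
  have hfix : ∀ w ∈ coreIn (MulAction.stabilizer G x) ⊓ X, ∀ y ∈ MulAction.orbit X x,
      w • y = y := by
    rintro w ⟨hwW, hwX⟩ y hy
    have hwx : w • x = x := coreIn_le _ hwW
    rcases eq_or_ne y x with rfl | hyx
    · exact hwx
    have hwy : w • y ∈ MulAction.orbit X x := by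
      obtain ⟨g, rfl⟩ := hy
      exact ⟨⟨w, hwX⟩ * g, mul_smul w (g : G) x⟩
    have hwyx : w • y ≠ x := fun e => hyx (by
      have := congrArg (fun z => w⁻¹ • z) e
      simp only [inv_smul_smul] at this
      rw [this, inv_smul_eq_iff, hwx])
    obtain ⟨u, hu, huy⟩ := hUtr y hy (w • y) hwy hyx hwyx
    -- `w` commutes with `u` modulo the core
    have hd : w * u * w⁻¹ * u⁻¹ ∈ coreIn X := by
      have hdU : w * u * w⁻¹ * u⁻¹ ∈ U := mul_mem (hUn w ⟨hwX, hwx⟩ u hu) (inv_mem hu)
      have hdW : w * u * w⁻¹ * u⁻¹ ∈ coreIn (MulAction.stabilizer G x) := by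
        rw [show w * u * w⁻¹ * u⁻¹ = w * (u * w⁻¹ * u⁻¹) by group]
        exact mul_mem hwW (coreIn_conj (hUle hu).2 (inv_mem hwW))
      obtain ⟨n, hn⟩ := hU2 _ hdU
      exact mem_of_pow_two_mem (odd_orderOf_mem (odd_coreIn _) hdW) hn
    have hcomm : ∀ z ∈ MulAction.orbit X x, w • u • z = u • w • z := by
      intro z hz
      have hmem : u • w • z ∈ MulAction.orbit X x := by
        obtain ⟨g, rfl⟩ := hz
        exact ⟨⟨u, (hUle hu).1⟩ * ⟨w, hwX⟩ * g, by
          show ((u * w) * (g : G)) • x = u • w • (g : G) • x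
          rw [mul_smul, mul_smul]⟩
      obtain ⟨g, hg⟩ := hmem
      calc w • u • z = (w * u * w⁻¹ * u⁻¹) • u • w • z := by
            simp only [smul_smul]; congr 1; group
        _ = u • w • z := by
            rw [← hg]; exact h2.core_fix _ hd g g.2
    have hpow : ∀ n : ℕ, w ^ n • y = u ^ n • y ∧ u ^ n • y ∈ MulAction.orbit X x ∧
        w • u ^ n • y = u ^ n • w • y := by
      intro n
      induction n with
      | zero => exact ⟨by simp, by simpa using hy, by simp⟩
      | succ n ih =>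
        obtain ⟨h1, hmem, h3⟩ := ih
        refine ⟨?_, ?_, ?_⟩
        · rw [pow_succ', mul_smul, h1, h3, ← huy, smul_smul, ← pow_succ]
        · obtain ⟨g, hg⟩ := hmem
          refine ⟨⟨u, (hUle hu).1⟩ * g, ?_⟩
          show (u * (g : G)) • x = u ^ (n + 1) • y
          rw [pow_succ', mul_smul, mul_smul]
          exact congrArg (u • ·) hg
        · rw [pow_succ', mul_smul, hcomm _ hmem, h3, mul_smul]
    obtain ⟨k, hk⟩ := hU2 u hu
    have hk' : u ^ 2 ^ k • y = y := by
      obtain ⟨g, rfl⟩ := hy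
      exact h2.core_fix _ hk g g.2
    have hu2 : u ^ orderOf w • y = y := by
      rw [← (hpow (orderOf w)).1, pow_orderOf_eq_one, one_smul]
    -- coprime periods
    rw [← huy]
    have hwodd := odd_orderOf_mem (odd_coreIn _) hwW
    have hstab : u ∈ MulAction.stabilizer G y := by
      have h1 : u ^ Nat.gcd (2 ^ k) (orderOf w) ∈ MulAction.stabilizer G y := by
        rw [← zpow_natCast, Nat.gcd_eq_gcd_ab, zpow_add, zpow_mul, zpow_mul, zpow_natCast,
          zpow_natCast]
        exact mul_mem (zpow_mem (mem_stab.2 hk') _) (zpow_mem (mem_stab.2 hu2) _)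
      rwa [((Nat.coprime_two_left.2 hwodd).pow_left k).gcd_eq_one, pow_one] at h1
    exact hstab
  -- the kernel on the orbit
  let K : Subgroup G := X ⊓ ⨅ y : MulAction.orbit X x, MulAction.stabilizer G (y : Ω)
  have hK : ∀ {g : G}, g ∈ K ↔ g ∈ X ∧ ∀ y ∈ MulAction.orbit X x, g • y = y := by
    intro g
    simp [K, mem_inf, mem_iInf, mem_stab]
  have hodd : Odd (Nat.card K) := by
    obtain ⟨g, hg, hgx⟩ := hmov
    refine (odd_pairStab W.uf (Ne.symm hgx)).of_dvd_nat (card_dvd_of_le fun k hk => ?_)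
    obtain ⟨-, hk⟩ := hK.1 hk
    exact mem_pairStab.2 ⟨hk x (MulAction.mem_orbit_self x), hk _ ⟨⟨g, hg⟩, rfl⟩⟩
  haveI : (K.subgroupOf X).Normal := ⟨fun k hk g => by
    obtain ⟨-, hk⟩ := hK.1 (mem_subgroupOf.1 hk)
    refine mem_subgroupOf.2 (hK.2 ⟨(g * _ * g⁻¹ : X).2, fun y hy => ?_⟩)
    have : (g : G)⁻¹ • y ∈ MulAction.orbit X x := by
      obtain ⟨m, rfl⟩ := hy
      exact ⟨g⁻¹ * m, mul_smul (g : G)⁻¹ (m : G) x⟩
    rw [coe_mul, coe_mul, coe_inv, mul_smul, mul_smul, hk _ this, smul_inv_smul]⟩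
  have hKcore : K.subgroupOf X ≤ Cfsg.oddCore X := CfsgLib.BenderUse.le_oddCore (by
    rwa [Nat.card_congr (subgroupOfEquivOfLe (inf_le_left : K ≤ X)).toEquiv])
  intro w hw
  exact ⟨⟨w, hw.2⟩, hKcore (mem_subgroupOf.2 (hK.2 ⟨hw.2, hfix w hw⟩)), rfl⟩

namespace Pair

variable (P : Pair G Ω)

theorem ne_top : P.M ≠ ⊤ := P.maximal.1

theorem moves (W : World G Ω) : ∃ g ∈ P.M, g • P.a ≠ P.a := by
  obtain ⟨g, hg, hgc⟩ := exists_moves W P.ne P.Ia P.Ic
  exact ⟨g, hg, by rw [hgc]; exact P.ne.symm⟩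

theorem coreIn_le_stab (W : World G Ω) : coreIn P.M ≤ MulAction.stabilizer G P.a := fun o ho => by
  have := (isR2 W P.ne_top P.Ia (P.moves W)).core_fix o ho 1 (one_mem _)
  rwa [one_smul] at this

theorem coreIn_le_stab' (W : World G Ω) : coreIn P.M ≤ MulAction.stabilizer G P.c :=
  P.symm.coreIn_le_stab W

/-- All involutions of `M` centralize a subgroup normalised by `M` as soon as one does. -/
theorem commute_all (W : World G Ω) {N : Subgroup G} (hN : P.M ≤ normalizer (N : Set G)) {v : G}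
    (hvM : v ∈ P.M) (hv : orderOf v = 2) (hc : ∀ x ∈ N, Commute x v) {u : G} (huM : u ∈ P.M)
    (hu : orderOf u = 2) {x : G} (hx : x ∈ N) : Commute x u := by
  obtain ⟨s, hs, hsa⟩ := W.uf.exists_inv P.a
  obtain ⟨t, ht, htc⟩ := W.uf.exists_inv P.c
  obtain ⟨m, hm, rfl⟩ := isConj_in W.uf (P.Ia s ⟨hs, hsa⟩) (P.Ic t ⟨ht, htc⟩) hs ht hsa htc P.ne
    hvM huM hv hu
  have h := (hc _ ((mem_normalizer_iff''.1 (hN hm) x).1 hx)).map (MulAut.conj m).toMonoidHom
  simpa [mul_assoc] using h

/-- Fixed by `a` and `c`, so in `M`. -/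
theorem mem_of_fix {g : G} (ha : g • P.a = P.a) (hc : g • P.c = P.c) : g ∈ P.M :=
  P.pair (mem_pairStab.2 ⟨ha, hc⟩)

theorem inf_le_coreIn_self (W : World G Ω) :
    coreIn (MulAction.stabilizer G P.a) ⊓ P.M ≤ coreIn P.M :=
  NoKill.inf_le_coreIn W P.ne_top P.Ia (P.moves W)

end Pair

/-- The point stabilisers are maximal. -/
theorem stab_isCoatom (W : World G Ω) (x : Ω) : IsCoatom (MulAction.stabilizer G x) := by
  refine ⟨fun h => ?_, fun M hM => ((W.maximal x M hM.le).resolve_left fun e => hM.ne e.symm)⟩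
  haveI := W.nontrivial
  obtain ⟨y, hy⟩ := exists_ne x
  obtain ⟨g, hg⟩ := W.uf.transitive x y
  exact hy (hg.symm.trans (mem_stab.1 (h ▸ mem_top g)))

/-- The normalizer of a nontrivial normal subgroup of a point stabilizer fixes the point. -/
theorem normalizer_le_stab (W : World G Ω) {x : Ω} {N : Subgroup G}
    (hN : N ≤ MulAction.stabilizer G x) (hn : MulAction.stabilizer G x ≤ normalizer (N : Set G))
    (h1 : N ≠ ⊥) : normalizer (N : Set G) ≤ MulAction.stabilizer G x := by
  haveI := W.simple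
  exact Signalizer.normalizer_le_of_coatom (stab_isCoatom W x) hN hn h1

theorem Pair.normalizer_le (P : Pair G Ω) (W : World G Ω) {N : Subgroup G}
    (hN : N ≤ P.M) (hn : P.M ≤ normalizer (N : Set G)) (h1 : N ≠ ⊥) :
    normalizer (N : Set G) ≤ P.M := by
  haveI := W.simple
  exact Signalizer.normalizer_le_of_coatom P.maximal hN hn h1

theorem le_normalizer_coreIn (X : Subgroup G) : X ≤ normalizer (coreIn X : Set G) := fun y hy =>
  mem_normalizer_iff.2 fun z =>
    ⟨coreIn_conj hy, fun h => by simpa [mul_assoc] using coreIn_conj (X.inv_mem hy) h⟩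

theorem isSolvable_coreIn (X : Subgroup G) : Group.IsSolvable (coreIn X) :=
  Cfsg.Agent.S0205.result (odd_coreIn X)

theorem normalizer_le_normalizer_fittingOf (K : Subgroup G) :
    normalizer (K : Set G) ≤ normalizer (fittingOf K : Set G) :=
  haveI := Solvable.fittingSubgroup_characteristic (G := K)
  Components.normalizer_le_normalizer_map_subtype _ _

/-- An element of a solvable subgroup commuting with its Fitting subgroup lies in it. -/
theorem mem_fittingOf {K : Subgroup G} (hK : Group.IsSolvable K) {d : G} (hd : d ∈ K)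
    (hc : ∀ y ∈ fittingOf K, Commute y d) : d ∈ fittingOf K := by
  haveI := hK
  refine ⟨⟨d, hd⟩, Solvable.centralizer_fittingSubgroup_le ?_, rfl⟩
  exact mem_centralizer_iff.2 fun y hy => Subtype.ext (hc _ (mem_map_of_mem K.subtype hy)).eq

/-- A solvable subgroup containing the commutators of the involutions at `x`, whose Fitting
subgroup they centralise: they commute. -/
theorem commute_of_fitting {K : Subgroup G} (hK : Group.IsSolvable K) {x : Ω}
    (hd : ∀ s ∈ invMap (G := G) x x, ∀ t ∈ invMap (G := G) x x,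
      s * t * s⁻¹ * t⁻¹ ∈ K ∧ Odd (orderOf (s * t * s⁻¹ * t⁻¹)))
    (hc : ∀ v ∈ invMap (G := G) x x, ∀ y ∈ fittingOf K, Commute y v)
    {s t : G} (hs : s ∈ invMap (G := G) x x) (ht : t ∈ invMap (G := G) x x) : Commute s t := by
  obtain ⟨hdK, hodd⟩ := hd s hs t ht
  set d := s * t * s⁻¹ * t⁻¹ with hdd
  have hdF : d ∈ fittingOf K := mem_fittingOf hK hdK fun y hy =>
    (((hc s hs y hy).mul_right (hc t ht y hy)).mul_right (hc s hs y hy).inv_right).mul_right
      (hc t ht y hy).inv_right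
  have hsi := inv_eq_self_of_orderOf_two hs.1
  have hti := inv_eq_self_of_orderOf_two ht.1
  have hss := mul_self_of_orderOf_two hs.1
  have h1 : s * d * s = d := by
    rw [← (hc s hs d hdF).eq, mul_assoc, hss, mul_one]
  have h2 : d * d = 1 := by
    calc d * d = (s * d * s) * d := by rw [h1]
      _ = 1 := by
        rw [hdd, hsi, hti]
        calc s * (s * t * s * t) * s * (s * t * s * t)
            = (s * s) * t * s * t * (s * s) * t * s * t := by group
          _ = t * s * (t * t) * s * t := by rw [hss]; group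
          _ = 1 := by rw [mul_self_of_orderOf_two ht.1, mul_one, mul_assoc t s s, hss, mul_one,
                        mul_self_of_orderOf_two ht.1]
  have hd1 : d = 1 := by
    obtain ⟨k, hk⟩ := hodd
    have h3 := pow_orderOf_eq_one d
    rwa [hk, pow_succ, pow_mul, pow_two, h2, one_pow, one_mul] at h3
  show s * t = t * s
  calc s * t = d * (t * s) := by rw [hdd]; group
    _ = t * s := by rw [hd1, one_mul]

omit [Finite G] in
theorem comm_mem_invGen {x : Ω} {s t : G} (hs : s ∈ invMap (G := G) x x)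
    (ht : t ∈ invMap (G := G) x x) : s * t * s⁻¹ * t⁻¹ ∈ invGen G x :=
  mul_mem (mul_mem (mul_mem (subset_closure hs) (subset_closure ht)) (inv_mem (subset_closure hs)))
    (inv_mem (subset_closure ht))

namespace Pair

variable (P : Pair G Ω)

omit [Finite G] in
theorem noncomm_false {p : Prop} (h : ∀ s ∈ invMap (G := G) P.a P.a, ∀ t ∈ invMap (G := G) P.a P.a,
    Commute s t) : p := by
  obtain ⟨s, hs, t, ht, hn⟩ := P.nca
  exact (hn (h s hs t ht)).elim

/-- The Fitting subgroup of `O(M)` is moved by every involution of `M`. -/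
theorem exists_moved (W : World G Ω) {v : G} (hvM : v ∈ P.M) (hv : orderOf v = 2) :
    ∃ x ∈ fittingOf (coreIn P.M), ¬ Commute x v := by
  by_contra! h
  refine P.noncomm_false fun s hs t ht => commute_of_fitting (isSolvable_coreIn P.M)
    (fun s hs t ht => ?_) (fun u hu y hy => ?_) hs ht
  · have hd := comm_mem_core W P.ne_top P.Ia (P.moves W) hs ht
    exact ⟨hd, odd_orderOf_mem (odd_coreIn _) hd⟩
  · refine P.commute_all W (fun m hm => ?_) hvM hv h (P.Ia u hu) hu.1 hy
    exact normalizer_le_normalizer_fittingOf _ (le_normalizer_coreIn P.M hm)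

/-- The odd elements generated by the involutions at `a` lie in `O(G_a)`. -/
theorem comm_mem_stabCore (W : World G Ω) {s t : G} (hs : s ∈ invMap (G := G) P.a P.a)
    (ht : t ∈ invMap (G := G) P.a P.a) :
    s * t * s⁻¹ * t⁻¹ ∈ coreIn (MulAction.stabilizer G P.a) := by
  set W0 : Subgroup G := invGen G P.a ⊓ coreIn P.M with hW0
  set H := MulAction.stabilizer G P.a
  have hle : W0 ≤ H := inf_le_left.trans (invGen_le_stab _)
  haveI : (W0.subgroupOf H).Normal := ⟨fun z hz g => by
    rw [mem_subgroupOf, hW0, mem_inf] at hz ⊢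
    have hmem := conj_mem_invGen (mem_stab.1 g.2) hz.1
    refine ⟨hmem, mem_core_of_odd W P.ne_top P.Ia (P.moves W) hmem ?_⟩
    show Odd (orderOf ((g : G) * z * (g : G)⁻¹))
    rw [orderOf_conj_eq]
    exact odd_orderOf_mem (odd_coreIn _) hz.2⟩
  have hodd : Odd (Nat.card (W0.subgroupOf H)) := by
    rw [Nat.card_congr (subgroupOfEquivOfLe hle).toEquiv]
    exact (odd_coreIn P.M).of_dvd_nat (card_dvd_of_le inf_le_right)
  have hmem : s * t * s⁻¹ * t⁻¹ ∈ W0 :=
    ⟨comm_mem_invGen hs ht, comm_mem_core W P.ne_top P.Ia (P.moves W) hs ht⟩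
  exact ⟨⟨_, hle hmem⟩, CfsgLib.BenderUse.le_oddCore hodd (mem_subgroupOf.2 hmem), rfl⟩

/-- No involution at `a` centralises the Fitting subgroup of `O(G_a)`. -/
theorem exists_moved_stab (W : World G Ω) {v : G} (hv : v ∈ invMap (G := G) P.a P.a) :
    ∃ x ∈ fittingOf (coreIn (MulAction.stabilizer G P.a)), ¬ Commute x v := by
  by_contra! h
  refine P.noncomm_false fun s hs t ht => commute_of_fitting
    (isSolvable_coreIn (MulAction.stabilizer G P.a))
    (fun s hs t ht => ?_) (fun u hu y hy => ?_) hs ht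
  · have hd := P.comm_mem_stabCore W hs ht
    exact ⟨hd, odd_orderOf_mem (odd_coreIn _) hd⟩
  · obtain ⟨d, hd, rfl⟩ := exists_conj_fix W.uf P.ne hv hu
    have hn : d ∈ normalizer (fittingOf (coreIn (MulAction.stabilizer G P.a)) : Set G) :=
      normalizer_le_normalizer_fittingOf _
        (le_normalizer_coreIn _ (mem_stab.2 (mem_pairStab.1 hd).1))
    have h1 := (h _ ((mem_normalizer_iff''.1 hn y).1 hy)).map (MulAut.conj d).toMonoidHom
    simpa [mul_assoc] using h1

/-- The centraliser of `F(O(G_a))` in `G_a` lies in it. -/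
theorem mem_fitting_of_commute (W : World G Ω) {x : G} (hx : x • P.a = P.a)
    (hc : ∀ y ∈ fittingOf (coreIn (MulAction.stabilizer G P.a)), Commute y x) :
    x ∈ fittingOf (coreIn (MulAction.stabilizer G P.a)) := by
  set H := MulAction.stabilizer G P.a
  set F := fittingOf (coreIn H)
  set K : Subgroup G := H ⊓ centralizer (F : Set G) with hK
  haveI : (K.subgroupOf H).Normal := ⟨fun z hz g => by
    rw [mem_subgroupOf, hK, mem_inf] at hz ⊢
    refine ⟨(g * z * g⁻¹).2, mem_centralizer_iff.2 fun y hy => ?_⟩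
    have hn : (g : G) ∈ normalizer (F : Set G) :=
      normalizer_le_normalizer_fittingOf _ (le_normalizer_coreIn H g.2)
    have h1 : Commute ((g : G)⁻¹ * y * g) (z : G) :=
      mem_centralizer_iff.1 hz.2 _ ((mem_normalizer_iff''.1 hn y).1 hy)
    have h2 := h1.map (MulAut.conj (g : G)).toMonoidHom
    simp only [MulEquiv.coe_toMonoidHom, MulAut.conj_apply] at h2
    simpa [mul_assoc] using h2.eq⟩
  have hodd : Odd (Nat.card K) := by
    by_contra hev
    obtain ⟨v, hvK, hv⟩ := exists_invol_mem (Nat.not_odd_iff_even.1 hev)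
    obtain ⟨y, hy, hn⟩ := P.exists_moved_stab W ⟨hv, hvK.1⟩
    exact hn (mem_centralizer_iff.1 hvK.2 y hy)
  refine mem_fittingOf (isSolvable_coreIn H) ?_ hc
  exact ⟨⟨x, hx⟩, CfsgLib.BenderUse.le_oddCore
    (by rwa [Nat.card_congr (subgroupOfEquivOfLe (inf_le_left : K ≤ H)).toEquiv])
    (mem_subgroupOf.2 (⟨hx, mem_centralizer_iff.2 fun y hy => (hc y hy).eq⟩ : x ∈ K)), rfl⟩

end Pair

/-- A Kill gives a pair, if the involutions at some point do not commute. -/
theorem exists_pair (W : World G Ω) (hk : Kill G Ω) {x : Ω} (hnc : NonComm G x) :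
    Nonempty (Pair G Ω) := by
  obtain ⟨M0, hM0, a, b, hab, hD, ⟨t, htM, ht⟩, hmov⟩ := hk
  have hI : ∀ s ∈ invMap (G := G) a a, s ∈ M0 := fun s hs => by
    obtain ⟨d, hd, rfl⟩ := exists_conj_fix W.uf hab ht hs
    exact mul_mem (mul_mem (hD hd) htM) (inv_mem (hD hd))
  have hnc' : ∀ y : Ω, NonComm G y := fun y => by
    obtain ⟨g, rfl⟩ := W.uf.transitive x y
    obtain ⟨s, hs, t, ht, hn⟩ := hnc
    refine ⟨_, conj_invMap hs, _, conj_invMap ht, fun h => hn ?_⟩
    have h' := h.map (MulAut.conj g⁻¹).toMonoidHom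
    simpa [mul_assoc] using h'
  obtain ⟨g, hg, hga⟩ := hmov
  set c := g • a with hc
  have hJ : ∀ s ∈ invMap (G := G) c c, s ∈ M0 := fun s hs => by
    have h' := conj_invMap (g := g⁻¹) hs
    rw [hc, inv_smul_smul, inv_inv] at h'
    have := mul_mem (mul_mem hg (hI _ h')) (inv_mem hg)
    simpa [mul_assoc] using this
  set L : Subgroup G := closure (invMap (G := G) a a ∪ invMap (G := G) c c) with hL
  have hLM : L ≤ M0 := (closure_le _).2 fun s hs => hs.elim (hI s) (hJ s)
  have hN : pairStab G a c ≤ normalizer (L : Set G) := by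
    have key : ∀ d ∈ pairStab G a c, ∀ z ∈ L, d * z * d⁻¹ ∈ L := by
      intro d hd z hz
      have hle : L ≤ L.comap (MulAut.conj d).toMonoidHom := by
        obtain ⟨hda, hdc⟩ := mem_pairStab.1 hd
        refine (closure_le _).2 fun s hs => ?_
        rcases hs with hs | hs
        · have h := conj_invMap (g := d) hs
          rw [hda] at h
          exact subset_closure (Or.inl h)
        · have h := conj_invMap (g := d) hs
          rw [hdc] at h
          exact subset_closure (Or.inr h)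
      exact hle hz
    exact fun d hd => mem_normalizer_iff.2 fun z =>
      ⟨key d hd z, fun h => by simpa [mul_assoc] using key d⁻¹ (inv_mem hd) _ h⟩
  obtain ⟨s, hs, hsa⟩ := W.uf.exists_inv a
  have hLb : L ≠ ⊥ := fun e =>
    ne_one_of_orderOf_two hs ((eq_bot_iff_forall L).1 e s (subset_closure (Or.inl ⟨hs, hsa⟩)))
  have hNt : normalizer (L : Set G) ≠ ⊤ := by
    haveI := W.simple
    intro e
    haveI : L.Normal := normalizer_eq_top_iff.1 e
    rcases (inferInstance : L.Normal).eq_bot_or_eq_top with h | h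
    · exact hLb h
    · exact hM0 (top_unique (h ▸ hLM))
  obtain ⟨M, hM, hNM⟩ := (eq_top_or_exists_le_coatom (normalizer (L : Set G))).resolve_left hNt
  exact ⟨⟨a, c, M, fun e => hga e.symm, hM,
    fun s hs => hNM (le_normalizer (subset_closure (Or.inl hs))),
    fun s hs => hNM (le_normalizer (subset_closure (Or.inr hs))),
    hN.trans hNM, hnc' a, hnc' c⟩⟩

end CfsgLib.BenderWorld.NoKill
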